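import Groth.Agent.H23.Chern.WhitneyLine
import Groth.Agent.H28.ExtPull
import Groth.Agent.H28.PBCores
import Groth.Agent.S6454
import Groth.Agent.H23.C1Pull
import Groth.Agent.H23.SecIso

/-! The first Chern class is the class of the determinant. -/

set_option autoImplicit false
set_option backward.isDefEq.respectTransparency false
set_option backward.isDefEq.respectTransparency.types false

universe u

open CategoryTheory CategoryTheory.Limits AlgebraicGeometry TopologicalSpace Opposite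

noncomputable section

namespace Groth.Agent.H23.Chern

open Groth.Agent Groth.Agent.H23.ProjBd RatSec ChowDesc

variable {X : Scheme.{u}} {δ : X → ℤ} (hX : Cyc.IsSetup X δ) {L L' N : X.Modules}

/-- The cap with the first Chern class, computed with some rational sections. -/
def c1v (hL : PicF.IsInvertible L) : AlgebraicCycle X ℤ →+ AlgebraicCycle X ℤ :=
  haveI := hX.1
  AddMonoidHom.mk' (fun a => c1CapCycle hL hX.2.2 a (exists_sections hL).choose (exists_sections hL).choose_spec)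
    fun a b => DFunLike.coe_injective (by
      rw [Function.locallyFinsuppWithin.coe_add, coe_c1CapCycle, coe_c1CapCycle, coe_c1CapCycle, ← Bivar.c1CapFun_add]
      rfl)

theorem coe_c1v (hL : PicF.IsInvertible L) (a : AlgebraicCycle X ℤ) :
    ⇑(c1v hX hL a) = Cyc.c1CapFun δ L ⇑a (exists_sections hL).choose :=
  haveI := hX.1
  coe_c1CapCycle hL hX.2.2 a (exists_sections hL).choose (exists_sections hL).choose_spec

theorem c1v_mem (hL : PicF.IsInvertible L) {k : ℤ} {a : AlgebraicCycle X ℤ} (ha : a ∈ Cyc.Zk X δ k) :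
    c1v hX hL a ∈ Cyc.Zk X δ (k - 1) :=
  haveI := hX.1
  C1Class.capCycle_mem hL hX.2.2 ha (exists_sections hL).choose (exists_sections hL).choose_spec

theorem ratEquiv_trans {k : ℤ} {a b c : AlgebraicCycle X ℤ} (hd : Cyc.IsDimFun X δ) [IsLocallyNoetherian X]
    (h : Cyc.RatEquiv δ k a b) (h' : Cyc.RatEquiv δ k b c) : Cyc.RatEquiv δ k a c :=
  RatOn.trans hd h h'

include hX in
theorem trans' {k : ℤ} {a b c : AlgebraicCycle X ℤ} (h : Cyc.RatEquiv δ k a b) (h' : Cyc.RatEquiv δ k b c) :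
    Cyc.RatEquiv δ k a c :=
  haveI := hX.1
  ratEquiv_trans hX.2.2 h h'

include hX in
theorem symm' {k : ℤ} {a b : AlgebraicCycle X ℤ} (h : Cyc.RatEquiv δ k a b) : Cyc.RatEquiv δ k b a := by
  haveI := hX.1
  have h' := (ratZero hX.2.2 k).neg_mem (show _ ∈ ratZero hX.2.2 k from h)
  rwa [neg_sub] at h'

include hX in
theorem add' {k : ℤ} {a b a' b' : AlgebraicCycle X ℤ} (h : Cyc.RatEquiv δ k a b) (h' : Cyc.RatEquiv δ k a' b') :
    Cyc.RatEquiv δ k (a + a') (b + b') := by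
  haveI := hX.1
  have h'' := (ratZero hX.2.2 k).add_mem (show _ ∈ ratZero hX.2.2 k from h) (show _ ∈ ratZero hX.2.2 k from h')
  rwa [← add_sub_add_comm] at h''

/-- Any sections compute the cap. -/
theorem c1v_eq (hL : PicF.IsInvertible L) {k : ℤ} {a b γ : AlgebraicCycle X ℤ} (ha : a ∈ Cyc.Zk X δ k)
    (hab : Cyc.RatEquiv δ k a b) {t : (ξ : X) → Cyc.secFibre L ξ} (ht : ∀ ξ, t ξ ≠ 0)
    (hγ : ⇑γ = Cyc.c1CapFun δ L ⇑b t) : Cyc.RatEquiv δ (k - 1) (c1v hX hL a) γ := by
  haveI := hX.1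
  exact ratEquiv_cap hL hX.2.2 (k := k - 1) (by rwa [show k - 1 + 1 = k by ring])
    (by rwa [show k - 1 + 1 = k by ring]) (exists_sections hL).choose_spec ht (coe_c1v hX hL a) hγ

theorem c1v_congr (hL : PicF.IsInvertible L) {k : ℤ} {a b : AlgebraicCycle X ℤ} (ha : a ∈ Cyc.Zk X δ k)
    (hab : Cyc.RatEquiv δ k a b) : Cyc.RatEquiv δ (k - 1) (c1v hX hL a) (c1v hX hL b) :=
  c1v_eq hX hL ha hab (exists_sections hL).choose_spec (coe_c1v hX hL b)

theorem c1v_iso (hL : PicF.IsInvertible L) (hL' : PicF.IsInvertible L') (e : L ≅ L') {k : ℤ}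
    {a : AlgebraicCycle X ℤ} (ha : a ∈ Cyc.Zk X δ k) :
    Cyc.RatEquiv δ (k - 1) (c1v hX hL' a) (c1v hX hL a) := by
  haveI := hX.1
  exact c1v_eq hX hL' ha (ratEquiv_rfl a) (mapSec_ne_zero e (exists_sections hL).choose_spec)
    ((coe_c1v hX hL a).trans (c1CapFun_mapSec e hL hL' hX.2.2 ⇑a (exists_sections hL).choose_spec).symm)

theorem c1v_tensor (hL : PicF.IsInvertible L) (hN : PicF.IsInvertible N) {k : ℤ} {a : AlgebraicCycle X ℤ}
    (ha : a ∈ Cyc.Zk X δ k) :
    Cyc.RatEquiv δ (k - 1) (c1v hX (InvX.isInvertible_tensorMod hL hN) a) (c1v hX hL a + c1v hX hN a) :=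
  symm' hX (S6454.result X δ hX L N hL hN (k - 1) a (by rwa [show k - 1 + 1 = k by ring]) _
    (exists_sections hL).choose_spec _ (exists_sections hN).choose_spec _
    (exists_sections (InvX.isInvertible_tensorMod hL hN)).choose_spec _ _ _ (coe_c1v hX hL a) (coe_c1v hX hN a)
    (coe_c1v hX (InvX.isInvertible_tensorMod hL hN) a))

theorem c1v_unit (hO : PicF.IsInvertible (Coh.structureModule X)) {k : ℤ} {a : AlgebraicCycle X ℤ}
    (ha : a ∈ Cyc.Zk X δ k) : Cyc.RatEquiv δ (k - 1) (c1v hX hO a) 0 := by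
  haveI := hX.1
  refine c1v_eq hX hO ha (ratEquiv_rfl a) C1Desc.oneSec_ne_zero (funext fun x => ?_)
  exact (finsum_eq_zero_of_forall_eq_zero fun ξ => by rw [C1Desc.secDivFun_one hX.2.2, mul_zero]).symm

variable {P : Scheme.{u}} {π : P ⟶ X} {d : ℕ} (hT : Tower π d) [LocallyOfFiniteType π]

theorem pullT_c1v (hL : PicF.IsInvertible L) {k : ℤ} {a : AlgebraicCycle X ℤ} (ha : a ∈ Cyc.Zk X δ k) :
    Cyc.RatEquiv (fun z => δ (π z) + FibDim.rd π z) (k + d - 1) (pullT hT hX (c1v hX hL a))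
      (c1v (isSetup_rd π hX) (PicClLib.isInvertible_pullback π hL) (pullT hT hX a)) := by
  haveI := hT.flat
  haveI := hX.1
  haveI := (isSetup_rd π hX).1
  exact C1Pull.ratEquiv_pull hL (PicClLib.isInvertible_pullback π hL)
    (FlatShift.hasShift_of_hasRelDim π (hT.hasRelDim hX) (deltaCompat_rd π δ)) hX.2.2 (isSetup_rd π hX).2.2 a ha
    (exists_sections hL).choose_spec
    (exists_sections (PicClLib.isInvertible_pullback π hL)).choose_spec
    ((pullT_coe hX hT _).trans (by rw [coe_c1v])) ((coe_c1v _ _ _).trans (by rw [pullT_coe]))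

omit [LocallyOfFiniteType π] in
theorem Filt.rank {E : X.Modules} {r : ℕ} (h : Filt E r) : FlatMod.IsFinLocFreeOfRank r E := by
  induction h with
  | zero E h =>
    refine H28.KvbModel.rank_of_frameAt fun x => ⟨⊤, Fin.elim0, trivial, fun W hW => ?_⟩
    haveI : Subsingleton Γ(E, W) := ⟨fun s t => by
      have e : 𝟙 E = 0 := (IsZero.iff_id_eq_zero _).1 h
      have hs : ∀ u, u = (0 : Γ(E, W)) := fun u => congrArg (fun φ : E ⟶ E => φ.app W u) e
      rw [hs s, hs t]⟩
    exact ⟨fun _ _ _ => Subsingleton.elim _ _, fun t => ⟨Fin.elim0, Subsingleton.elim _ _⟩⟩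
  | step S hS h3 r h ih =>
    exact H28.KvbModel.rank_of_frameAt fun x => H28.KvbModel.frameAt_ses hS
      (H28.KvbModel.frameAt_of_rank ih x)
      (H28.KvbModel.frameAt_of_rank (InvEnd.isFinLocFreeOfRank_one h3) x)

/-- The first class. -/
def fstC {r : ℕ} (γ : Fin (r + 1) → AlgebraicCycle X ℤ) : AlgebraicCycle X ℤ :=
  if h : 1 < r + 1 then γ ⟨1, h⟩ else 0

include hX in
omit [LocallyOfFiniteType π] in
theorem fstC_filt {E : X.Modules} {r : ℕ} (hF : Filt E r) : ∀ {D : X.Modules} (hD : PicF.IsInvertible D),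
    ExtPow.IsExtPow r E D → ∀ {k : ℤ} {α : AlgebraicCycle X ℤ}, α ∈ Cyc.Zk X δ k →
      ∀ {γ : Fin (r + 1) → AlgebraicCycle X ℤ}, IsC δ E r k α γ →
        Cyc.RatEquiv δ (k - 1) (fstC γ) (c1v hX hD α) := by
  haveI := hX.1
  induction hF with
  | zero E h =>
    intro D hD hDE k α hα γ _
    have l := H28.KvbModel.lf_of_rank (Filt.zero E h).rank
    obtain ⟨e⟩ := H28.ExtSh.nonempty_iso_L l hDE
    obtain ⟨e₀⟩ := H28.ExtSh.nonempty_iso_L l (H28.KvbLam.isExtPow_zero E)
    rw [fstC, dif_neg (lt_irrefl 1)]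
    exact symm' hX (trans' hX (c1v_iso hX InvX.isInvertible_structureModule hD (e₀.symm ≪≫ e) hα)
      (c1v_unit hX _ hα))
  | step S hS h3 r h ih =>
    intro D hD hDE k α hα γ hγ
    have h₁ := h.rank
    have h₃ := InvEnd.isFinLocFreeOfRank_one h3
    have l₁ := H28.KvbModel.lf_of_rank h₁
    obtain ⟨eD⟩ := H28.ExtSh.nonempty_iso_L (H28.KvbModel.lf_of_rank (Filt.step S hS h3 r h).rank) hDE
    obtain ⟨eT⟩ := H28.PBCores.det_ext hS h₁ h₃
    have hD₁ : PicF.IsInvertible (H28.ExtBase.L S.X₁ r) :=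
      H28.PBCores.isInvertible_iff_rank.2 (H28.PBCores.rank_top h₁)
    obtain ⟨t, ht⟩ := exists_sections h3
    let β := c1CapCycle h3 hX.2.2 α t ht
    have hγ₂ : IsC δ S.X₃ 1 k α ![α, β] := isC_line hX h3 hα ht (coe_c1CapCycle h3 hX.2.2 α t ht)
    choose ε hε using fun b : Fin (1 + 1) => exists_isC hX h₁ (hγ₂.mem hX h₃ b)
    have hw := whitney hX hS h₁ h₃ (Filt.step S hS h3 r h).rank hα hγ₂ hε hγ ⟨1, by omega⟩
    rw [show k - (((⟨1, by omega⟩ : Fin (r + 1 + 1)) : ℕ) : ℤ) = k - 1 by simp] at hw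
    rw [fstC, dif_pos (by omega)]
    refine trans' hX hw (trans' hX ?_ (symm' hX (trans' hX
      (c1v_iso hX (InvX.isInvertible_tensorMod hD₁ h3) hD (eT ≪≫ eD) hα) (c1v_tensor hX hD₁ h3 hα))))
    have hk : k - (((0 : Fin (1 + 1)) : ℕ) : ℤ) = k := by simp
    have hε0 := hε 0
    rw [hk, Matrix.cons_val_zero] at hε0
    have hi := ih hD₁ (H28.ExtSh.isExtPow_L r l₁) hα hε0
    have hi' := (hε 1).zero hX h₁
    have hβ : Cyc.RatEquiv δ (k - 1) (ε 1 0) (c1v hX h3 α) := by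
      rw [hi']
      exact symm' hX (c1v_eq hX h3 hα (ratEquiv_rfl α) ht (coe_c1CapCycle h3 hX.2.2 α t ht))
    refine Eq.mp ?_ (add' hX hi hβ)
    congr 1
    rcases Nat.eq_zero_or_pos r with rfl | hr
    · simp [fstC, Fin.sum_univ_two]
    · rw [fstC, dif_pos (by omega)]
      rw [Finset.sum_comm, Fin.sum_univ_two]
      simp only [Fin.val_zero, Fin.val_one, Nat.add_zero]
      rw [Finset.sum_eq_single (⟨1, by omega⟩ : Fin (r + 1)) (fun c _ hc => if_neg fun e => hc (Fin.ext e))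
        (fun hc => absurd (Finset.mem_univ _) hc), if_pos rfl,
        Finset.sum_eq_single (0 : Fin (r + 1)) (fun c _ hc => if_neg fun e => hc (Fin.ext (show (c : ℕ) = 0 by omega)))
        (fun hc => absurd (Finset.mem_univ _) hc), if_pos (by simp)]

include hX in
omit [LocallyOfFiniteType π] in
theorem fstC_det {E : X.Modules} {r : ℕ} (hE : FlatMod.IsFinLocFreeOfRank r E) {D : X.Modules}
    (hD : PicF.IsInvertible D) (hDE : ExtPow.IsExtPow r E D) {k : ℤ} {α : AlgebraicCycle X ℤ}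
    (hα : α ∈ Cyc.Zk X δ k) {γ : Fin (r + 1) → AlgebraicCycle X ℤ} (hγ : IsC δ E r k α γ) :
    Cyc.RatEquiv δ (k - 1) (fstC γ) (c1v hX hD α) := by
  haveI := hX.1
  obtain ⟨P, π, d, hT, hF⟩ := exists_split r E hE
  haveI := hT.proper
  haveI := hT.flat
  have l := H28.KvbModel.lf_of_rank hE
  have hm : fstC γ ∈ Cyc.Zk X δ (k - 1) := by
    rw [fstC]; split_ifs with h
    · exact by simpa using hγ.mem hX hE ⟨1, h⟩
    · exact (ChowOps.zk X δ _).zero_mem
  refine ratEquiv_of_pullT hX hT hm (c1v_mem hX hD hα) ?_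
  obtain ⟨e⟩ := H28.ExtPull.nonempty_pullback_L π r l
  obtain ⟨eD⟩ := H28.ExtSh.nonempty_iso_L l hDE
  have l' := H28.KvbPull.lf_pull π l
  have hD' := PicClLib.isInvertible_pullback π hD
  have hL' : PicF.IsInvertible (H28.ExtBase.L ((Scheme.Modules.pullback π).obj E) r) :=
    H28.PBCores.isInvertible_iff_rank.2 (H28.PBCores.rank_top (GrassFlag.rank_pullback π hE))
  have hP := isSetup_rd π hX
  have hα' := pullT_mem hX hT hα
  have h := fstC_filt hP hF hL' (H28.ExtSh.isExtPow_L r l') hα' (hγ.pullT hX hE hT)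
  have hf : fstC (fun j => pullT hT hX (γ j)) = pullT hT hX (fstC γ) := by
    rw [fstC, fstC]; split_ifs
    · rfl
    · exact (map_zero _).symm
  rw [hf] at h
  rw [show k - 1 + (d : ℤ) = k + d - 1 by ring]
  exact trans' hP h (trans' hP
    (symm' hP (c1v_iso hP hL' hD' (e.symm ≪≫ (Scheme.Modules.pullback π).mapIso eD) hα'))
    (symm' hP (pullT_c1v hX hT hD hα)))

end Groth.Agent.H23.Chern

end
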