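import Groth.Agent.H23.Chern.Pieces
import Groth.Agent.H28.PullVB
import Groth.Agent.Lib.InvEnd

/-! Invertible pieces of an extension; modules filtered with invertible quotients. -/

set_option autoImplicit false
set_option backward.isDefEq.respectTransparency false
set_option backward.isDefEq.respectTransparency.types false

universe u

open CategoryTheory CategoryTheory.Limits AlgebraicGeometry TopologicalSpace Opposite

noncomputable section

namespace Groth.Agent.H23.Chern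

open Groth.Agent Algz7.Canon2

variable {X : Scheme.{u}} {E₁ E E₂ : X.Modules} {a : E₁ ⟶ E} {b : E ⟶ E₂} {hab : a ≫ b = 0}
  (hex : (ShortComplex.mk a b hab).ShortExact) {r₁ r₂ : ℕ} (D₁ : Pieces E₁ r₁) (D₂ : Pieces E₂ r₂)

/-- The modules of the pieces of an extension. -/
def catM (b : E ⟶ E₂) : Fin (r₁ + r₂) → X.Modules := Fin.addCases D₁.M fun i => pullback b (D₂.f i)

/-- The invertible modules of the pieces of an extension. -/
def catL : Fin (r₁ + r₂) → X.Modules := Fin.addCases D₁.L D₂.L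

theorem catM_left (i : Fin r₁) : catM D₁ D₂ b (Fin.castAdd r₂ i) = D₁.M i := Fin.addCases_left i
theorem catM_right (i : Fin r₂) : catM D₁ D₂ b (Fin.natAdd r₁ i) = pullback b (D₂.f i) := Fin.addCases_right i
theorem catL_left (i : Fin r₁) : catL D₁ D₂ (Fin.castAdd r₂ i) = D₁.L i := Fin.addCases_left i
theorem catL_right (i : Fin r₂) : catL D₁ D₂ (Fin.natAdd r₁ i) = D₂.L i := Fin.addCases_right i

/-- The maps to the extension. -/
def catF (a : E₁ ⟶ E) (b : E ⟶ E₂) : ∀ i, catM D₁ D₂ b i ⟶ E :=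
  Fin.addCases (motive := fun i => catM D₁ D₂ b i ⟶ E) (fun i => eqToHom (catM_left D₁ D₂ i) ≫ D₁.f i ≫ a)
    (fun i => eqToHom (catM_right D₁ D₂ i) ≫ pullback.fst b (D₂.f i))

/-- The maps to the invertible modules. -/
def catG (b : E ⟶ E₂) : ∀ i, catM D₁ D₂ b i ⟶ catL D₁ D₂ i :=
  Fin.addCases (motive := fun i => catM D₁ D₂ b i ⟶ catL D₁ D₂ i)
    (fun i => eqToHom (catM_left D₁ D₂ i) ≫ D₁.g i ≫ eqToHom (catL_left D₁ D₂ i).symm)
    (fun i => eqToHom (catM_right D₁ D₂ i) ≫ pullback.snd b (D₂.f i) ≫ D₂.g i ≫ eqToHom (catL_right D₁ D₂ i).symm)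

theorem range_comp_iso {A B C : X.Modules} (φ : A ⟶ B) [IsIso φ] (ψ : B ⟶ C) (y : X) :
    LinearMap.range (Algz.stalkMapₗ (φ ≫ ψ) y) = LinearMap.range (Algz.stalkMapₗ ψ y) := by
  refine le_antisymm ?_ ?_
  · rintro _ ⟨m, rfl⟩
    exact ⟨_, (stalk_comp φ ψ y m).symm⟩
  · rintro _ ⟨m, rfl⟩
    obtain ⟨m', rfl⟩ := stalk_surjective φ y m
    exact ⟨m', stalk_comp φ ψ y m'⟩

theorem range_catF_left (i : Fin r₁) (y : X) :
    LinearMap.range (Algz.stalkMapₗ (catF D₁ D₂ a b (Fin.castAdd r₂ i)) y) =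
      (LinearMap.range (Algz.stalkMapₗ (D₁.f i) y)).map (Algz.stalkMapₗ a y) := by
  rw [show catF D₁ D₂ a b (Fin.castAdd r₂ i) = eqToHom (catM_left D₁ D₂ i) ≫ D₁.f i ≫ a from Fin.addCases_left i,
    range_comp_iso]
  refine le_antisymm ?_ ?_
  · rintro _ ⟨m, rfl⟩
    exact ⟨_, ⟨m, rfl⟩, (stalk_comp _ a y m).symm⟩
  · rintro _ ⟨_, ⟨m, rfl⟩, rfl⟩
    exact ⟨m, stalk_comp _ a y m⟩

theorem range_catF_right (i : Fin r₂) (y : X) :
    LinearMap.range (Algz.stalkMapₗ (catF D₁ D₂ a b (Fin.natAdd r₁ i)) y) =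
      LinearMap.range (Algz.stalkMapₗ (pullback.fst b (D₂.f i)) y) := by
  rw [show catF D₁ D₂ a b (Fin.natAdd r₁ i) = eqToHom (catM_right D₁ D₂ i) ≫ pullback.fst b (D₂.f i) from
    Fin.addCases_right i, range_comp_iso]

include hex in
theorem epi_snd (i : Fin r₂) : Epi (pullback.snd b (D₂.f i)) := by
  haveI : Epi b := hex.epi_g
  infer_instance

include hex in
theorem map_range_fst (i : Fin r₂) (y : X) :
    (LinearMap.range (Algz.stalkMapₗ (pullback.fst b (D₂.f i)) y)).map (Algz.stalkMapₗ b y) =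
      LinearMap.range (Algz.stalkMapₗ (D₂.f i) y) := by
  haveI := epi_snd hex D₂ i
  refine le_antisymm ?_ ?_
  · rintro _ ⟨_, ⟨m, rfl⟩, rfl⟩
    refine ⟨Algz.stalkMapₗ (pullback.snd b (D₂.f i)) y m, ?_⟩
    rw [← stalk_comp, ← stalk_comp, pullback.condition]
  · rintro _ ⟨m, rfl⟩
    obtain ⟨m', rfl⟩ := stalk_surjective (pullback.snd b (D₂.f i)) y m
    refine ⟨_, ⟨m', rfl⟩, ?_⟩
    rw [← stalk_comp, ← stalk_comp, pullback.condition]

include hex in
/-- The images of the pieces contain the kernel of the projection and the preimage of those of the quotient. -/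
theorem mem_sup (S : Set (Fin r₂)) (y : X) {m : E.presheaf.stalk y}
    (hm : Algz.stalkMapₗ b y m ∈ ⨆ l : S, LinearMap.range (Algz.stalkMapₗ (D₂.f l.1) y)) :
    m ∈ (⨆ l : Fin r₁, LinearMap.range (Algz.stalkMapₗ (catF D₁ D₂ a b (Fin.castAdd r₂ l)) y)) ⊔
      ⨆ l : S, LinearMap.range (Algz.stalkMapₗ (catF D₁ D₂ a b (Fin.natAdd r₁ l.1)) y) := by
  simp only [range_catF_left, range_catF_right, ← Submodule.map_iSup, D₁.top, Submodule.map_top]
  simp only [← map_range_fst hex D₂, ← Submodule.map_iSup] at hm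
  obtain ⟨w, hw, he⟩ := hm
  refine Submodule.mem_sup.2 ⟨m - w, ?_, w, hw, sub_add_cancel _ _⟩
  refine (stalk_exact _ hex.exact y).le ?_
  rw [LinearMap.mem_ker, map_sub]
  exact sub_eq_zero.2 he.symm

/-- The pieces of an extension. -/
def Pieces.concat : Pieces E (r₁ + r₂) where
  M := catM D₁ D₂ b
  L := catL D₁ D₂
  inv := Fin.addCases (fun i => (catL_left D₁ D₂ i).symm ▸ D₁.inv i)
    fun i => (catL_right D₁ D₂ i).symm ▸ D₂.inv i
  f := catF D₁ D₂ a b
  g := catG D₁ D₂ b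
  surj := by
    refine Fin.addCases (fun i y => ?_) fun i y => ?_
    · rw [show catG D₁ D₂ b (Fin.castAdd r₂ i) = eqToHom (catM_left D₁ D₂ i) ≫ D₁.g i ≫
        eqToHom (catL_left D₁ D₂ i).symm from Fin.addCases_left i]
      intro v
      obtain ⟨v', rfl⟩ := stalk_surjective (eqToHom (catL_left D₁ D₂ i).symm) y v
      obtain ⟨m, rfl⟩ := D₁.surj i y v'
      obtain ⟨m', rfl⟩ := stalk_surjective (eqToHom (catM_left D₁ D₂ (b := b) i)) y m
      exact ⟨m', by rw [stalk_comp, stalk_comp]⟩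
    · haveI := epi_snd hex D₂ i
      rw [show catG D₁ D₂ b (Fin.natAdd r₁ i) = eqToHom (catM_right D₁ D₂ i) ≫ pullback.snd b (D₂.f i) ≫ D₂.g i ≫
        eqToHom (catL_right D₁ D₂ i).symm from Fin.addCases_right i]
      intro v
      obtain ⟨v', rfl⟩ := stalk_surjective (eqToHom (catL_right D₁ D₂ i).symm) y v
      obtain ⟨m, rfl⟩ := D₂.surj i y v'
      obtain ⟨m', rfl⟩ := stalk_surjective (pullback.snd b (D₂.f i)) y m
      obtain ⟨m'', rfl⟩ := stalk_surjective (eqToHom (catM_right D₁ D₂ (b := b) i)) y m'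
      exact ⟨m'', by rw [stalk_comp, stalk_comp, stalk_comp]⟩
  ker := by
    refine Fin.addCases (fun i y m hm => ?_) fun i y m hm => ?_
    · rw [show catG D₁ D₂ b (Fin.castAdd r₂ i) = eqToHom (catM_left D₁ D₂ i) ≫ D₁.g i ≫
        eqToHom (catL_left D₁ D₂ i).symm from Fin.addCases_left i, stalk_comp, stalk_comp] at hm
      have h0 := stalk_injective (eqToHom (catL_left D₁ D₂ i).symm) y (hm.trans (map_zero _).symm)
      rw [show catF D₁ D₂ a b (Fin.castAdd r₂ i) = eqToHom (catM_left D₁ D₂ i) ≫ D₁.f i ≫ a from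
        Fin.addCases_left i, stalk_comp, stalk_comp]
      have := Submodule.mem_map_of_mem (f := Algz.stalkMapₗ a y) (D₁.ker i y _ h0)
      simp only [Submodule.map_iSup, ← range_catF_left D₁ D₂ (b := b)] at this
      exact (iSup_le fun l => le_iSup_of_le
        (⟨Fin.castAdd r₂ l.1, Fin.lt_def.2 (Fin.lt_def.1 l.2)⟩ : {l // l < Fin.castAdd r₂ i}) le_rfl :
        (⨆ l : {l : Fin r₁ // l < i}, LinearMap.range (Algz.stalkMapₗ (catF D₁ D₂ a b (Fin.castAdd r₂ l.1)) y)) ≤ _)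
        this
    · rw [show catG D₁ D₂ b (Fin.natAdd r₁ i) = eqToHom (catM_right D₁ D₂ i) ≫ pullback.snd b (D₂.f i) ≫ D₂.g i ≫
        eqToHom (catL_right D₁ D₂ i).symm from Fin.addCases_right i, stalk_comp, stalk_comp, stalk_comp] at hm
      have h0 := stalk_injective (eqToHom (catL_right D₁ D₂ i).symm) y (hm.trans (map_zero _).symm)
      rw [show catF D₁ D₂ a b (Fin.natAdd r₁ i) = eqToHom (catM_right D₁ D₂ i) ≫ pullback.fst b (D₂.f i) from
        Fin.addCases_right i, stalk_comp]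
      have h1 := D₂.ker i y _ h0
      rw [← stalk_comp, ← pullback.condition, stalk_comp] at h1
      have hle : (⨆ l : Fin r₁, LinearMap.range (Algz.stalkMapₗ (catF D₁ D₂ a b (Fin.castAdd r₂ l)) y)) ⊔
          ⨆ l : ({l | l < i} : Set (Fin r₂)), LinearMap.range (Algz.stalkMapₗ (catF D₁ D₂ a b (Fin.natAdd r₁ l.1)) y) ≤
          ⨆ l : {l // l < Fin.natAdd r₁ i}, LinearMap.range (Algz.stalkMapₗ (catF D₁ D₂ a b l.1) y) :=
        sup_le
          (iSup_le fun l => le_iSup_of_le (⟨Fin.castAdd r₂ l, Fin.lt_def.2 (Nat.lt_add_right _ l.2)⟩ :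
            {l // l < Fin.natAdd r₁ i}) le_rfl)
          (iSup_le fun l => le_iSup_of_le (⟨Fin.natAdd r₁ l.1, Fin.lt_def.2 (Nat.add_lt_add_left l.2 r₁)⟩ :
            {l // l < Fin.natAdd r₁ i}) le_rfl)
      exact hle (mem_sup hex D₁ D₂ {l | l < i} y h1)
  top y := by
    refine eq_top_iff.2 fun m _ => ?_
    have hm : Algz.stalkMapₗ b y m ∈ ⨆ l : (Set.univ : Set (Fin r₂)), LinearMap.range (Algz.stalkMapₗ (D₂.f l.1) y) := by
      have h := (D₂.top y).ge (Submodule.mem_top (x := Algz.stalkMapₗ b y m))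
      exact (iSup_le fun l => le_iSup_of_le (⟨l, trivial⟩ : (Set.univ : Set (Fin r₂))) le_rfl :
        (⨆ l, LinearMap.range (Algz.stalkMapₗ (D₂.f l) y)) ≤ _) h
    have hle : (⨆ l : Fin r₁, LinearMap.range (Algz.stalkMapₗ (catF D₁ D₂ a b (Fin.castAdd r₂ l)) y)) ⊔
        ⨆ l : (Set.univ : Set (Fin r₂)), LinearMap.range (Algz.stalkMapₗ (catF D₁ D₂ a b (Fin.natAdd r₁ l.1)) y) ≤
        ⨆ l : Fin (r₁ + r₂), LinearMap.range (Algz.stalkMapₗ (catF D₁ D₂ a b l) y) :=
      sup_le (iSup_le fun l => le_iSup_of_le (Fin.castAdd r₂ l) le_rfl)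
        (iSup_le fun l => le_iSup_of_le (Fin.natAdd r₁ l.1) le_rfl)
    exact hle (mem_sup hex D₁ D₂ Set.univ y hm)

theorem Pieces.concat_L_left (i : Fin r₁) : (Pieces.concat hex D₁ D₂).L (Fin.castAdd r₂ i) = D₁.L i :=
  catL_left D₁ D₂ i

theorem Pieces.concat_L_right (i : Fin r₂) : (Pieces.concat hex D₁ D₂).L (Fin.natAdd r₁ i) = D₂.L i :=
  catL_right D₁ D₂ i

theorem stalk_isZero' {A : X.Modules} (hA : IsZero A) (y : X) (m : A.presheaf.stalk y) : m = 0 := by
  rw [← stalk_id A y m, hA.eq_of_src (𝟙 A) 0, stalk_zero]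

/-- No pieces for the zero module. -/
def Pieces.ofIsZero (hE : IsZero E) : Pieces E 0 where
  M := Fin.elim0
  L := Fin.elim0
  inv i := i.elim0
  f i := i.elim0
  g i := i.elim0
  surj i := i.elim0
  ker i := i.elim0
  top y := eq_top_iff.2 fun m _ => by rw [stalk_isZero' hE y m]; exact Submodule.zero_mem _

/-- An invertible module is one piece. -/
def Pieces.single (L : X.Modules) (hL : PicF.IsInvertible L) : Pieces L 1 where
  M _ := L
  L _ := L
  inv _ := hL
  f _ := 𝟙 L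
  g _ := 𝟙 L
  surj _ y v := ⟨v, stalk_id L y v⟩
  ker _ y m hm := by rw [stalk_id] at hm ⊢; rw [hm]; exact Submodule.zero_mem _
  top y := eq_top_iff.2 fun m _ => (le_iSup (fun _ : Fin 1 => LinearMap.range (Algz.stalkMapₗ (𝟙 L) y)) 0) ⟨m, stalk_id L y m⟩

/-- Modules filtered with invertible quotients. -/
inductive Filt : X.Modules → ℕ → Prop
  | zero (E : X.Modules) (h : IsZero E) : Filt E 0
  | step (S : ShortComplex X.Modules) (hS : S.ShortExact) (h3 : PicF.IsInvertible S.X₃) (r : ℕ)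
      (h : Filt S.X₁ r) : Filt S.X₂ (r + 1)

theorem Filt.iso {F : X.Modules} {r : ℕ} (h : Filt E r) (e : E ≅ F) : Filt F r := by
  cases h with
  | zero _ h => exact .zero F (h.of_iso e.symm)
  | step S hS h3 r h =>
    let T : ShortComplex X.Modules := ShortComplex.mk (S.f ≫ e.hom) (e.inv ≫ S.g) (by simp)
    have i : S ≅ T := ShortComplex.isoMk (Iso.refl S.X₁) e (Iso.refl S.X₃) (by simp [T]) (by simp [T])
    exact Filt.step T (ShortComplex.shortExact_of_iso i hS) h3 r h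

theorem Filt.nonempty_pieces {r : ℕ} (h : Filt E r) : Nonempty (Pieces E r) := by
  induction h with
  | zero E h => exact ⟨Pieces.ofIsZero h⟩
  | step S hS h3 r h ih => exact ih.map fun D => Pieces.concat (a := S.f) (b := S.g) hS D (Pieces.single _ h3)

theorem Filt.pull {Y : Scheme.{u}} (f : Y ⟶ X) {r : ℕ} (h : Filt E r) :
    Filt ((Scheme.Modules.pullback f).obj E) r := by
  induction h with
  | zero E h => exact .zero _ ((Scheme.Modules.pullback f).map_isZero h)
  | step S hS h3 r h ih =>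
    exact .step (S.map (Scheme.Modules.pullback f))
      (H28.PullVB.shortExact_pullback f hS (KFlatLib.isFlat_of_isFinLocFree
        fun x => let ⟨U, hx, e⟩ := InvEnd.isFinLocFreeOfRank_one h3 x; ⟨U, 1, hx, e⟩))
      (PicClLib.isInvertible_pullback f h3) r ih

end Groth.Agent.H23.Chern

end
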