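import Groth.Agent.H23.Chern.Comm
import Groth.Agent.H23.Chern.Concat
import Groth.Agent.H23.ProjBd.BcBundle
import Groth.Agent.H23.FlatShift
import Groth.Agent.H23.GysinSq
import Groth.Agent.CycLib.Pull
import Groth.Agent.FibDim.AffineSpaceFibre
import Groth.Agent.H28.PBAtlas
import Groth.Agent.H28.KvbModel
import Groth.Agent.H28.PBCores
import Groth.Agent.H28.PBMake
import Groth.Agent.KFlatLib.Perfect.Top

/-! Towers of projective bundles and the splitting construction. -/

set_option autoImplicit false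
set_option backward.isDefEq.respectTransparency false
set_option backward.isDefEq.respectTransparency.types false

universe u

open CategoryTheory CategoryTheory.Limits AlgebraicGeometry TopologicalSpace Opposite

noncomputable section

namespace Groth.Agent.H23.Chern

open Groth.Agent Groth.Agent.H23.ProjBd RatSec ChowDesc

/-- Compositions of projective bundles, with the total fibre dimension. -/
inductive Tower : {P X : Scheme.{u}} → (P ⟶ X) → ℕ → Prop
  | of_iso {P X : Scheme.{u}} (π : P ⟶ X) (h : IsIso π) : Tower π 0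
  | step {P X₁ X : Scheme.{u}} (π : P ⟶ X₁) (d : ℕ) (h : Tower π d) (p : X₁ ⟶ X) (E : X.Modules) (O1 : X₁.Modules)
      (q : (Scheme.Modules.pullback p).obj E ⟶ O1) (n : ℕ) (hE : FlatMod.IsFinLocFreeOfRank (n + 1) E)
      (hP : KRR.IsProjBundle p E O1 q) : Tower (π ≫ p) (d + n)

variable {P X : Scheme.{u}} {π : P ⟶ X} {d : ℕ}

theorem Tower.proper (h : Tower π d) : IsProper π := by
  induction h with
  | of_iso π h => infer_instance
  | step π d h p E O1 q n hE hP ih =>
    haveI := isProper_of_projBundle hP hE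
    infer_instance

theorem Tower.flat (h : Tower π d) : Flat π := by
  induction h with
  | of_iso π h => infer_instance
  | step π d h p E O1 q n hE hP ih =>
    haveI := (hasCoords_of_projBundle hP hE).flat
    infer_instance

theorem isSetup_rd {Y : Scheme.{u}} (f : Y ⟶ X) [LocallyOfFiniteType f] {δ : X → ℤ} (hX : Cyc.IsSetup X δ) :
    Cyc.IsSetup Y fun y => δ (f y) + FibDim.rd f y := SetupLFT.isSetup f hX (deltaCompat_rd f δ)

theorem Tower.hasRelDim (h : Tower π d) : ∀ {δ : X → ℤ}, Cyc.IsSetup X δ → Cyc.HasRelDim π d := by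
  induction h with
  | of_iso π h =>
    intro δ hX
    exact (CycLib.hasRelDim_iff π).2 fun z _ => FibDim.rd_eq_zero_of_quasiFinite π z
  | step π d h p E O1 q n hE hP ih =>
    intro δ hX
    haveI := h.flat
    haveI := h.proper
    haveI := isProper_of_projBundle hP hE
    have hs := isSetup_rd p hX
    haveI := hX.1
    haveI := hs.1
    exact CycLib.hasRelDim_comp π p (ih hs) (Chern.hasRelDim (hasCoords_of_projBundle hP hE) hs (deltaCompat_rd p δ))

theorem Tower.baseChange (h : Tower π d) : ∀ {P' X' : Scheme.{u}} {π' : P' ⟶ X'} {g : P' ⟶ P} {f : X' ⟶ X},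
    IsPullback g π' π f → Tower π' d := by
  induction h with
  | of_iso π h =>
    intro P' X' π' g f hsq
    exact .of_iso π' hsq.isIso_snd_of_isIso
  | @step X₁ X π d h p E O1 q n hE hP ih =>
    intro P' X' π' g f hsq
    have hb : IsPullback (pullback.fst p f) (pullback.snd p f) p f := IsPullback.of_hasPullback p f
    let l : P' ⟶ pullback p f := pullback.lift (g ≫ π) π' (by rw [Category.assoc]; exact hsq.w)
    have hl : l ≫ pullback.snd p f = π' := pullback.lift_snd _ _ _
    have ht : IsPullback g l π (pullback.fst p f) :=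
      IsPullback.of_bot (by rw [hl]; exact hsq) (pullback.lift_fst _ _ _).symm hb
    rw [← hl]
    exact .step l d (ih ht) _ _ _ _ n (GrassFlag.rank_pullback f hE) (isProjBundle_baseChange hb hP)

theorem Tower.trans (h' : Tower π d) : ∀ {Q : Scheme.{u}} {ρ : Q ⟶ P} {e : ℕ}, Tower ρ e → Tower (ρ ≫ π) (e + d) := by
  induction h' with
  | @of_iso X π hπ =>
    intro Q ρ e hρ
    rw [Nat.add_zero]
    induction hρ with
    | of_iso ρ hρ => exact .of_iso _ (@IsIso.comp_isIso _ _ _ _ _ ρ π hρ hπ)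
    | @step P₁ P ρ e hρ p E O1 q n hE hP ih =>
      haveI := hπ
      have hsq : IsPullback (𝟙 P₁) (p ≫ π) p (inv π) :=
        IsPullback.of_horiz_isIso ⟨by simp⟩
      rw [Category.assoc]
      exact .step ρ e hρ _ _ _ _ n (GrassFlag.rank_pullback (inv π) hE) (isProjBundle_baseChange hsq hP)
  | step π d h p E O1 q n hE hP ih =>
    intro Q ρ e hρ
    rw [← Category.assoc, ← Nat.add_assoc]
    exact .step (ρ ≫ π) (e + d) (ih hρ) p E O1 q n hE hP

theorem map_iso_eq_zero_iff [IsIso π] {δP : P → ℤ} {δ : X → ℤ} (hδ : ∀ z, δP z = δ (π z)) (β : AlgebraicCycle P ℤ)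
    (z : P) : AlgebraicCycle.map π δP δ β (π z) = β z := by
  rw [show δP = fun z => δ (π z) from funext hδ]
  exact CycLib.map_preimmersion_apply π δ β z

/-- Pull-back along a tower is injective modulo rational equivalence. -/
theorem Tower.injective (h : Tower π d) : ∀ {δ : X → ℤ} {δP : P → ℤ}, Cyc.IsSetup X δ →
    Cyc.DeltaCompat π δP δ → ∀ {k : ℤ} {α : AlgebraicCycle X ℤ}, α ∈ Cyc.Zk X δ k → ∀ β : AlgebraicCycle P ℤ,
      ⇑β = Cyc.pullFun π δP δ d ⇑α → Cyc.RatEquivZero δP (k + d) β → Cyc.RatEquivZero δ k α := by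
  induction h with
  | @of_iso X π hπ =>
    intro δ δP hX hδ k α hα β hβ h0
    have hPs := SetupLFT.isSetup π hX hδ
    have hd : ∀ z, δP z = δ (π z) := fun z => by
      rw [CycLib.deltaCompat_eq π hδ z, FibDim.rd_eq_zero_of_quasiFinite π z, Nat.cast_zero, add_zero]
    have hm := CycLib.ratEquivZero_map π hPs hX hδ h0
    rw [Nat.cast_zero, add_zero] at hm
    suffices AlgebraicCycle.map π δP δ β = α by rwa [this] at hm
    refine Function.locallyFinsuppWithin.ext fun x => ?_
    obtain ⟨z, rfl⟩ := (Scheme.Hom.homeomorph π).surjective x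
    show AlgebraicCycle.map π δP δ β (π z) = α (π z)
    rw [map_iso_eq_zero_iff hd, hβ]
    simp only [Cyc.pullFun, Nat.cast_zero, add_zero]
    rw [if_pos (hd z)]
    have : FiniteFibreSum.fibreLen π z = 1 := by
      haveI : IsSimpleModule (P.presheaf.stalk z) (P.presheaf.stalk z ⧸ IsLocalRing.maximalIdeal (P.presheaf.stalk z)) :=
        isSimpleModule_iff_isCoatom.mpr (IsLocalRing.maximalIdeal.isMaximal _).1
      unfold FiniteFibreSum.fibreLen
      rw [IsLocalRing.eq_maximalIdeal ((IsLocalRing.maximalIdeal.isMaximal _).map_bijective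
        (f := (π.stalkMap z).hom) (ConcreteCategory.bijective_of_isIso (π.stalkMap z)))]
      exact Module.length_eq_one _ _
    show α (π z) * ((FiniteFibreSum.fibreLen π z).toNat : ℤ) = α (π z)
    rw [this]
    simp
  | @step X₁ X π d h p E O1 q n hE hP ih =>
    intro δ δP hX hδ k α hα β hβ h0
    haveI := h.flat
    haveI := h.proper
    haveI := isProper_of_projBundle hP hE
    haveI := hX.1
    have hc := hasCoords_of_projBundle hP hE
    have hc₁ := deltaCompat_rd p δ
    have hs := SetupLFT.isSetup p hX hc₁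
    haveI := hs.1
    have hcπ : Cyc.DeltaCompat π δP (fun y => δ (p y) + FibDim.rd p y) := by
      rw [deltaCompat_unique (π ≫ p) hδ (Bivar.deltaCompat_comp π p _ _ _ (deltaCompat_rd π fun y => δ (p y) + FibDim.rd p y) hc₁)]
      exact deltaCompat_rd π (fun y => δ (p y) + FibDim.rd p y)
    have hb : ⇑β = Cyc.pullFun π δP (fun y => δ (p y) + FibDim.rd p y) d ⇑(hc.pullCycle hs.2.2 hc₁ α) := by
      refine hβ.trans (Eq.trans ?_ (FlatShift.pullFun_comp_of_le π p δP _ δ
        (FlatShift.le_of_hasRelDim π (h.hasRelDim hs) hcπ)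
        (FlatShift.le_of_hasRelDim p (Chern.hasRelDim hc hs hc₁) hc₁) ⇑α).symm)
      push_cast
      rw [add_comm (d : ℤ) (n : ℤ)]
    have h1 := ih hs hcπ (hc.pullCycle_mem_Zk hs.2.2 hc₁ hα) β hb (by
      rwa [show k + (n : ℤ) + d = k + ((d + n : ℕ) : ℤ) by push_cast; ring])
    have h0' : Cyc.RatEquiv (fun y => δ (p y) + FibDim.rd p y) (k + n) (hc.pullCycle hs.2.2 hc₁ α) 0 := by
      rw [Cyc.RatEquiv, sub_zero]; exact h1
    have hcap := ratEquiv_capIter hc.invertible hs.2.2 (hc.pullCycle_mem_Zk hs.2.2 hc₁ hα) h0'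
      (fun _ => hc.sec 0) (fun _ => hc.sec 0) (fun _ => hc.sec_ne_zero 0) (fun _ => hc.sec_ne_zero 0) n
    rw [hc.capIter_eq hs.2.2, hc.capIter_eq hs.2.2, iterate_map_zero, Cyc.RatEquiv, sub_zero] at hcap
    have h2 := CycLib.ratEquivZero_map p hs hX hc₁ (show Cyc.RatEquivZero _ _ (hc.cl hs.2.2 hc₁ n α) from hcap)
    have h3 := hc.push_cl hs.2.2 hc₁ hX.2.2 hs hX hα (le_refl n)
    rw [if_pos rfl, show k + (n : ℤ) - n = k by ring] at h3
    rw [show k + (n : ℤ) - n = k by ring] at h2
    have h4 := (ratZero hX.2.2 k).sub_mem (show _ ∈ ratZero hX.2.2 k from h2) (show _ ∈ ratZero hX.2.2 k from h3)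
    rw [sub_sub_cancel] at h4
    exact h4

theorem isFinLocFree_of_rank {r : ℕ} {E : X.Modules} (h : FlatMod.IsFinLocFreeOfRank r E) :
    FlatMod.IsFinLocFree E := fun x => let ⟨U, hx, e⟩ := h x; ⟨U, r, hx, e⟩

/-- The kernel of a surjection onto an invertible module. -/
theorem rank_kernel {n : ℕ} {A L : X.Modules} (q : A ⟶ L) [Epi q] (hA : FlatMod.IsFinLocFreeOfRank (n + 1) A)
    (hL : FlatMod.IsFinLocFreeOfRank 1 L) : FlatMod.IsFinLocFreeOfRank n (kernel q) := fun x => by
  have hK := KFlatLib.isFinLocFree_kernel q (isFinLocFree_of_rank hA) (isFinLocFree_of_rank hL)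
  obtain ⟨r, hr⟩ := H28.KvbModel.exists_frameAt hK x
  obtain ⟨U, hx, ⟨eL⟩⟩ := hL x
  obtain ⟨sL, hsL⟩ := Frame.exists_frame eL
  obtain ⟨V, hxV, ⟨eA⟩⟩ := hA x
  obtain ⟨sA, hsA⟩ := Frame.exists_frame eA
  have h2 := H28.KvbModel.frameAt_ses (S := ShortComplex.mk (kernel.ι q) q (kernel.condition _))
    (KZ.kerSeq_shortExact q) hr (⟨U, sL, hx, hsL⟩ : H28.KvbModel.FrameAt L 1 x)
  obtain rfl : r = n := by
    have := H28.KvbModel.frameAt_unique h2 (⟨V, sA, hxV, hsA⟩ : H28.KvbModel.FrameAt A (n + 1) x)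
    omega
  obtain ⟨W, s, hxW, hs⟩ := hr
  exact ⟨W, hxW, Frame.exists_iso_of_frame s hs⟩

/-- A tower splitting one module. -/
theorem exists_split : ∀ (r : ℕ) {X : Scheme.{u}} (E : X.Modules), FlatMod.IsFinLocFreeOfRank r E →
    ∃ (P : Scheme.{u}) (π : P ⟶ X) (d : ℕ), Tower π d ∧ Filt ((Scheme.Modules.pullback π).obj E) r
  | 0, X, E, hE => by
    refine ⟨X, 𝟙 X, 0, .of_iso _ inferInstance, .zero _ ?_⟩
    refine H28.PBAtlas.isZero_of_frames fun x => ?_
    obtain ⟨U, hx, ⟨e⟩⟩ := GrassFlag.rank_pullback (𝟙 X) hE x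
    obtain ⟨s, hs⟩ := Frame.exists_frame e
    exact ⟨U, s, hx, hs⟩
  | n + 1, X, E, hE => by
    obtain ⟨X₁, p, O1, q, hP⟩ := H28.PBMake.exists_of_rank hE
    haveI := hP.epi
    obtain ⟨P, π, d, hT, hF⟩ := exists_split n (kernel q) (rank_kernel q (GrassFlag.rank_pullback p hE) hP.invertible)
    refine ⟨P, π ≫ p, d + n, .step π d hT p E O1 q n hE hP, ?_⟩
    exact (Filt.step ((ShortComplex.mk (kernel.ι q) q (kernel.condition q)).map (Scheme.Modules.pullback π))
      (H28.PullVB.shortExact_pullback π (KZ.kerSeq_shortExact q)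
        (KFlatLib.isFlat_of_isFinLocFree (isFinLocFree_of_rank hP.invertible)))
      (PicClLib.isInvertible_pullback π (H28.PBCores.isInvertible_iff_rank.2 hP.invertible)) n hF).iso
      ((Scheme.Modules.pullbackComp π p).app E)

/-- A tower splitting finitely many modules. -/
theorem exists_split_fin : ∀ (m : ℕ) {X : Scheme.{u}} (E : Fin m → X.Modules) (r : Fin m → ℕ),
    (∀ i, FlatMod.IsFinLocFreeOfRank (r i) (E i)) →
    ∃ (P : Scheme.{u}) (π : P ⟶ X) (d : ℕ), Tower π d ∧ ∀ i, Filt ((Scheme.Modules.pullback π).obj (E i)) (r i)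
  | 0, X, _, _, _ => ⟨X, 𝟙 X, 0, .of_iso _ inferInstance, fun i => i.elim0⟩
  | m + 1, X, E, r, hE => by
    obtain ⟨P, π, d, hT, hF⟩ := exists_split_fin m (fun i => E i.castSucc) (fun i => r i.castSucc) fun i => hE _
    obtain ⟨Q, ρ, e, hρ, hG⟩ := exists_split (r (Fin.last m)) ((Scheme.Modules.pullback π).obj (E (Fin.last m)))
      (GrassFlag.rank_pullback π (hE _))
    refine ⟨Q, ρ ≫ π, e + d, hT.trans hρ, fun i => ?_⟩
    induction i using Fin.lastCases with
    | last => exact hG.iso ((Scheme.Modules.pullbackComp ρ π).app _)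
    | cast i => exact ((hF i).pull ρ).iso ((Scheme.Modules.pullbackComp ρ π).app _)

end Groth.Agent.H23.Chern

end
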