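import Groth.Agent.H23.Chern.DualStalk

/-! The dual of a bundle commutes with pull-backs, and the Chern classes of the dual. -/

set_option autoImplicit false
set_option backward.isDefEq.respectTransparency false
set_option backward.isDefEq.respectTransparency.types false

universe u

open CategoryTheory CategoryTheory.Limits AlgebraicGeometry TopologicalSpace Opposite

noncomputable section

namespace Groth.Agent.H23.Chern

open Groth.Agent Groth.Agent.H23.ProjBd C1Pull

variable {X : Scheme.{u}} {E : X.Modules} {r : ℕ} (hE : FlatMod.IsFinLocFreeOfRank r E)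

include hE in
theorem isFP_of_rank : CohB1.IsFP E := QCoh.isFP_of_isFinLocFree (isFinLocFree_of_rank hE)

/-- The dual basis of the stalk of the dual. -/
theorem exists_dual_basis (x : X) (b : Module.Basis (Fin r) (X.presheaf.stalk x) (E.presheaf.stalk x))
    (hE : FlatMod.IsFinLocFreeOfRank r E) :
    ∃ d : Module.Basis (Fin r) (X.presheaf.stalk x) ((dual E).presheaf.stalk x),
      ∀ l k, pairAt E x (d l) (b k) = if l = k then UnitSec.one x else 0 := by
  classical
  let Φ : (dual E).presheaf.stalk x ≃ₗ[X.presheaf.stalk x] (Fin r → X.presheaf.stalk x) :=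
    (LinearEquiv.ofBijective (pairAt E x)
      ⟨pairAt_injective E (isFP_of_rank hE) x, pairAt_surjective E (isFP_of_rank hE) x⟩).trans
      ((LinearEquiv.congrRight (unitEquiv x).symm).trans (b.constr (X.presheaf.stalk x)).symm)
  refine ⟨(Pi.basisFun (X.presheaf.stalk x) (Fin r)).map Φ.symm, fun l k => ?_⟩
  have h : Φ (Φ.symm (Pi.basisFun (X.presheaf.stalk x) (Fin r) l)) k = if l = k then 1 else 0 := by
    rw [LinearEquiv.apply_symm_apply, Pi.basisFun_apply, Pi.single_apply]
    exact if_congr eq_comm rfl rfl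
  have e : (unitEquiv x).symm (pairAt E x (Φ.symm (Pi.basisFun (X.presheaf.stalk x) (Fin r) l)) (b k)) =
      if l = k then 1 else 0 := h
  rw [Module.Basis.map_apply]
  refine (unitEquiv x).symm.injective ?_
  rw [e]
  split_ifs
  · refine ((LinearEquiv.symm_apply_eq _).2 ?_).symm
    rw [unitEquiv_apply, one_smul]
  · rw [map_zero]

variable {P : Scheme.{u}} (π : P ⟶ X)

include hE in
theorem isIso_pullDual : IsIso (pullDual E π) := by
  refine KFlatLib.isIso_of_stalk _ fun y => ?_
  rw [ConcreteCategory.isIso_iff_bijective]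
  classical
  let E' := (Scheme.Modules.pullback π).obj E
  have hE' : FlatMod.IsFinLocFreeOfRank r E' := GrassFlag.rank_pullback π hE
  let b := (CurveTensor.exists_basis_stalk hE (π y)).some
  obtain ⟨b', hb'⟩ := exists_pm_basis π y b
  obtain ⟨d, hd⟩ := exists_dual_basis (π y) b hE
  obtain ⟨dp, hdp⟩ := exists_pm_basis π y d
  obtain ⟨d', hd'⟩ := exists_dual_basis y b' hE'
  let w := Algz.stalkMapₗ (pullUnit π).hom y (pm π (Coh.structureModule X) y (UnitSec.one (π y)))
  let a := (unitEquiv y).symm w
  have hw : a • UnitSec.one y = w := by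
    rw [← unitEquiv_apply]
    exact (unitEquiv y).apply_symm_apply w
  have ha : IsUnit a := by
    have hs : Function.Surjective (Algz.stalkMapₗ (pullUnit π).hom y) := fun v =>
      ⟨Algz.stalkMapₗ (pullUnit π).inv y v, by
        rw [← Algz7.Canon2.stalk_comp, Iso.inv_hom_id]
        exact congr($((DerSch.stalkFunctor P y).map_id _) v)⟩
    obtain ⟨v, hv⟩ := hs (UnitSec.one y)
    obtain ⟨c, hc⟩ := Submodule.mem_span_singleton.1
      ((isGen_pm (p := π) (x' := y)
        (show RatSec.IsGen (UnitSec.one (π y)) from ⟨UnitSec.span_one _, UnitSec.eq_zero_of_smul_one⟩)).1.ge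
        (Submodule.mem_top : v ∈ ⊤))
    refine IsUnit.of_mul_eq_one c ?_
    rw [← hc, map_smul] at hv
    have h2 := UnitSec.eq_zero_of_smul_one (a * c - 1) (by
      rw [sub_smul, mul_comm, mul_smul, hw, one_smul]
      exact sub_eq_zero.2 hv)
    exact sub_eq_zero.1 h2
  have key : ∀ l, Algz.stalkMapₗ (pullDual E π) y (dp l) = ha.unit • d' l := fun l => by
    refine pairAt_injective E' (isFP_of_rank hE') y (b'.ext fun k => ?_)
    rw [Units.smul_def, map_smul, LinearMap.smul_apply, hd', hdp, hb']
    refine (pairAt_pullDual E π y (d l) (b k)).trans ?_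
    rw [hd]
    split_ifs
    · exact hw.symm
    · rw [smul_zero, show pm π (Coh.structureModule X) y 0 = 0 from
        (AddMonoidHom.mk' (pm π (Coh.structureModule X) y) fun m m' => pm_add π _ y m m').map_zero, map_zero]
  have e : Algz.stalkMapₗ (pullDual E π) y = (dp.equiv (d'.unitsSMul fun _ => ha.unit) (Equiv.refl _)).toLinearMap :=
    dp.ext fun l => by rw [key, LinearEquiv.coe_coe, Module.Basis.equiv_apply, Module.Basis.unitsSMul_apply]; rfl
  show Function.Bijective (Algz.stalkMapₗ (pullDual E π) y)
  rw [e]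
  exact (dp.equiv (d'.unitsSMul fun _ => ha.unit) (Equiv.refl _)).bijective

/-- The Chern classes of the dual. -/
theorem cR_dual' {δ : X → ℤ} (hX : Cyc.IsSetup X δ) {E' : X.Modules} (hE : FlatMod.IsFinLocFreeOfRank r E)
    (hE' : FlatMod.IsFinLocFreeOfRank r E') (e : E' ≅ dual E) (j : ℕ) :
    cR hX hE' j = (-1) ^ j * cR hX hE j :=
  cR_dual hX hE hE' e (fun π => by
    haveI := isIso_pullDual hE π
    exact ⟨asIso (pullDual E π)⟩) j

end Groth.Agent.H23.Chern

end
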