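import Groth.Agent.H23.Chern.TopPull
import Groth.Agent.H23.UnitSec

/-! The coordinates of a cosection in an adapted basis. -/

set_option autoImplicit false
set_option backward.isDefEq.respectTransparency false
set_option backward.isDefEq.respectTransparency.types false

universe u

open CategoryTheory CategoryTheory.Limits AlgebraicGeometry TopologicalSpace Opposite IsLocalRing

noncomputable section

namespace Groth.Agent.H23.Chern

open Groth.Agent Groth.Agent.H23.ProjBd RatSec C1Pull

variable {X : Scheme.{u}} {E : X.Modules} {r : ℕ}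

/-- The stalk of the structure module. -/
def unitEquiv (y : X) : X.presheaf.stalk y ≃ₗ[X.presheaf.stalk y] (Coh.structureModule X).presheaf.stalk y :=
  LinearEquiv.ofBijective (LinearMap.toSpanSingleton (X.presheaf.stalk y) _ (UnitSec.one y))
    ⟨(injective_iff_map_eq_zero _).2 fun a ha => UnitSec.eq_zero_of_smul_one a ha,
      fun m => Submodule.mem_span_singleton.1 ((UnitSec.span_one y).ge (Submodule.mem_top : m ∈ ⊤))⟩

theorem unitEquiv_apply (y : X) (a : X.presheaf.stalk y) : unitEquiv y a = a • UnitSec.one y := rfl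

variable (u : E ⟶ Coh.structureModule X)

/-- A cosection on a stalk. -/
def coMap (y : X) : E.presheaf.stalk y →ₗ[X.presheaf.stalk y] X.presheaf.stalk y :=
  (unitEquiv y).symm.toLinearMap.comp (Algz.stalkMapₗ u y)

theorem coMap_smul_one (y : X) (e : E.presheaf.stalk y) : coMap u y e • UnitSec.one y = Algz.stalkMapₗ u y e := by
  rw [← unitEquiv_apply]
  exact (unitEquiv y).apply_symm_apply _

theorem coMap_spec {y ξ : X} (h : ξ ⤳ y) (e : E.presheaf.stalk y) :
    coMap u ξ (E.presheaf.stalkSpecializes h e) = (X.presheaf.stalkSpecializes h).hom (coMap u y e) := by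
  refine (unitEquiv ξ).injective ?_
  rw [unitEquiv_apply, unitEquiv_apply, coMap_smul_one, stalkMapₗ_spec, ← coMap_smul_one u y e,
    UnitSec.stalkSpecializes_smul_one]

/-- The ideal of the zero scheme of a cosection. -/
def coIdeal (y : X) : Ideal (X.presheaf.stalk y) := LinearMap.range (coMap u y)

theorem coIdeal_eq {y : X} (b : Module.Basis (Fin r) (X.presheaf.stalk y) (E.presheaf.stalk y)) :
    coIdeal u y = Ideal.span (Set.range fun l => coMap u y (b l)) := by
  show LinearMap.range _ = Submodule.span _ _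
  rw [show (fun l => coMap u y (b l)) = coMap u y ∘ b from rfl, Set.range_comp, ← Submodule.map_span, b.span_eq,
    Submodule.map_top]

section Pull

variable {P : Scheme.{u}} (π : P ⟶ X)

/-- The structure module pulls back to the structure module. -/
def pullUnit : (Scheme.Modules.pullback π).obj (Coh.structureModule X) ≅ Coh.structureModule P :=
  haveI : IsIso (SheafOfModules.pullbackObjUnitToUnit π.toRingCatSheafHom) := inferInstance
  asIso (SheafOfModules.pullbackObjUnitToUnit π.toRingCatSheafHom)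

/-- The pull-back of a cosection. -/
def pullCo : (Scheme.Modules.pullback π).obj E ⟶ Coh.structureModule P :=
  (Scheme.Modules.pullback π).map u ≫ (pullUnit π).hom

theorem pm_map {M N : X.Modules} (φ : M ⟶ N) (y : P) (m : M.presheaf.stalk (π y)) :
    Algz.stalkMapₗ ((Scheme.Modules.pullback π).map φ) y (pm π M y m) = pm π N y (Algz.stalkMapₗ φ (π y) m) := by
  refine (ConcreteCategory.congr_hom ((KFlatLib.stalkPullbackIso π y).inv.naturality φ)
    (KFlatLib.u1 (π.stalkMap y).hom ((DerSch.stalkFunctor X (π y)).obj M) m)).symm.trans ?_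
  rfl

theorem coIdeal_pull (hE : FlatMod.IsFinLocFreeOfRank r E) (y : P) :
    coIdeal (pullCo u π) y = (coIdeal u (π y)).map (π.stalkMap y).hom := by
  let b := (CurveTensor.exists_basis_stalk hE (π y)).some
  obtain ⟨b', hb'⟩ := exists_pm_basis π y b
  let w := Algz.stalkMapₗ (pullUnit π).hom y (pm π (Coh.structureModule X) y (UnitSec.one (π y)))
  have hw : IsUnit ((unitEquiv y).symm w) := by
    have hgen : Submodule.span (P.presheaf.stalk y) {w} = ⊤ := by
      have h1 := (isGen_pm (p := π) (x' := y)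
        (show IsGen (UnitSec.one (π y)) from ⟨UnitSec.span_one _, UnitSec.eq_zero_of_smul_one⟩)).1
      have hs : Function.Surjective (Algz.stalkMapₗ (pullUnit π).hom y) := fun v =>
        ⟨Algz.stalkMapₗ (pullUnit π).inv y v, by
          rw [← Algz7.Canon2.stalk_comp, Iso.inv_hom_id]
          exact congr($((DerSch.stalkFunctor P y).map_id _) v)⟩
      have := congrArg (Submodule.map (Algz.stalkMapₗ (pullUnit π).hom y)) h1
      rwa [Submodule.map_span, Set.image_singleton, Submodule.map_top, LinearMap.range_eq_top.2 hs] at this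
    obtain ⟨c, hc, hcw⟩ := UnitSec.exists_unit_of_span hgen
    rw [hcw, ← unitEquiv_apply, LinearEquiv.symm_apply_apply]
    exact hc
  have key : ∀ l, coMap (pullCo u π) y (b' l) =
      (π.stalkMap y).hom (coMap u (π y) (b l)) * (unitEquiv y).symm w := fun l => by
    show (unitEquiv y).symm (Algz.stalkMapₗ ((Scheme.Modules.pullback π).map u ≫ (pullUnit π).hom) y (b' l)) = _
    rw [Algz7.Canon2.stalk_comp, hb', pm_map, ← coMap_smul_one u, pm_smul, map_smul, map_smul, smul_eq_mul]
  rw [coIdeal_eq _ b', coIdeal_eq u b, Ideal.map_span, ← Set.range_comp]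
  refine le_antisymm (Ideal.span_le.2 ?_) (Ideal.span_le.2 ?_)
  · rintro _ ⟨l, rfl⟩
    show coMap (pullCo u π) y (b' l) ∈ _
    rw [key]
    exact Ideal.mul_mem_right _ _ (Ideal.subset_span ⟨l, rfl⟩)
  · rintro _ ⟨l, rfl⟩
    show (π.stalkMap y).hom (coMap u (π y) (b l)) ∈ _
    rw [SetLike.mem_coe, ← Ideal.mul_unit_mem_iff_mem _ hw, ← key]
    exact Ideal.subset_span ⟨l, rfl⟩

end Pull

variable {D : Pieces E r} (hE : FlatMod.IsFinLocFreeOfRank r E)

/-- The coordinates of a cosection, in reverse order. -/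
def Frame.coC {y : X} (F : Frame D y) (l : Fin r) : X.presheaf.stalk y := coMap u y (F.vec (Fin.rev l))

theorem Frame.coC_spec {y ξ : X} (F : Frame D y) (h : ξ ⤳ y) (l : Fin r) :
    (F.spec h).coC u l = (X.presheaf.stalkSpecializes h).hom (F.coC u l) := by
  rw [Frame.coC, F.vec_spec, coMap_spec]
  rfl

variable (D) in
/-- Where the cosection kills the first pieces modulo the maximal ideal. -/
def coZero (i : ℕ) : Set X := {y | phi D (r - i) y ≤ Submodule.comap (coMap u y) (maximalIdeal (X.presheaf.stalk y))}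

theorem Frame.mem_coZero_iff {y : X} (F : Frame D y) (i : ℕ) :
    y ∈ coZero u D i ↔ ∀ l : Fin r, i ≤ (l : ℕ) → F.coC u l ∈ maximalIdeal (X.presheaf.stalk y) := by
  show phi D (r - i) y ≤ _ ↔ _
  rw [F.phi_eq, Submodule.span_le, Set.image_subset_iff]
  refine ⟨fun h l hl => h (show ((Fin.rev l : Fin r) : ℕ) < r - i by rw [Fin.val_rev]; omega), fun h l hl => ?_⟩
  have hl' : (l : ℕ) < r - i := hl
  have := h (Fin.rev l) (by rw [Fin.val_rev]; omega)
  rwa [Frame.coC, Fin.rev_rev] at this

theorem coZero_top : coZero u D r = Set.univ := Set.eq_univ_of_forall fun y =>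
  ((nonempty_frame D y).some.mem_coZero_iff u r).2 fun l hl => absurd l.2 (Nat.not_lt.2 hl)

theorem coZero.mem_of_specializes {i : ℕ} {ξ y : X} (hξ : ξ ∈ coZero u D i) (h : ξ ⤳ y) :
    y ∈ coZero u D i := by
  let F := (nonempty_frame D y).some
  refine (F.mem_coZero_iff u i).2 fun l hl => ?_
  have h1 := ((F.spec h).mem_coZero_iff u i).1 hξ l hl
  rw [F.coC_spec] at h1
  rw [IsLocalRing.mem_maximalIdeal, mem_nonunits_iff] at h1 ⊢
  exact fun hu => h1 (hu.map _)

theorem coZero_zero : coZero u D 0 = {y | coIdeal u y ≤ maximalIdeal (X.presheaf.stalk y)} := by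
  ext y
  show phi D (r - 0) y ≤ _ ↔ _
  have h : phi D r y = ⊤ := eq_top_iff.2 ((D.top y).ge.trans (iSup_le fun l =>
    le_iSup_of_le (⟨l, l.2⟩ : {l : Fin r // (l : ℕ) < r}) le_rfl))
  rw [Nat.sub_zero, h, top_le_iff]
  refine ⟨fun h => ?_, fun h => eq_top_iff.2 fun e _ => h ⟨e, rfl⟩⟩
  rintro _ ⟨e, rfl⟩
  exact (h.ge (Submodule.mem_top : e ∈ ⊤) : _)

variable (D) in
open Classical in
/-- The value in a piece where the cosection is one. -/
def coVal (i : Fin r) (ξ : X) : Cyc.secFibre (D.L (Fin.rev i)) ξ :=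
  if h : ∃ m, X.residue ξ (coMap u ξ (Algz.stalkMapₗ (D.f (Fin.rev i)) ξ m)) = 1 then
    cls (D.L (Fin.rev i)) ξ (Algz.stalkMapₗ (D.g (Fin.rev i)) ξ h.choose)
  else 0

theorem Frame.coVal_eq {ξ : X} (F : Frame D ξ) (i : Fin r)
    (hi : ∀ l : Fin r, (i : ℕ) < (l : ℕ) → F.coC u l ∈ maximalIdeal (X.presheaf.stalk ξ))
    (hc : X.residue ξ (F.coC u i) ≠ 0) {a : X.presheaf.stalk ξ} (ha : a * F.coC u i = 1) :
    coVal u D i ξ = a • cls (D.L (Fin.rev i)) ξ (Algz.stalkMapₗ (D.g (Fin.rev i)) ξ (F.m (Fin.rev i))) := by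
  classical
  let j := Fin.rev i
  have hex : ∃ m, X.residue ξ (coMap u ξ (Algz.stalkMapₗ (D.f j) ξ m)) = 1 :=
    ⟨a • F.m j, by rw [map_smul, map_smul, smul_eq_mul]; exact (congrArg (X.residue ξ) ha).trans (map_one _)⟩
  rw [coVal, dif_pos hex]
  obtain ⟨b, hb⟩ := Submodule.mem_span_singleton.1
    ((F.gen_self j).1.ge (Submodule.mem_top : Algz.stalkMapₗ (D.g j) ξ hex.choose ∈ ⊤))
  have hk := D.ker j ξ (hex.choose - b • F.m j) (by rw [map_sub, map_smul, hb, sub_self])
  have hzero : phi D (r - ((i : ℕ) + 1)) ξ ≤ Submodule.comap (coMap u ξ) (maximalIdeal (X.presheaf.stalk ξ)) :=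
    (F.mem_coZero_iff u ((i : ℕ) + 1)).2 fun l hl => hi l hl
  have hk' := hzero ((iSup_le fun c => le_iSup_of_le (⟨c.1, by
      have := Fin.lt_def.1 c.2
      have e : (j : ℕ) = r - ((i : ℕ) + 1) := Fin.val_rev i
      omega⟩ : {c : Fin r // (c : ℕ) < r - ((i : ℕ) + 1)}) le_rfl :
    (⨆ c : {c : Fin r // c < j}, LinearMap.range (Algz.stalkMapₗ (D.f c.1) ξ)) ≤ phi D (r - ((i : ℕ) + 1)) ξ) hk)
  rw [Submodule.mem_comap, map_sub, map_smul, map_sub, map_smul, smul_eq_mul] at hk'
  have e1 : X.residue ξ b * X.residue ξ (F.coC u i) = 1 := by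
    rw [← map_mul]
    exact (Ideal.Quotient.eq.2 hk').symm.trans hex.choose_spec
  have e2 : X.residue ξ a * X.residue ξ (F.coC u i) = 1 := by rw [← map_mul, ha, map_one]
  rw [← hb, cls_smul]
  exact (cls_smul_eq_iff (F.gen_self j) _ _).2 (mul_right_cancel₀ hc (e1.trans e2.symm))

end Groth.Agent.H23.Chern

end
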