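import Groth.Agent.AmpleVan.LiftFibre
import Groth.Agent.Lib.HomSections
import Groth.Agent.Lib.ExtShLocal
import Groth.Agent.Lib.ExtShShift
import Groth.Agent.Lib.CurveRR
import Groth.Agent.H23.PicInv
import Groth.Agent.H23.PicMul
import Groth.Agent.Lib.InvEnd
import Groth.Agent.H23.Frame
import Groth.Agent.H28.PBCores

/-! Duals of extensions of bundles. -/

set_option autoImplicit false
set_option backward.isDefEq.respectTransparency false
set_option backward.isDefEq.respectTransparency.types false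

universe u

open CategoryTheory CategoryTheory.Limits AlgebraicGeometry TopologicalSpace Opposite

noncomputable section

namespace Groth.Agent.H23.Chern

open Groth.Agent Groth.Agent.SheafHomX Groth.Agent.KFlatLib

variable {X : Scheme.{u}}

/-- A surjection onto a free module lifts maps from the structure module of an affine open. -/
theorem lift_section {A B : X.Modules} (hA : Coh.IsQCoh A) (hB : Coh.IsQCoh B) (v : A ⟶ B) [Epi v] {W : X.Opens}
    (hW : IsAffineOpen W) :
    Function.Surjective (fun a : Coh.structureModule (W : Scheme.{u}) ⟶ (Scheme.Modules.restrictFunctor W.ι).obj A =>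
      a ≫ (Scheme.Modules.restrictFunctor W.ι).map v) := by
  intro b
  have hi : IsAffineOpen (W.ι ''ᵁ ⊤) := by rw [Scheme.Opens.ι_image_top]; exact hW
  obtain ⟨t, ht⟩ := QCoh.app_surjective_of_epi hA hB v hi (InvX.one b)
  refine ⟨InvX.ofSect (M := (Scheme.Modules.restrictFunctor W.ι).obj A) t, sub_eq_zero.1
    (AmpleX.eq_zero_of_one_eq_zero _ ?_)⟩
  show ((Scheme.Modules.restrictFunctor W.ι).map v).app ⊤ (InvX.one (InvX.ofSect
    (M := (Scheme.Modules.restrictFunctor W.ι).obj A) t)) - InvX.one b = 0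
  rw [InvX.one_ofSect, sub_eq_zero]
  exact ht

/-- An extension with free quotient splits on an affine open. -/
theorem exists_retraction {S : ShortComplex X.Modules} (hS : S.ShortExact) (h₂ : Coh.IsQCoh S.X₂)
    (h₃ : Coh.IsQCoh S.X₃) {U W : X.Opens} (hWU : W ≤ U) (hW : IsAffineOpen W) {n : ℕ}
    (e : S.X₃.restrict U.ι ≅ FlatMod.freeMod U n) :
    ∃ r : (Scheme.Modules.restrictFunctor W.ι).obj S.X₂ ⟶ (Scheme.Modules.restrictFunctor W.ι).obj S.X₁,
      (Scheme.Modules.restrictFunctor W.ι).map S.f ≫ r = 𝟙 _ := by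
  let F := Scheme.Modules.restrictFunctor W.ι
  haveI : F.PreservesHomology := ExtShLocal.preservesHomology_restrict W.ι
  haveI := hS.epi_g
  let eW : F.obj S.X₃ ≅ FlatMod.freeMod W n := KFlatLib.restrictFreeIso hWU e
  let c := QCoh.freeModIso (W : Scheme.{u}) n
  choose l hl using fun i : ULift.{u} (Fin n) => lift_section h₂ h₃ S.g hW
    (Sigma.ι (fun _ : ULift.{u} (Fin n) => Coh.structureModule (W : Scheme.{u})) i ≫ c.inv ≫ eW.inv)
  let s : F.obj S.X₃ ⟶ F.obj S.X₂ := eW.hom ≫ c.hom ≫ Sigma.desc l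
  have hs : s ≫ F.map S.g = 𝟙 _ := by
    have h : Sigma.desc l ≫ F.map S.g = c.inv ≫ eW.inv := Sigma.hom_ext _ _ fun i => by
      rw [colimit.ι_desc_assoc]
      exact hl i
    show (eW.hom ≫ c.hom ≫ Sigma.desc l) ≫ F.map S.g = 𝟙 _
    rw [Category.assoc, Category.assoc, h]
    exact (congrArg (eW.hom ≫ ·) (c.hom_inv_id_assoc eW.inv)).trans eW.hom_inv_id
  have hm : (S.map F).ShortExact := hS.map_of_exact F
  haveI := hm.mono_f
  have sp := ShortComplex.Splitting.ofExactOfSection (S.map F) hm.exact s hs inferInstance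
  exact ⟨sp.r, sp.f_r⟩

/-- The dual of a surjection split on small opens is surjective. -/
theorem epi_dual {S : ShortComplex X.Modules} (hS : S.ShortExact) (h₂ : Coh.IsQCoh S.X₂)
    (h₃ : FlatMod.IsFinLocFree S.X₃) : Epi ((homMap S.f).app (Coh.structureModule X)) := by
  refine ⟨fun {Z} s t hst => Scheme.Modules.hom_ext _ _ fun V => ?_⟩
  ext b
  refine AModX.eq_of_locally _ _ fun x hx => ?_
  obtain ⟨U, n, hxU, ⟨e⟩⟩ := h₃ x
  obtain ⟨_, ⟨W', hW, rfl⟩, hxW, hWle⟩ := X.isBasis_affineOpens.exists_subset_of_mem_open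
    (show x ∈ U ⊓ V from ⟨hxU, hx⟩) (U ⊓ V).isOpen
  let W : X.Opens := W'
  obtain ⟨r, hr⟩ := exists_retraction hS h₂ (QCoh.isQCoh_of_isFinLocFree h₃)
    (fun y hy => (hWle hy).1) hW e
  let j : (W : Scheme.{u}) ⟶ X := W.ι
  let v := (homMap S.f).app (Coh.structureModule X)
  have hsur : Function.Surjective
      (fun a : Coh.structureModule (W : Scheme.{u}) ⟶ (Scheme.Modules.restrictFunctor j).obj
        ((hom S.X₂).obj (Coh.structureModule X)) => a ≫ (Scheme.Modules.restrictFunctor j).map v) :=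
    (HomSections.surjective_postcomp_iff j v).1 ((HomSections.surjective_homMap_iff j S.f _).2 fun ψ =>
      ⟨r ≫ ψ, by show (Scheme.Modules.restrictFunctor j).map S.f ≫ r ≫ ψ = ψ; rw [← Category.assoc, hr, Category.id_comp]⟩)
  have hle : j ''ᵁ ⊤ ≤ V := fun y hy => by
    have hy' : y ∈ W := by rwa [Scheme.Opens.ι_image_top] at hy
    exact (hWle hy').2
  refine ⟨j ''ᵁ ⊤, hle, by rw [Scheme.Opens.ι_image_top]; exact hxW, ?_⟩
  obtain ⟨a, ha⟩ := hsur (InvX.ofSect (M := (Scheme.Modules.restrictFunctor j).obj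
    ((hom S.X₁).obj (Coh.structureModule X))) (AModX.res _ hle b))
  have hb := congrArg InvX.one ha
  rw [InvX.one_ofSect] at hb
  change v.app (j ''ᵁ ⊤) (InvX.one a) = AModX.res _ hle b at hb
  have hres : ∀ φ : (hom S.X₁).obj (Coh.structureModule X) ⟶ Z,
      AModX.res Z hle (φ.app V b) = φ.app (j ''ᵁ ⊤) (AModX.res _ hle b) := fun φ =>
    ConcreteCategory.congr_hom (φ.mapPresheaf.naturality (homOfLE hle).op).symm b
  refine (hres s).trans (Eq.trans ?_ (hres t).symm)
  rw [← hb]
  exact congrArg (fun φ : ((hom S.X₂).obj (Coh.structureModule X)) ⟶ Z => φ.app (j ''ᵁ ⊤) (InvX.one a)) hst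

/-- The dual. -/
abbrev dual (E : X.Modules) : X.Modules := (hom E).obj (Coh.structureModule X)

/-- The dual of an extension of bundles. -/
theorem shortExact_dual {S : ShortComplex X.Modules} (hS : S.ShortExact) (h₂ : Coh.IsQCoh S.X₂)
    (h₃ : FlatMod.IsFinLocFree S.X₃) :
    ∃ (a : dual S.X₃ ⟶ dual S.X₂) (b : dual S.X₂ ⟶ dual S.X₁) (w : a ≫ b = 0),
      (ShortComplex.mk a b w).ShortExact := by
  haveI := hS.epi_g
  obtain ⟨w, hm, hx⟩ := ExtShShift.homMap_exact hS.exact (Coh.structureModule X)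
  exact ⟨_, _, w, { exact := hx, mono_f := hm, epi_g := epi_dual hS h₂ h₃ }⟩

theorem isEquivalence_ten {A : X.Modules} (hA : PicF.IsInvertible A) : (DCoh.tensorBi.obj A).IsEquivalence := by
  obtain ⟨A', -, ⟨e⟩⟩ := PicInv.exists_inverse hA
  obtain ⟨c⟩ := PicMul.comm A' A
  let e' : (DCoh.tensorBi.obj A').obj A ≅ Coh.structureModule X := c ≪≫ e
  exact (CategoryTheory.Equivalence.mk (DCoh.tensorBi.obj A) (DCoh.tensorBi.obj A')
    (CurveRR.cancelIso (A := A') (B := A) e').symm (CurveRR.cancelIso e)).isEquivalence_functor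

/-- The dual of an invertible module is a tensor inverse. -/
theorem exists_dual_inverse {L : X.Modules} (hL : PicF.IsInvertible L) :
    Nonempty (CohB1.tensorMod L (dual L) ≅ Coh.structureModule X) := by
  haveI := isEquivalence_ten hL
  let adjL : DCoh.tensorBi.obj L ⊣ hom L := (adj L).ofNatIsoLeft ((KFlatLib.tensorBiFlipIso X).app L)
  haveI : (hom L).IsEquivalence :=
    Functor.isEquivalence_of_iso ((DCoh.tensorBi.obj L).asEquivalence.toAdjunction.rightAdjointUniq adjL)
  exact ⟨asIso (adjL.counit.app (Coh.structureModule X))⟩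

theorem isZero_dual {E : X.Modules} (h : IsZero E) : IsZero (dual E) := by
  rw [IsZero.iff_id_eq_zero, ← homMap_id, (IsZero.iff_id_eq_zero _).1 h, homMap_zero]

/-- The chosen sheaf `Hom` into the structure module is the dual. -/
def sheafHomDual (E : X.Modules) [DCoh.HasSheafHom E] :
    (DCoh.sheafHom E).obj (Coh.structureModule X) ≅ dual E :=
  (AmpleVan.sheafHomIso E).app _

end Groth.Agent.H23.Chern

end
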