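import Groth.Agent.H23.Chern.Ops
import Groth.Agent.H23.Chern.Dual
import Groth.Agent.H23.PicMul
import Mathlib.Data.Nat.Choose.Sum
import Mathlib.Algebra.Polynomial.Eval.Coeff

/-! Chern classes of tensor products and of duals. -/

set_option autoImplicit false
set_option backward.isDefEq.respectTransparency false
set_option backward.isDefEq.respectTransparency.types false

universe u

open CategoryTheory CategoryTheory.Limits AlgebraicGeometry TopologicalSpace Opposite

noncomputable section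

namespace Groth.Agent.H23.Chern

open Groth.Agent Groth.Agent.H23.ProjBd RatSec ChowDesc
open Polynomial (C)

section Algebra

variable {R S : Type*} [CommRing R] [CommRing S]

/-- The polynomial whose roots are shifted by `l`. -/
def H (r : ℕ) (l : R) (c : ℕ → R) : Polynomial R :=
  ∑ j ∈ Finset.range (r + 1), C (c j) * Polynomial.X ^ j * (1 + C l * Polynomial.X) ^ (r - j)

theorem H_succ (r : ℕ) (l x : R) (c c' : ℕ → R) (h0 : c' 0 = c 0) (hs : ∀ j, c' (j + 1) = c (j + 1) + x * c j)
    (hc : c (r + 1) = 0) : H (r + 1) l c' = H r l c * (1 + C (l + x) * Polynomial.X) := by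
  have h1 : H (r + 1) l c' = (∑ j ∈ Finset.range (r + 2), C (c j) * Polynomial.X ^ j *
      (1 + C l * Polynomial.X) ^ (r + 1 - j)) +
      ∑ j ∈ Finset.range (r + 1), C (x * c j) * Polynomial.X ^ (j + 1) * (1 + C l * Polynomial.X) ^ (r - j) := by
    rw [H, Finset.sum_range_succ' _ (r + 1), Finset.sum_range_succ' _ (r + 1), h0]
    simp only [hs, map_add, add_mul, Finset.sum_add_distrib, Nat.add_sub_add_right]
    ring
  rw [h1, Finset.sum_range_succ, hc, map_zero, zero_mul, zero_mul, add_zero, H, Finset.sum_mul,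
    ← Finset.sum_add_distrib]
  refine Finset.sum_congr rfl fun j hj => ?_
  rw [show r + 1 - j = r - j + 1 by have := Finset.mem_range.1 hj; omega, map_mul, map_add]
  ring

theorem coeff_pow (l : R) : ∀ n m : ℕ, ((1 + C l * Polynomial.X) ^ n).coeff m = (n.choose m : R) * l ^ m
  | 0, 0 => by simp
  | 0, m + 1 => by simp [Polynomial.coeff_one]
  | n + 1, 0 => by
    rw [pow_succ, Polynomial.mul_coeff_zero, coeff_pow l n 0]
    simp
  | n + 1, m + 1 => by
    rw [pow_succ, mul_add, mul_one, Polynomial.coeff_add, ← mul_assoc, Polynomial.coeff_mul_X,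
      Polynomial.coeff_mul_C, coeff_pow l n (m + 1), coeff_pow l n m, Nat.choose_succ_succ', Nat.cast_add, pow_succ]
    ring

theorem coeff_H (r : ℕ) (l : R) (c : ℕ → R) (i : ℕ) :
    (H r l c).coeff i =
      ∑ j ∈ Finset.range (r + 1), if j ≤ i then ((r - j).choose (i - j) : R) * (l ^ (i - j) * c j) else 0 := by
  rw [H, Polynomial.finsetSum_coeff]
  refine Finset.sum_congr rfl fun j _ => ?_
  rw [mul_assoc, Polynomial.coeff_C_mul, Polynomial.coeff_X_pow_mul']
  split_ifs
  · rw [coeff_pow]; ring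
  · rw [mul_zero]

theorem sq_eq_choose : ∀ r : ℕ, r * r = r.choose 2 * 2 + r
  | 0 => rfl
  | r + 1 => by
    have := sq_eq_choose r
    rw [Nat.choose_succ_succ', Nat.choose_one_right]
    simp only [add_mul, mul_add, mul_one, one_mul, Nat.reduceAdd]
    omega

theorem map_H (f : R →+* S) (r : ℕ) (l : R) (c : ℕ → R) :
    (H r l c).map f = H r (f l) fun j => f (c j) := by
  simp [H, Polynomial.map_sum]

theorem coeff_mul_linear (p : Polynomial R) (x : R) (j : ℕ) :
    (p * (1 + C x * Polynomial.X)).coeff (j + 1) = p.coeff (j + 1) + x * p.coeff j := by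
  rw [mul_add, mul_one, Polynomial.coeff_add, ← mul_assoc, Polynomial.coeff_mul_X, Polynomial.coeff_mul_C]
  ring

end Algebra

variable {X : Scheme.{u}} {δ : X → ℤ} (hX : Cyc.IsSetup X δ) {E F L : X.Modules} {r s : ℕ}

theorem lR_iso {L' : X.Modules} (hL : PicF.IsInvertible L) (hL' : PicF.IsInvertible L') (e : L ≅ L') :
    lR hX hL' = lR hX hL := cR_iso hX _ _ e 1

theorem lR_unit (hO : PicF.IsInvertible (Coh.structureModule X)) : lR hX hO = 0 := by
  refine Subtype.ext (Loc.ext (cOp_loc hX _ 1) Loc.zero fun k a ha => ?_)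
  show (lR hX hO).1 (emc δ k a) = 0
  rw [lR_emc hX hO ha, emc_congr (c1v_mem hX hO ha) (ChowOps.zk X δ _).zero_mem (c1v_unit hX hO ha), emc_zero]

theorem rank_of_iso {A B : X.Modules} (e : A ≅ B) (h : FlatMod.IsFinLocFreeOfRank r A) :
    FlatMod.IsFinLocFreeOfRank r B := fun y =>
  let ⟨U, hy, ⟨i⟩⟩ := h y
  ⟨U, hy, ⟨(Scheme.Modules.restrictFunctor U.ι).mapIso e.symm ≪≫ i⟩⟩

theorem rank_ses {S : ShortComplex X.Modules} (hS : S.ShortExact) {a b : ℕ}
    (h₁ : FlatMod.IsFinLocFreeOfRank a S.X₁) (h₃ : FlatMod.IsFinLocFreeOfRank b S.X₃) :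
    FlatMod.IsFinLocFreeOfRank (a + b) S.X₂ :=
  H28.KvbModel.rank_of_frameAt fun x => H28.KvbModel.frameAt_ses hS (H28.KvbModel.frameAt_of_rank h₁ x)
    (H28.KvbModel.frameAt_of_rank h₃ x)

theorem exists_ses_tensorLine (hL : PicF.IsInvertible L) {S : ShortComplex X.Modules} (hS : S.ShortExact) :
    ∃ (f : CohB1.tensorMod S.X₁ L ⟶ CohB1.tensorMod S.X₂ L) (g : CohB1.tensorMod S.X₂ L ⟶ CohB1.tensorMod S.X₃ L)
      (w : f ≫ g = 0), (ShortComplex.mk f g w).ShortExact := by
  obtain ⟨e₁⟩ := PicMul.comm L S.X₁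
  obtain ⟨e₂⟩ := PicMul.comm L S.X₂
  obtain ⟨e₃⟩ := PicMul.comm L S.X₃
  exact H28.PBCores.exists_tens_ses hS (isFinLocFree_of_rank (InvEnd.isFinLocFreeOfRank_one hL)) e₁ e₂ e₃

theorem Filt.tensorLine (hF : Filt E r) (hL : PicF.IsInvertible L) : Filt (CohB1.tensorMod E L) r := by
  induction hF with
  | zero E h =>
    obtain ⟨e⟩ := PicMul.comm L E
    exact .zero _ (((DCoh.tensorBi.obj L).map_isZero h).of_iso e.symm)
  | step S hS h3 r h ih =>
    obtain ⟨f, g, w, hT⟩ := exists_ses_tensorLine hL hS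
    exact Filt.step (ShortComplex.mk f g w) hT (InvX.isInvertible_tensorMod h3 hL) r ih

theorem cR_step {S : ShortComplex X.Modules} (hS : S.ShortExact) (h3 : PicF.IsInvertible S.X₃) (h : Filt S.X₁ r) :
    cP hX (Filt.step S hS h3 r h).rank = cP hX h.rank * (1 + C (lR hX h3) * Polynomial.X) := by
  rw [← cP_line hX h3]
  exact cP_mul hX h.rank (InvEnd.isFinLocFreeOfRank_one h3) (hex := hS) rfl _

theorem H_step {S : ShortComplex X.Modules} (hS : S.ShortExact) (h3 : PicF.IsInvertible S.X₃) (h : Filt S.X₁ r)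
    (l : CR hX) : H (r + 1) l (cR hX (Filt.step S hS h3 r h).rank) =
      H r l (cR hX h.rank) * (1 + C (l + lR hX h3) * Polynomial.X) := by
  refine H_succ r l _ _ _ (by rw [cR_zero, cR_zero]) (fun j => ?_) (cR_of_gt hX _ (Nat.lt_succ_self r))
  rw [← coeff_cP, ← coeff_cP, ← coeff_cP, cR_step hX hS h3 h, coeff_mul_linear]

theorem cP_tensorLine_filt (hF : Filt E r) (hL : PicF.IsInvertible L)
    (hT : FlatMod.IsFinLocFreeOfRank r (CohB1.tensorMod E L)) :
    cP hX hT = H r (lR hX hL) (cR hX hF.rank) := by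
  induction hF with
  | zero E h => rw [cP_zero, H, Finset.sum_range_one, cR_zero, map_one]; simp
  | step S hS h3 r h ih =>
    obtain ⟨f, g, w, hex⟩ := exists_ses_tensorLine hL hS
    rw [cP_mul hX (h.tensorLine hL).rank (InvEnd.isFinLocFreeOfRank_one (InvX.isInvertible_tensorMod h3 hL))
      (hex := hex) rfl hT, ih (h.tensorLine hL).rank, cP_line hX (InvX.isInvertible_tensorMod h3 hL), H_step hX hS h3 h, lR_tensor hX h3 hL,
      add_comm (lR hX h3)]

theorem Filt.exists_dual (hF : Filt E r) :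
    ∃ hD : FlatMod.IsFinLocFreeOfRank r (dual E), cP hX hD = (cP hX hF.rank).comp (-Polynomial.X) := by
  induction hF with
  | zero E h =>
    refine ⟨(Filt.zero _ (isZero_dual h)).rank, ?_⟩
    rw [cP_zero, cP_zero, Polynomial.one_comp]
  | step S hS h3 r h ih =>
    obtain ⟨hD, ih⟩ := ih
    obtain ⟨e⟩ := exists_dual_inverse h3
    obtain ⟨c⟩ := PicMul.comm (dual S.X₃) S.X₃
    have h3' : PicF.IsInvertible (dual S.X₃) :=
      H28.PBCores.isInvertible_iff_rank.2 (rank_dual_line h3)
    have hl : lR hX h3' = -lR hX h3 := eq_neg_of_add_eq_zero_right (by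
      rw [← lR_tensor hX h3 h3', lR_iso hX InvX.isInvertible_structureModule _ e.symm, lR_unit])
    obtain ⟨a, b, w, hex⟩ := shortExact_dual hS
      (QCoh.isQCoh_of_isFinLocFree (isFinLocFree_of_rank (Filt.step S hS h3 r h).rank))
      (isFinLocFree_of_rank (InvEnd.isFinLocFreeOfRank_one h3))
    have hr : FlatMod.IsFinLocFreeOfRank (r + 1) (dual S.X₂) := by
      have := rank_ses hex (InvEnd.isFinLocFreeOfRank_one h3') hD
      rwa [add_comm] at this
    refine ⟨hr, ?_⟩
    rw [cP_mul hX (InvEnd.isFinLocFreeOfRank_one h3') hD (hex := hex) (add_comm _ _) hr, ih, cP_line hX h3',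
      cR_step hX hS h3 h, Polynomial.mul_comp, hl, Polynomial.add_comp, Polynomial.one_comp, Polynomial.mul_comp,
      Polynomial.C_comp, Polynomial.X_comp, map_neg]
    ring
where
  rank_dual_line {L : X.Modules} (hL : PicF.IsInvertible L) : FlatMod.IsFinLocFreeOfRank 1 (dual L) := by
    obtain ⟨e⟩ := exists_dual_inverse hL
    obtain ⟨L', hL', ⟨e'⟩⟩ := PicInv.exists_inverse hL
    haveI := isEquivalence_ten hL
    have i : (DCoh.tensorBi.obj L).obj (dual L) ≅ (DCoh.tensorBi.obj L).obj L' := e ≪≫ e'.symm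
    exact InvEnd.isFinLocFreeOfRank_one (PicMul.isInvertible_of_iso ((DCoh.tensorBi.obj L).preimageIso i).symm hL')

/-- The first two classes of a tensor product with a filtered module. -/
theorem c12_tensor_filt (hE : Filt E r) (hF : Filt F s) :
    ∃ hT : FlatMod.IsFinLocFreeOfRank (r * s) (CohB1.tensorMod E F),
      cR hX hT 1 = (r : CR hX) * cR hX hF.rank 1 + (s : CR hX) * cR hX hE.rank 1 ∧
      cR hX hT 2 = (r : CR hX) * cR hX hF.rank 2 + (s : CR hX) * cR hX hE.rank 2 +
        (r.choose 2 : CR hX) * cR hX hF.rank 1 ^ 2 + (((r * s : ℕ) : CR hX) - 1) * (cR hX hF.rank 1 * cR hX hE.rank 1) +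
        (s.choose 2 : CR hX) * cR hX hE.rank 1 ^ 2 := by
  induction hF with
  | zero F h =>
    have hT : FlatMod.IsFinLocFreeOfRank (r * 0) (CohB1.tensorMod E F) :=
      (Filt.zero _ ((DCoh.tensorBi.obj E).map_isZero h)).rank
    refine ⟨hT, ?_, ?_⟩ <;> simp [cR_of_gt hX hT (show r * 0 < 1 by simp), cR_of_gt hX hT (show r * 0 < 2 by simp),
      cR_of_gt hX (Filt.zero F h).rank Nat.one_pos, cR_of_gt hX (Filt.zero F h).rank Nat.two_pos]
  | step S hS h3 s h ih =>
    obtain ⟨hT₁, i1, i2⟩ := ih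
    have hEX := hE.tensorLine h3
    obtain ⟨f, g, w, hex⟩ := H28.PBCores.exists_tens_ses hS (isFinLocFree_of_rank hE.rank)
      (Iso.refl _) (Iso.refl _) (Iso.refl _)
    have hT : FlatMod.IsFinLocFreeOfRank (r * (s + 1)) (CohB1.tensorMod E S.X₂) := by
      have := rank_ses (S := ShortComplex.mk f g w) hex hT₁ hEX.rank
      rwa [← Nat.mul_succ] at this
    have hm := cP_mul hX hT₁ hEX.rank (hex := hex) (Nat.mul_succ r s) hT
    rw [cP_tensorLine_filt hX hE h3] at hm
    have hF1 : cR hX (Filt.step S hS h3 s h).rank 1 = cR hX h.rank 1 + lR hX h3 := by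
      rw [← coeff_cP, cR_step hX hS h3 h, coeff_mul_linear, coeff_cP, coeff_cP, cR_zero, mul_one]
    have hF2 : cR hX (Filt.step S hS h3 s h).rank 2 = cR hX h.rank 2 + lR hX h3 * cR hX h.rank 1 := by
      rw [← coeff_cP, cR_step hX hS h3 h, coeff_mul_linear, coeff_cP, coeff_cP]
    have g1 : (H r (lR hX h3) (cR hX hE.rank)).coeff 1 = (r : CR hX) * lR hX h3 + cR hX hE.rank 1 := by
      rw [coeff_H]
      cases r with
      | zero => simp [cR_of_gt hX hE.rank Nat.one_pos, cR_zero]
      | succ r => simp [Finset.sum_range_succ', cR_zero]; ring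
    have g2 : (H r (lR hX h3) (cR hX hE.rank)).coeff 2 =
        (r.choose 2 : CR hX) * lR hX h3 ^ 2 + ((r : CR hX) - 1) * (lR hX h3 * cR hX hE.rank 1) + cR hX hE.rank 2 := by
      rw [coeff_H]
      rcases r with _ | _ | r
      · simp [cR_of_gt hX hE.rank Nat.one_pos, cR_of_gt hX hE.rank Nat.two_pos, cR_zero]
      · simp [Finset.sum_range_succ, cR_of_gt hX hE.rank Nat.one_lt_two, cR_zero]
      · simp [Finset.sum_range_succ', cR_zero]; ring
    have g0 : (H r (lR hX h3) (cR hX hE.rank)).coeff 0 = 1 := by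
      rw [coeff_H]; simp [Finset.sum_range_succ', cR_zero]
    refine ⟨hT, ?_, ?_⟩
    · rw [← coeff_cP, hm, Polynomial.coeff_mul, Finset.Nat.sum_antidiagonal_eq_sum_range_succ_mk]
      simp only [Finset.sum_range_succ, Finset.sum_range_zero, zero_add, Nat.sub_zero, Nat.sub_self, coeff_cP,
        cR_zero, g0, g1, i1, hF1]
      push_cast
      ring
    · rw [← coeff_cP, hm, Polynomial.coeff_mul, Finset.Nat.sum_antidiagonal_eq_sum_range_succ_mk]
      simp only [Finset.sum_range_succ, Finset.sum_range_zero, zero_add, Nat.sub_zero, Nat.sub_self,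
        show 2 - 1 = 1 from rfl, coeff_cP, cR_zero, g0, g1, g2, i1, i2, hF1, hF2]
      have hc : (r : CR hX) * r = (r.choose 2 : CR hX) * 2 + r := by
        exact_mod_cast congrArg (Nat.cast (R := CR hX)) (sq_eq_choose r)
      rw [Nat.choose_succ_succ' s 1, Nat.choose_one_right]
      push_cast
      linear_combination (lR hX h3 * cR hX h.rank 1) * hc

section Descent

variable {P : Scheme.{u}} {π : P ⟶ X} {d : ℕ} (hT : Tower π d) [LocallyOfFiniteType π]

/-- Compatible pairs in the two rings of Chern classes. -/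
def CI (hX : Cyc.IsSetup X δ) (hT : Tower π d) : Subring (CR hX × CR (isSetup_rd π hX)) :=
  (Intw hX hT).comap ((CR hX).subtype.prodMap (CR (isSetup_rd π hX)).subtype)

theorem CI_eq {z w : CI hX hT} (h : z.1.2 = w.1.2) : z.1.1 = w.1.1 :=
  Subtype.ext (eq_of_intw hX hT z.2 w.2 (congrArg Subtype.val h))

/-- A Chern class with its pull-back. -/
def cI (hX : Cyc.IsSetup X δ) (hT : Tower π d) (hE : FlatMod.IsFinLocFreeOfRank r E) (j : ℕ) : CI hX hT :=
  ⟨(cR hX hE j, cR (isSetup_rd π hX) (GrassFlag.rank_pullback π hE) j), cOp_intw hX hE hT j⟩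

theorem cI_fst (hE : FlatMod.IsFinLocFreeOfRank r E) (j : ℕ) : (cI hX hT hE j).1.1 = cR hX hE j := rfl

theorem cI_snd (hE : FlatMod.IsFinLocFreeOfRank r E) (j : ℕ) :
    (cI hX hT hE j).1.2 = cR (isSetup_rd π hX) (GrassFlag.rank_pullback π hE) j := rfl

end Descent

/-- The Chern classes of a twist by an invertible module. -/
theorem cR_tensorLine (hE : FlatMod.IsFinLocFreeOfRank r E) (hL : PicF.IsInvertible L)
    (hT : FlatMod.IsFinLocFreeOfRank r (CohB1.tensorMod E L)) (i : ℕ) :
    cR hX hT i = ∑ j ∈ Finset.range (r + 1),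
      if j ≤ i then ((r - j).choose (i - j) : CR hX) * (lR hX hL ^ (i - j) * cR hX hE j) else 0 := by
  obtain ⟨P, π, d, hπ, hF⟩ := exists_split r E hE
  haveI := hπ.proper
  let lI := cI hX hπ (InvEnd.isFinLocFreeOfRank_one hL) 1
  let fI := (RingHom.fst (CR hX) (CR (isSetup_rd π hX))).comp (CI hX hπ).subtype
  let sI := (RingHom.snd (CR hX) (CR (isSetup_rd π hX))).comp (CI hX hπ).subtype
  have descend : ∀ {z w : CI hX hπ}, sI z = sI w → fI z = fI w := fun {z w} h => CI_eq hX hπ h
  have key : fI (cI hX hπ hT i) = fI ((H r lI (cI hX hπ hE)).coeff i) := by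
    refine descend ?_
    rw [← Polynomial.coeff_map, map_H]
    obtain ⟨e⟩ := PicMul.pull π E L
    have hL' := PicClLib.isInvertible_pullback π hL
    have hT' := rank_of_iso e (GrassFlag.rank_pullback π hT)
    have h := congrArg (fun p => Polynomial.coeff p i) (cP_tensorLine_filt (isSetup_rd π hX) hF hL' hT')
    rw [coeff_cP, cR_iso (isSetup_rd π hX) (GrassFlag.rank_pullback π hT) hT' e] at h
    exact h
  rw [← Polynomial.coeff_map, map_H, coeff_H] at key
  exact key

/-- The Chern classes of the dual. -/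
theorem cR_dual {E' : X.Modules} (hE : FlatMod.IsFinLocFreeOfRank r E)
    (hE' : FlatMod.IsFinLocFreeOfRank r E') (e : E' ≅ dual E)
    (hpull : ∀ {P : Scheme.{u}} (π : P ⟶ X), Nonempty ((Scheme.Modules.pullback π).obj (dual E) ≅
      dual ((Scheme.Modules.pullback π).obj E))) (j : ℕ) :
    cR hX hE' j = (-1) ^ j * cR hX hE j := by
  obtain ⟨P, π, d, hπ, hF⟩ := exists_split r E hE
  haveI := hπ.proper
  have key : (cI hX hπ hE' j).1.1 = ((-1) ^ j * cI hX hπ hE j : CI hX hπ).1.1 := by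
    refine CI_eq hX hπ ?_
    show cR (isSetup_rd π hX) _ j = (-1) ^ j * cR (isSetup_rd π hX) _ j
    obtain ⟨hD, h⟩ := Filt.exists_dual (isSetup_rd π hX) hF
    obtain ⟨ep⟩ := hpull π
    have h' := congrArg (fun p => Polynomial.coeff p j) h
    rw [coeff_cP, cR_iso (isSetup_rd π hX) (GrassFlag.rank_pullback π hE') hD
      ((Scheme.Modules.pullback π).mapIso e ≪≫ ep),
      show (-Polynomial.X : Polynomial (CR (isSetup_rd π hX))) = C (-1) * Polynomial.X by simp,
      Polynomial.comp_C_mul_X_coeff, coeff_cP] at h'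
    exact h'.trans (mul_comm _ _)
  exact key

/-- The first two classes of a tensor product. -/
theorem c12_tensor (hE : FlatMod.IsFinLocFreeOfRank r E) (hF : FlatMod.IsFinLocFreeOfRank s F)
    (hT : FlatMod.IsFinLocFreeOfRank (r * s) (CohB1.tensorMod E F)) :
    cR hX hT 1 = (r : CR hX) * cR hX hF 1 + (s : CR hX) * cR hX hE 1 ∧
      cR hX hT 2 = (r : CR hX) * cR hX hF 2 + (s : CR hX) * cR hX hE 2 +
        (r.choose 2 : CR hX) * cR hX hF 1 ^ 2 + (((r * s : ℕ) : CR hX) - 1) * (cR hX hF 1 * cR hX hE 1) +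
        (s.choose 2 : CR hX) * cR hX hE 1 ^ 2 := by
  obtain ⟨P, π, d, hπ, hFs⟩ := exists_split_fin 2 ![E, F] ![r, s] (fun i => by fin_cases i; exacts [hE, hF])
  haveI := hπ.proper
  obtain ⟨e⟩ := PicMul.pull π E F
  obtain ⟨hT', h1, h2⟩ := c12_tensor_filt (isSetup_rd π hX) (hFs 0) (hFs 1)
  have hi := cR_iso (isSetup_rd π hX) (GrassFlag.rank_pullback π hT) hT' e
  rw [hi] at h1 h2
  let eE := cI hX hπ hE
  let eF := cI hX hπ hF
  let fI := (RingHom.fst (CR hX) (CR (isSetup_rd π hX))).comp (CI hX hπ).subtype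
  let sI := (RingHom.snd (CR hX) (CR (isSetup_rd π hX))).comp (CI hX hπ).subtype
  have descend : ∀ {z w : CI hX hπ}, sI z = sI w → fI z = fI w := fun {z w} h => CI_eq hX hπ h
  refine ⟨?_, ?_⟩
  · have key := descend (z := cI hX hπ hT 1) (w := (r : CI hX hπ) * eF 1 + (s : CI hX hπ) * eE 1) (by
      rw [map_add, map_mul, map_mul, map_natCast, map_natCast]
      exact h1)
    rw [map_add, map_mul, map_mul, map_natCast, map_natCast] at key
    exact key
  · have key := descend (z := cI hX hπ hT 2) (w := (r : CI hX hπ) * eF 2 + (s : CI hX hπ) * eE 2 +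
        (r.choose 2 : CI hX hπ) * eF 1 ^ 2 + (((r * s : ℕ) : CI hX hπ) - 1) * (eF 1 * eE 1) +
        (s.choose 2 : CI hX hπ) * eE 1 ^ 2) (by
      simp only [map_add, map_mul, map_pow, map_sub, map_natCast, map_one]
      exact h2)
    simp only [map_add, map_mul, map_pow, map_sub, map_natCast, map_one] at key
    exact key

end Groth.Agent.H23.Chern

end
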