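import Groth.Agent.H23.Chern.TopZero

/-! The top Chern class of a bundle with a regular section. -/

set_option autoImplicit false
set_option backward.isDefEq.respectTransparency false
set_option backward.isDefEq.respectTransparency.types false

universe u

open CategoryTheory CategoryTheory.Limits AlgebraicGeometry TopologicalSpace Opposite IsLocalRing
open scoped TensorProduct

noncomputable section

namespace Groth.Agent.H23.Chern

open Groth.Agent Groth.Agent.H23.ProjBd RatSec ChowDesc C1Pull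

variable {X P : Scheme.{u}} (π : P ⟶ X) {E : X.Modules} {r : ℕ}

/-- The pull-back of a basis of a stalk. -/
theorem exists_pm_basis (y : P) (b : Module.Basis (Fin r) (X.presheaf.stalk (π y)) (E.presheaf.stalk (π y))) :
    ∃ b' : Module.Basis (Fin r) (P.presheaf.stalk y) (((Scheme.Modules.pullback π).obj E).presheaf.stalk y),
      ∀ l, b' l = pm π E y (b l) := by
  algebraize [(π.stalkMap y).hom]
  exact ⟨(b.baseChange (P.presheaf.stalk y)).map ((KFlatLib.stalkPullbackIso π y).app E).toLinearEquiv.symm,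
    fun l => by rw [Module.Basis.map_apply, Module.Basis.baseChange_apply]; rfl⟩

variable (hE : FlatMod.IsFinLocFreeOfRank r E) (s : E.presheaf.obj (op ⊤))

/-- The pull-back of a global section. -/
def pullSec : ((Scheme.Modules.pullback π).obj E).presheaf.obj (op ⊤) := KFlatLib.pb π (U := ⊤) s

theorem germ_pullSec (y : P) :
    ((Scheme.Modules.pullback π).obj E).presheaf.germ ⊤ y trivial (pullSec π s) =
      pm π E y (E.presheaf.germ ⊤ (π y) trivial s) := (pm_germ π E y ⊤ trivial s).symm

theorem secIdeal_pull (hE' : FlatMod.IsFinLocFreeOfRank r ((Scheme.Modules.pullback π).obj E)) (y : P) :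
    secIdeal hE' (pullSec π s) y = (secIdeal hE s (π y)).map (π.stalkMap y).hom := by
  let b := (CurveTensor.exists_basis_stalk hE (π y)).some
  obtain ⟨b', hb'⟩ := exists_pm_basis π y b
  let G : E.presheaf.stalk (π y) →+ ((Scheme.Modules.pullback π).obj E).presheaf.stalk y :=
    AddMonoidHom.mk' (pm π E y) fun m m' => pm_add π E y m m'
  have h : ((Scheme.Modules.pullback π).obj E).presheaf.germ ⊤ y trivial (pullSec π s) =
      ∑ l, (π.stalkMap y).hom (b.repr (E.presheaf.germ ⊤ (π y) trivial s) l) • b' l := by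
    rw [germ_pullSec]
    show G _ = _
    conv_lhs => rw [← b.sum_repr (E.presheaf.germ ⊤ (π y) trivial s), map_sum]
    refine Finset.sum_congr rfl fun l _ => ?_
    rw [hb']
    exact pm_smul π E y _ _
  rw [secIdeal_eq hE' (pullSec π s) b', secIdeal_eq hE s b, Ideal.map_span, h]
  refine congrArg Ideal.span ?_
  rw [← Set.range_comp]
  exact congrArg Set.range (funext fun l => by rw [Module.Basis.repr_sum_self]; rfl)

variable [Flat π]

theorem length_quot_pull (y : P) (I : Ideal (X.presheaf.stalk (π y))) :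
    Module.length (P.presheaf.stalk y) (P.presheaf.stalk y ⧸ I.map (π.stalkMap y).hom) =
      Module.length (X.presheaf.stalk (π y)) (X.presheaf.stalk (π y) ⧸ I) *
      Module.length (P.presheaf.stalk y) (P.presheaf.stalk y ⧸ Ideal.map (π.stalkMap y).hom
        (maximalIdeal (X.presheaf.stalk (π y)))) := by
  have hflat : (π.stalkMap y).hom.Flat := Flat.stalkMap π y
  algebraize [(π.stalkMap y).hom]
  haveI : IsLocalHom (algebraMap (X.presheaf.stalk (π y)) (P.presheaf.stalk y)) :=
    inferInstanceAs <| IsLocalHom (π.stalkMap y).hom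
  have key := IsLocalRing.length_baseChange (X.presheaf.stalk (π y)) (P.presheaf.stalk y)
    (X.presheaf.stalk (π y) ⧸ I)
  rw [← (Algebra.TensorProduct.quotIdealMapEquivTensorQuot (P.presheaf.stalk y) I).toLinearEquiv.length_eq] at key
  exact key

theorem regular_pull (y : P) {f : Fin r → X.presheaf.stalk (π y)}
    (hf : RingTheory.Sequence.IsRegular (X.presheaf.stalk (π y)) (List.ofFn f))
    (hm : ∀ l, f l ∈ maximalIdeal (X.presheaf.stalk (π y))) :
    RingTheory.Sequence.IsRegular (P.presheaf.stalk y) (List.ofFn fun l => (π.stalkMap y).hom (f l)) := by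
  have hflat : (π.stalkMap y).hom.Flat := Flat.stalkMap π y
  algebraize [(π.stalkMap y).hom]
  have h := hf.toIsWeaklyRegular.of_flat (S := P.presheaf.stalk y)
  rw [List.map_ofFn] at h
  refine RingTheory.Sequence.IsRegular.of_isWeaklyRegular_of_mem_maximalIdeal (L := P.presheaf.stalk y) (mem := fun a ha => ?_) (reg := h)
  obtain ⟨l, rfl⟩ := List.mem_ofFn.1 ha
  exact map_nonunit (π.stalkMap y).hom _ (hm l)

variable [LocallyOfFiniteType π] {δ : X → ℤ} {d : ℕ}

theorem pullFun_zeroFun (hd : ∀ y, FibDim.rd π y ≤ d) {k : ℤ}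
    (hdim : ∀ x, secIdeal hE s x ≠ ⊤ → δ x ≤ k)
    (hE' : FlatMod.IsFinLocFreeOfRank r ((Scheme.Modules.pullback π).obj E)) :
    Cyc.pullFun π (fun z => δ (π z) + FibDim.rd π z) δ d (zeroFun δ k hE s) =
      zeroFun (fun z => δ (π z) + FibDim.rd π z) (k + d) hE' (pullSec π s) := by
  funext y
  rw [zeroFun, secIdeal_pull π hE s hE', length_quot_pull, ENat.toNat_mul]
  simp only [Cyc.pullFun, zeroFun]
  have h1 := hd y
  by_cases hz : secIdeal hE s (π y) = ⊤
  · rw [hz, Module.length_eq_zero]
    simp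
  have h2 := hdim _ hz
  split_ifs with a b b <;> first | (exfalso; omega) | (push_cast; ring) | simp

theorem pullFun_fund (hd : ∀ y, FibDim.rd π y ≤ d) {n : ℤ} (hn : ∀ x, δ x ≤ n) :
    Cyc.pullFun π (fun z => δ (π z) + FibDim.rd π z) δ d (Cyc.subschemeFun δ n (𝟙 X)) =
      Cyc.subschemeFun (fun z => δ (π z) + FibDim.rd π z) (n + d) (𝟙 P) := by
  funext y
  have h := length_quot_pull π y (⊥ : Ideal (X.presheaf.stalk (π y)))
  rw [Ideal.map_bot, (Submodule.quotEquivOfEqBot (⊥ : Ideal (P.presheaf.stalk y)) rfl).length_eq,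
    (Submodule.quotEquivOfEqBot (⊥ : Ideal (X.presheaf.stalk (π y))) rfl).length_eq] at h
  simp only [Cyc.pullFun, FundCycle.subschemeFun_id]
  rw [h, ENat.toNat_mul]
  have h1 := hd y
  have h2 := hn (π y)
  split_ifs with a b b <;> first | (exfalso; omega) | (push_cast; ring) | simp

omit π [Flat π] [LocallyOfFiniteType π] in
include hE in
/-- The top Chern class caps the fundamental cycle to the zeros of a regular section. -/
theorem cR_top_zero (hX : Cyc.IsSetup X δ) {n : ℤ} (hn : ∀ x, δ x ≤ n)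
    (hdim : ∀ x, secIdeal hE s x ≠ ⊤ → δ x ≤ n - r)
    (hgood : ∀ x, δ x = n - r → secIdeal hE s x ≠ ⊤ → ∃ f : Fin r → X.presheaf.stalk x,
      RingTheory.Sequence.IsRegular (X.presheaf.stalk x) (List.ofFn f) ∧ secIdeal hE s x = Ideal.span (Set.range f))
    {α ζ : AlgebraicCycle X ℤ} (hα : ⇑α = Cyc.subschemeFun δ n (𝟙 X)) (hζ : ⇑ζ = zeroFun δ (n - r) hE s) :
    (cR hX hE r).1 (emc δ n α) = emc δ (n - r) ζ := by
  obtain ⟨P, π, d, hπ, hF⟩ := exists_split r E hE
  haveI := hπ.proper
  haveI := hπ.flat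
  obtain ⟨D⟩ := hF.nonempty_pieces
  haveI := hX.1
  have hd : ∀ y, FibDim.rd π y ≤ d := CycLib.rd_le_of_hasRelDim π (hπ.hasRelDim hX)
  have hE' := GrassFlag.rank_pullback π hE
  have hα' : α ∈ Cyc.Zk X δ n := fun x hx => by
    rw [hα, FundCycle.subschemeFun_id, if_neg hx]
  have hζ' : ζ ∈ Cyc.Zk X δ (n - r) := fun x hx => by rw [hζ, zeroFun, if_neg hx]
  refine plT_injective hX hπ ?_
  refine (cOp_intw hX hE hπ r _).trans ?_
  show (cR (isSetup_rd π hX) (GrassFlag.rank_pullback π hE) r).1 (plT hX hπ (emc δ n α)) = _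
  rw [plT_emc hX hπ hα', plT_emc hX hπ hζ', show n - (r : ℤ) + (d : ℤ) = n + d - r by ring]
  refine cR_top_eq (isSetup_rd π hX) D hE' (pullSec π s) (n + d) ?_ ?_
    (by rw [pullT_coe, hα]; exact pullFun_fund π hd hn)
    (by rw [pullT_coe, hζ, pullFun_zeroFun π hE s hd hdim hE', show n - (r : ℤ) + (d : ℤ) = n + d - r by ring])
  · intro y
    have h1 := hd y
    have h2 := hn (π y)
    show δ (π y) + (FibDim.rd π y : ℤ) ≤ _
    omega
  · intro y hy hne
    rw [secIdeal_pull π hE s hE'] at hne ⊢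
    have hne' : secIdeal hE s (π y) ≠ ⊤ := fun e => hne (by rw [e, Ideal.map_top])
    have h1 := hd y
    have h2 := hdim _ hne'
    have hy' : δ (π y) + (FibDim.rd π y : ℤ) = n + d - r := hy
    obtain ⟨f, hf, he⟩ := hgood (π y) (by omega) hne'
    refine ⟨fun l => (π.stalkMap y).hom (f l), regular_pull π y hf fun l => ?_, ?_⟩
    · exact IsLocalRing.le_maximalIdeal hne' (he ▸ Ideal.subset_span ⟨l, rfl⟩)
    · rw [he, Ideal.map_span, ← Set.range_comp]
      rfl

end Groth.Agent.H23.Chern

end
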