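import Groth.Agent.H23.ProjBd.Indep
import Groth.Agent.H23.ProjBd.OfProjBundle
import Groth.Prelude.Def_ChowOps2

/-! The defining relation of Chern classes on a projective bundle determines them. -/

set_option autoImplicit false
set_option backward.isDefEq.respectTransparency false
set_option backward.isDefEq.respectTransparency.types false

universe u

open CategoryTheory AlgebraicGeometry TopologicalSpace Opposite

noncomputable section

namespace Groth.Agent.H23.Chern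

open Groth.Agent Groth.Agent.H23.ProjBd

variable {X P : Scheme.{u}} {p : P ⟶ X} {O1 : P.Modules} {n : ℕ} {δP : P → ℤ} {δ : X → ℤ}

theorem c1PowFun_eq [IsLocallyNoetherian P] (hL : PicF.IsInvertible O1) (hd : Cyc.IsDimFun P δP)
    (β : AlgebraicCycle P ℤ) (t : ℕ → (ξ : P) → Cyc.secFibre O1 ξ) (ht : ∀ i ξ, t i ξ ≠ 0) (i : ℕ) :
    Cyc.c1PowFun δP O1 t i ⇑β = ⇑(capIter hL hd β t ht i) :=
  eq_capIter hL hd β t ht (γ := fun m => Cyc.c1PowFun δP O1 t m ⇑β) rfl (fun _ => rfl) i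

variable (hP : HasCoords p O1 n) [IsProper p] [IsLocallyNoetherian X] [IsLocallyNoetherian P]
  (hd : Cyc.IsDimFun P δP) (hδ : Cyc.DeltaCompat p δP δ)

/-- The left hand side of the defining relation. -/
def relSum (γ : Fin (n + 2) → AlgebraicCycle X ℤ) : AlgebraicCycle P ℤ :=
  ∑ i : Fin (n + 2), (-1 : ℤ) ^ (i : ℕ) • hP.cl hd hδ (i : ℕ) (γ (Fin.rev i))

include hd hδ in
theorem relSum_mem (k : ℤ) (α : AlgebraicCycle X ℤ) (γ : Fin (n + 2) → AlgebraicCycle X ℤ)
    (h : Cyc.IsChernCap p δ δP O1 (n + 1) k α γ) : relSum hP hd hδ γ ∈ ratZero hd (k - 1) := by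
  refine h.2.2 (fun _ => hP.sec 0) (fun _ => hP.sec_ne_zero 0) _ fun y => ?_
  rw [relSum, Function.locallyFinsuppWithin.coe_sum, Finset.sum_apply]
  refine Finset.sum_congr rfl fun i _ => ?_
  have e : ((n + 1 : ℕ) : ℤ) - 1 = (n : ℤ) := by push_cast; ring
  rw [Function.locallyFinsuppWithin.coe_zsmul, Pi.smul_apply, smul_eq_mul, e, HasCoords.cl_eq]
  show _ = _ * Cyc.c1PowFun δP O1 (fun _ => hP.sec 0) (i : ℕ) ⇑(hP.pullCycle hd hδ (γ (Fin.rev i))) y
  rw [c1PowFun_eq hP.invertible hd _ _ (fun _ => hP.sec_ne_zero 0)]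

variable (hX : Cyc.IsSetup X δ) (hPs : Cyc.IsSetup P δP)

include hd hX hPs in
theorem unique {k : ℤ} {γ γ' : Fin (n + 2) → AlgebraicCycle X ℤ}
    (hγ : ∀ j : Fin (n + 2), γ j ∈ Cyc.Zk X δ (k - ((j : ℕ) : ℤ)))
    (hγ' : ∀ j : Fin (n + 2), γ' j ∈ Cyc.Zk X δ (k - ((j : ℕ) : ℤ)))
    (h : relSum hP hd hδ γ ∈ ratZero hd (k - 1)) (h' : relSum hP hd hδ γ' ∈ ratZero hd (k - 1))
    (h0 : Cyc.RatEquiv δ k (γ 0) (γ' 0)) (j : Fin (n + 2)) :
    Cyc.RatEquiv δ (k - ((j : ℕ) : ℤ)) (γ j) (γ' j) := by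
  classical
  have hdX := hX.2.2
  let D : Fin (n + 2) → AlgebraicCycle X ℤ := fun j => γ j - γ' j
  have hD : ∀ j : Fin (n + 2), D j ∈ Cyc.Zk X δ (k - ((j : ℕ) : ℤ)) := fun j x hx => by
    simp only [D, Function.locallyFinsuppWithin.coe_sub, Pi.sub_apply, hγ j x hx, hγ' j x hx, sub_zero]
  have hsum : relSum hP hd hδ D ∈ ratZero hd (k - 1) := by
    have := (ratZero hd (k - 1)).sub_mem h h'
    rw [relSum, relSum, ← Finset.sum_sub_distrib] at this
    simpa only [relSum, D, map_sub, smul_sub] using this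
  have hlast : (-1 : ℤ) ^ (n + 1) • hP.cl hd hδ (n + 1) (D 0) ∈ ratZero hd (k - 1) := by
    have := hP.cl_ratEquivZero hd hδ hdX (hD 0) (by
      simp only [Fin.val_zero, Nat.cast_zero, sub_zero]; exact h0) (n + 1)
    rw [show k - ((0 : Fin (n + 2)) : ℕ) + (n : ℤ) - ((n + 1 : ℕ) : ℤ) = k - 1 by simp only [Fin.val_zero]; push_cast; ring] at this
    exact (ratZero hd (k - 1)).zsmul_mem this _
  let α : Fin (n + 1) → AlgebraicCycle X ℤ := fun i => (-1 : ℤ) ^ (i : ℕ) • D (Fin.rev i.castSucc)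
  have hα : ∀ i : Fin (n + 1), α i ∈ Cyc.Zk X δ (k - (n + 1 : ℕ) + ((i : ℕ) : ℤ)) := fun i x hx => by
    have := hD (Fin.rev i.castSucc) x (by
      rw [Fin.val_rev, Fin.val_castSucc]; have := i.2; push_cast at hx; omega)
    simp only [α, Function.locallyFinsuppWithin.coe_zsmul, Pi.smul_apply, this, smul_zero]
  have hβ : ∑ i : Fin (n + 1), hP.cl hd hδ i (α i) ∈ ratZero hd (k - 1) := by
    rw [relSum, Fin.sum_univ_castSucc, Fin.rev_last, Fin.val_last] at hsum
    have := (ratZero hd (k - 1)).sub_mem hsum hlast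
    rw [add_sub_cancel_right] at this
    simpa only [α, map_zsmul, Fin.val_castSucc] using this
  have hk : k - ((n + 1 : ℕ) : ℤ) + n = k - 1 := by push_cast; ring
  have hind := hP.independent hX hPs hδ (k := k - (n + 1 : ℕ)) α hα (fun _ _ => hP.sec 0)
    (fun _ _ => hP.sec_ne_zero 0)
    (fun i m => ⇑(capIter hP.invertible hd (hP.pullCycle hd hδ (α i)) (fun _ => hP.sec 0) (fun _ => hP.sec_ne_zero 0) m))
    (fun _ => rfl) (fun _ _ => rfl) (∑ i : Fin (n + 1), hP.cl hd hδ i (α i))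
    (fun x => by
      rw [Function.locallyFinsuppWithin.coe_sum, Finset.sum_apply]
      exact Finset.sum_congr rfl fun i _ => congrFun (congrArg (⇑) (hP.cl_eq hd hδ i (α i))) x)
    (by rw [hk]; exact hβ)
  obtain rfl | hj := eq_or_ne j 0
  · rw [Fin.val_zero, Nat.cast_zero, sub_zero]; exact h0
  let i : Fin (n + 1) := Fin.castPred (Fin.rev j) fun e => hj (by simpa using congrArg Fin.rev e)
  have hij : Fin.rev i.castSucc = j := by simp [i]
  have e : k - ((n + 1 : ℕ) : ℤ) + ((i : ℕ) : ℤ) = k - ((j : ℕ) : ℤ) := by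
    have := congrArg Fin.val hij
    rw [Fin.val_rev, Fin.val_castSucc] at this
    have := i.2
    push_cast; omega
  have h1 : α i ∈ ratZero hdX (k - ((j : ℕ) : ℤ)) := by rw [← e]; exact hind i
  have h2 := (ratZero hdX (k - ((j : ℕ) : ℤ))).zsmul_mem h1 ((-1 : ℤ) ^ (i : ℕ))
  rw [show (-1 : ℤ) ^ (i : ℕ) • α i = D j by
    simp only [α, smul_smul, ← mul_pow, neg_mul_neg, one_mul, one_pow, one_smul, hij]] at h2
  exact h2

end Groth.Agent.H23.Chern

end
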