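import Groth.Agent.SymAlgX.Exists
import Groth.Agent.H23.Frame
import Groth.Agent.Lib.BasisHom
import Groth.Agent.H28.PBCores
import Mathlib.LinearAlgebra.SymmetricAlgebra.Basis

/-! Adapted polynomial coordinates on a bundle containing a subbundle. -/

set_option autoImplicit false
set_option backward.isDefEq.respectTransparency false
set_option backward.isDefEq.respectTransparency.types false

universe u

open CategoryTheory CategoryTheory.Limits AlgebraicGeometry TopologicalSpace Opposite MvPolynomial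

noncomputable section

namespace Groth.Agent.H23.Chern.Bundle

open Groth.Agent Groth.Agent.SymAlgX

theorem exists_frame_affine {X : Scheme.{u}} {E : X.Modules} {n : ℕ} (hE : FlatMod.IsFinLocFreeOfRank n E)
    {x : X} {O : X.Opens} (hx : x ∈ O) :
    ∃ (U : X.Opens) (_ : x ∈ U) (_ : IsAffineOpen U) (_ : U ≤ O) (b : Fin n → Γ(E, U)),
      Groth.Agent.H23.Frame.IsFrame E b := by
  obtain ⟨V, hxV, ⟨i⟩⟩ := hE x
  obtain ⟨b₀, hb₀⟩ := Groth.Agent.H23.Frame.exists_frame i
  obtain ⟨_, ⟨U, hU, rfl⟩, hxU, hUV⟩ := X.isBasis_affineOpens.exists_subset_of_mem_open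
    (show x ∈ V ⊓ O from ⟨hxV, hx⟩) (V ⊓ O).isOpen
  exact ⟨U, hxU, hU, fun y hy => (hUV hy).2, _, hb₀.res (show U ≤ V from fun y hy => (hUV hy).1)⟩

theorem exists_frame_affine_var {X : Scheme.{u}} {E : X.Modules} (hE : FlatMod.IsFinLocFree E)
    {x : X} {O : X.Opens} (hx : x ∈ O) :
    ∃ (n : ℕ) (U : X.Opens) (_ : x ∈ U) (_ : IsAffineOpen U) (_ : U ≤ O) (b : Fin n → Γ(E, U)),
      Groth.Agent.H23.Frame.IsFrame E b := by
  obtain ⟨V, n, hxV, ⟨i⟩⟩ := hE x
  obtain ⟨b₀, hb₀⟩ := Groth.Agent.H23.Frame.exists_frame i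
  obtain ⟨_, ⟨U, hU, rfl⟩, hxU, hUV⟩ := X.isBasis_affineOpens.exists_subset_of_mem_open
    (show x ∈ V ⊓ O from ⟨hxV, hx⟩) (V ⊓ O).isOpen
  exact ⟨n, U, hxU, hU, fun y hy => (hUV hy).2, _, hb₀.res (show U ≤ V from fun y hy => (hUV hy).1)⟩

theorem comb_self {X : Scheme.{u}} {E : X.Modules} {n : ℕ} {U : X.Opens} (s : Fin n → Γ(E, U))
    (c : Fin n → Γ(X, U)) : Groth.Agent.H23.Frame.comb E s U le_rfl c = ∑ i, c i • s i :=
  Finset.sum_congr rfl fun i _ => congrArg (c i • ·) (QCoh.map_id' _ _)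

theorem ker_aeval_sum {R : Type u} [CommRing R] {α β : Type*} :
    RingHom.ker (aeval (Sum.elim (fun _ : α => (0 : MvPolynomial β R)) MvPolynomial.X) :
      MvPolynomial (α ⊕ β) R →ₐ[R] MvPolynomial β R) =
      Ideal.span (Set.range fun a : α => (MvPolynomial.X (Sum.inl a) : MvPolynomial (α ⊕ β) R)) := by
  let J : Ideal (MvPolynomial (α ⊕ β) R) := Ideal.span (Set.range fun a : α => MvPolynomial.X (Sum.inl a))
  let f : MvPolynomial (α ⊕ β) R →ₐ[R] MvPolynomial β R := aeval (Sum.elim (fun _ => 0) MvPolynomial.X)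
  have hle : J ≤ RingHom.ker f := Ideal.span_le.2 (by rintro _ ⟨a, rfl⟩; simp [f])
  refine le_antisymm (fun p hp => ?_) hle
  have h : p - rename Sum.inr (f p) ∈ J := by
    clear hp
    induction p using MvPolynomial.induction_on with
    | C a => simp [f]
    | add p q hp hq => rw [map_add, map_add, add_sub_add_comm]; exact J.add_mem hp hq
    | mul_X p v hp =>
      rw [map_mul, map_mul]
      rcases v with a | b
      · simp only [f, aeval_X, Sum.elim_inl, map_zero, mul_zero, sub_zero]
        exact J.mul_mem_left _ (Ideal.subset_span ⟨a, rfl⟩)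
      · simp only [f, aeval_X, Sum.elim_inr, rename_X]
        rw [← sub_mul]
        exact J.mul_mem_right _ hp
  rwa [show f p = 0 from hp, map_zero, sub_zero] at h

variable {X : Scheme.{u}} {K M M' : X.Modules} {B : K ⟶ M} {C : M ⟶ M'} {hBC : B ≫ C = 0}
  (hex : (ShortComplex.mk B C hBC).ShortExact) {e : ℕ} (hK : FlatMod.IsFinLocFreeOfRank e K)
  (hM' : FlatMod.IsFinLocFree M') (hqM : Coh.IsQCoh M) (hqM' : Coh.IsQCoh M')
  {A A' : RelSpec.QCAlg X} {j : M ⟶ A.toModule} (hA : RelSpec.IsSymAlg M A j) {j' : M' ⟶ A'.toModule}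
  (hA' : RelSpec.IsSymAlg M' A' j') (φ : A ⟶ A') (hφ : j ≫ RelSpec.QCAlg.Hom.toModuleMap φ = C ≫ j')

include hex hK hM' hqM hqM' hA hA' hφ in
/-- Adapted coordinates near a point. -/
theorem exists_chart (x : X) :
    ∃ (r' : ℕ) (U : X.Opens) (_ : x ∈ U) (_ : IsAffineOpen U)
      (_ : Nonempty (M'.restrict U.ι ≅ FlatMod.freeMod (↑U) r')) (k : Fin e → Γ(K, U))
      (em : MvPolynomial (Fin e ⊕ Fin r') Γ(X, U) →+* A.presheaf.obj (op U)),
      Groth.Agent.H23.Frame.IsFrame K k ∧ Function.Bijective em ∧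
      (∀ c, em (MvPolynomial.C c) = (A.str.app (op U)).hom c) ∧
      (∀ l, em (MvPolynomial.X (Sum.inl l)) = jv A j U (B.app U (k l))) ∧
      RingHom.ker (φ.hom.app (op U)).hom = Ideal.span (Set.range fun l => jv A j U (B.app U (k l))) := by
  classical
  haveI := hex.mono_f
  haveI := hex.epi_g
  obtain ⟨U₀, hxU₀, -, -, k₀, hk₀⟩ := exists_frame_affine hK (O := ⊤) (x := x) trivial
  obtain ⟨r', U, hxU, hU, hUO, c', hc'⟩ := exists_frame_affine_var hM' hxU₀
  let R := Γ(X, U)
  let k : Fin e → Γ(K, U) := fun l => K.presheaf.map (homOfLE hUO).op (k₀ l)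
  have hk : Groth.Agent.H23.Frame.IsFrame K k := hk₀.res hUO
  have hkb := hk U le_rfl
  have hcb := hc' U le_rfl
  choose m hm using fun i => QCoh.app_surjective_of_epi hqM hqM' C hU (c' i)
  have hCB : ∀ t, C.app U (B.app U t) = 0 := fun t => congrArg (fun α : K ⟶ M' => α.app U t) hBC
  let Bl : Γ(K, U) →ₗ[R] Γ(M, U) :=
    { toFun := B.app U, map_add' := map_add (B.app U).hom, map_smul' := fun r s => B.app_smul r s }
  let Cl : Γ(M, U) →ₗ[R] Γ(M', U) :=
    { toFun := C.app U, map_add' := map_add (C.app U).hom, map_smul' := fun r s => C.app_smul r s }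
  let v : Fin e ⊕ Fin r' → Γ(M, U) := Sum.elim (fun l => Bl (k l)) m
  have hsplit : ∀ c : Fin e ⊕ Fin r' → R, ∑ i, c i • v i =
      Bl (Groth.Agent.H23.Frame.comb K k U le_rfl (c ∘ Sum.inl)) + ∑ i, c (Sum.inr i) • m i := fun c => by
    rw [Fintype.sum_sum_type, comb_self, map_sum]
    simp [v]
  have hCv : ∀ c : Fin e ⊕ Fin r' → R, Cl (∑ i, c i • v i) =
      Groth.Agent.H23.Frame.comb M' c' U le_rfl (c ∘ Sum.inr) := fun c => by
    rw [hsplit, map_add, map_sum, show Cl (Bl _) = 0 from hCB _, zero_add, comb_self]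
    exact Finset.sum_congr rfl fun i _ => by rw [map_smul]; exact congrArg (c (Sum.inr i) • ·) (hm i)
  have hli : LinearIndependent R v := by
    rw [Fintype.linearIndependent_iff]
    intro c hc i
    have h2 : c ∘ Sum.inr = 0 := hcb.1 (by
      rw [← hCv, hc, map_zero, comb_self]; simp)
    have h1 : c ∘ Sum.inl = 0 := hkb.1 (QCoh.app_injective B U (by
      show Bl _ = Bl _
      rw [hsplit] at hc
      rw [comb_self (c := 0)]
      simp only [Pi.zero_apply, zero_smul, Finset.sum_const_zero, map_zero]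
      simpa [show ∀ i, c (Sum.inr i) = 0 from congrFun h2] using hc))
    rcases i with i | i
    exacts [congrFun h1 i, congrFun h2 i]
  have hsp : ⊤ ≤ Submodule.span R (Set.range v) := fun s _ => by
    obtain ⟨d, hd⟩ := hcb.2 (Cl s)
    have h0 : C.app U (s - ∑ i, d i • m i) = 0 := by
      show Cl (s - ∑ i, d i • m i) = 0
      rw [map_sub, map_sum, ← hd, comb_self, sub_eq_zero]
      exact Finset.sum_congr rfl fun i _ => by rw [map_smul]; exact congrArg (d i • ·) (hm i).symm
    obtain ⟨t, ht⟩ := Groth.Agent.BasisHom.exists_app_eq_of_exact hex.exact U (s - ∑ i, d i • m i) h0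
    obtain ⟨c, rfl⟩ := hkb.2 t
    refine (Submodule.mem_span_range_iff_exists_fun R).2 ⟨Sum.elim c d, ?_⟩
    rw [hsplit, Sum.elim_comp_inl, show Bl _ = s - ∑ i, d i • m i from ht]
    simp
  let b : Module.Basis (Fin e ⊕ Fin r') R Γ(M, U) := Module.Basis.mk hli hsp
  let b' : Module.Basis (Fin r') R Γ(M', U) := Module.Basis.ofEquivFun (LinearEquiv.ofBijective
    (∑ i, (LinearMap.proj (R := R) i).smulRight (c' i) : (Fin r' → R) →ₗ[R] Γ(M', U))
    (Eq.subst (motive := Function.Bijective) (funext fun c => by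
      simp [comb_self, LinearMap.sum_apply]) hcb)).symm
  have hb' : ∀ i, b' i = c' i := fun i => by
    rw [Module.Basis.coe_ofEquivFun]
    simp [Pi.single_apply]
  let em : MvPolynomial (Fin e ⊕ Fin r') R →+* A.presheaf.obj (op U) :=
    (liftAt A j U).comp (SymmetricAlgebra.equivMvPolynomial b).symm.toRingEquiv.toRingHom
  let em' : MvPolynomial (Fin r') R →+* A'.presheaf.obj (op U) :=
    (liftAt A' j' U).comp (SymmetricAlgebra.equivMvPolynomial b').symm.toRingEquiv.toRingHom
  have hbij : Function.Bijective em :=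
    (liftAt_bijective hqM A hA hU).comp (SymmetricAlgebra.equivMvPolynomial b).symm.bijective
  have hbij' : Function.Bijective em' :=
    (liftAt_bijective hqM' A' hA' hU).comp (SymmetricAlgebra.equivMvPolynomial b').symm.bijective
  have hC : ∀ c, em (MvPolynomial.C c) = (A.str.app (op U)).hom c := fun c => by
    show liftAt A j U ((SymmetricAlgebra.equivMvPolynomial b).symm (MvPolynomial.C c)) = _
    rw [show (SymmetricAlgebra.equivMvPolynomial b).symm (MvPolynomial.C c) = algebraMap _ _ c from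
      (SymmetricAlgebra.equivMvPolynomial b).symm.commutes c, liftAt_algebraMap]
  have hC' : ∀ c, em' (MvPolynomial.C c) = (A'.str.app (op U)).hom c := fun c => by
    show liftAt A' j' U ((SymmetricAlgebra.equivMvPolynomial b').symm (MvPolynomial.C c)) = _
    rw [show (SymmetricAlgebra.equivMvPolynomial b').symm (MvPolynomial.C c) = algebraMap _ _ c from
      (SymmetricAlgebra.equivMvPolynomial b').symm.commutes c, liftAt_algebraMap]
  have hX : ∀ i, em (MvPolynomial.X i) = jv A j U (v i) := fun i => by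
    show liftAt A j U ((SymmetricAlgebra.equivMvPolynomial b).symm (MvPolynomial.X i)) = _
    rw [SymmetricAlgebra.equivMvPolynomial_symm_X, liftAt_ι, Module.Basis.mk_apply]
  have hX' : ∀ i, em' (MvPolynomial.X i) = jv A' j' U (c' i) := fun i => by
    show liftAt A' j' U ((SymmetricAlgebra.equivMvPolynomial b').symm (MvPolynomial.X i)) = _
    rw [SymmetricAlgebra.equivMvPolynomial_symm_X, liftAt_ι, hb']
  let g : MvPolynomial (Fin e ⊕ Fin r') R →ₐ[R] MvPolynomial (Fin r') R :=
    aeval (Sum.elim (fun _ => 0) MvPolynomial.X)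
  have hcomm : (φ.hom.app (op U)).hom.comp em = em'.comp g.toRingHom := by
    refine MvPolynomial.ringHom_ext (fun c => ?_) fun i => ?_
    · show (φ.hom.app (op U)).hom (em (MvPolynomial.C c)) = em' (g (MvPolynomial.C c))
      rw [hC, show g (MvPolynomial.C c) = MvPolynomial.C c by simp [g], hC']
      exact ConcreteCategory.congr_hom (NatTrans.congr_app φ.comm (op U)) c
    · show (φ.hom.app (op U)).hom (em (MvPolynomial.X i)) = em' (g (MvPolynomial.X i))
      rw [hX]
      refine (congrArg (fun α : M ⟶ A'.toModule => α.app U (v i)) hφ).trans ?_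
      show j'.app U (C.app U (v i)) = _
      rcases i with l | i
      · rw [show g (MvPolynomial.X (Sum.inl l)) = 0 by simp [g], map_zero,
          show v (Sum.inl l) = B.app U (k l) from rfl, hCB, map_zero]
      · rw [show g (MvPolynomial.X (Sum.inr i)) = MvPolynomial.X i by simp [g], hX',
          show v (Sum.inr i) = m i from rfl, hm]
  refine ⟨r', U, hxU, hU, Groth.Agent.H23.Frame.exists_iso_of_frame _ hc', k, em, hk, hbij, hC, fun l => hX (Sum.inl l), ?_⟩
  have h1 : RingHom.ker g = (RingHom.ker (φ.hom.app (op U)).hom).comap em := by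
    rw [RingHom.comap_ker, hcomm]
    exact (RingHom.ker_comp_of_injective _ hbij'.1).symm
  rw [← Ideal.map_comap_of_surjective em hbij.2 (RingHom.ker (φ.hom.app (op U)).hom), ← h1, ker_aeval_sum,
    Ideal.map_span, ← Set.range_comp]
  exact congrArg Ideal.span (congrArg Set.range (funext fun l => hX (Sum.inl l)))

end Groth.Agent.H23.Chern.Bundle

end
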