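import Groth.Agent.H23.Chern.BundleProj
import Groth.Agent.H23.Chern.BundleChart
import Groth.Agent.S1944

/-! A vector bundle is locally an affine space; every cycle on it is pulled back up to rational equivalence. -/

set_option autoImplicit false
set_option backward.isDefEq.respectTransparency false
set_option backward.isDefEq.respectTransparency.types false

universe u

open CategoryTheory CategoryTheory.Limits AlgebraicGeometry TopologicalSpace Opposite MvPolynomial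

noncomputable section

namespace Groth.Agent.H23.Chern.Bundle

open Groth.Agent Groth.Agent.SymAlgX

variable {X : Scheme.{u}} {M : X.Modules} {n : ℕ} (hq : Coh.IsQCoh M) (hM : FlatMod.IsFinLocFreeOfRank n M)
  {A : RelSpec.QCAlg X} {j : M ⟶ A.toModule} (hA : RelSpec.IsSymAlg M A j)

omit hM in
include hq hA in
/-- Polynomial coordinates near a point. -/
theorem exists_poly_chart_at {x : X} {V : X.Opens} (hxV : x ∈ V)
    (hn : Nonempty (M.restrict V.ι ≅ FlatMod.freeMod (↑V) n)) :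
    ∃ (U : X.Opens) (_ : x ∈ U) (_ : IsAffineOpen U) (_ : U ≤ V)
      (em : MvPolynomial (ULift.{u} (Fin n)) Γ(X, U) →+* A.presheaf.obj (op U)),
      Function.Bijective em ∧ ∀ c, em (MvPolynomial.C c) = (A.str.app (op U)).hom c := by
  classical
  obtain ⟨i⟩ := hn
  obtain ⟨b₁, hb₁⟩ := Groth.Agent.H23.Frame.exists_frame i
  obtain ⟨_, ⟨U, hU, rfl⟩, hxU, hUV⟩ := X.isBasis_affineOpens.exists_subset_of_mem_open hxV V.isOpen
  let b₀ : Fin n → Γ(M, U) := fun l => M.presheaf.map (homOfLE (show U ≤ V from hUV)).op (b₁ l)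
  have hb₀ : Groth.Agent.H23.Frame.IsFrame M b₀ := hb₁.res (show U ≤ V from hUV)
  let R := Γ(X, U)
  let L : (Fin n → R) →ₗ[R] Γ(M, U) := ∑ i, (LinearMap.proj (R := R) i).smulRight (b₀ i)
  have hL : Function.Bijective L := by
    refine Eq.subst (motive := Function.Bijective) (funext fun c => ?_) (hb₀ U le_rfl)
    simp only [L, comb_self, LinearMap.sum_apply, LinearMap.smulRight_apply, LinearMap.proj_apply]
  let b : Module.Basis (Fin n) R Γ(M, U) := Module.Basis.ofEquivFun (LinearEquiv.ofBijective L hL).symm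
  let b' : Module.Basis (ULift.{u} (Fin n)) R Γ(M, U) := b.reindex Equiv.ulift.symm
  refine ⟨U, hxU, hU, hUV, (liftAt A j U).comp (SymmetricAlgebra.equivMvPolynomial b').symm.toRingEquiv.toRingHom,
    (liftAt_bijective hq A hA hU).comp (SymmetricAlgebra.equivMvPolynomial b').symm.bijective, fun c => ?_⟩
  show liftAt A j U ((SymmetricAlgebra.equivMvPolynomial b').symm (MvPolynomial.C c)) = _
  rw [show (SymmetricAlgebra.equivMvPolynomial b').symm (MvPolynomial.C c) = algebraMap _ _ c from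
    (SymmetricAlgebra.equivMvPolynomial b').symm.commutes c, liftAt_algebraMap]

omit hq hM hA in
/-- An affine open on which the algebra is polynomial gives an affine space. -/
theorem exists_iso_of_coords {ι : Type u} {U : X.Opens} (hU : IsAffineOpen U)
    (em : MvPolynomial ι Γ(X, U) →+* A.presheaf.obj (op U)) (hem : Function.Bijective em)
    (hC : ∀ c, em (MvPolynomial.C c) = (A.str.app (op U)).hom c) :
    ∃ e : (↑(A.π ⁻¹ᵁ U) : Scheme.{u}) ≅ 𝔸(ι; (↑U : Scheme.{u})),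
      e.hom ≫ (𝔸(ι; (↑U : Scheme.{u})) ↘ (↑U : Scheme.{u})) = A.π ∣_ U := by
  let R := Γ(X, U)
  let a : CommRingCat.of (MvPolynomial ι R) ≅ A.presheaf.obj (op U) := (RingEquiv.ofBijective em hem).toCommRingCatIso
  have hr : Set.range (A.π ⁻¹ᵁ U).ι = Set.range (A.ι U hU) := by
    rw [Scheme.Opens.range_ι, A.π_preimage U hU]
    rfl
  let e1 := IsOpenImmersion.isoOfRangeEq (A.π ⁻¹ᵁ U).ι (A.ι U hU) hr
  haveI : IsIso (AffineSpace.map ι hU.isoSpec.inv) :=
    ⟨AffineSpace.map ι hU.isoSpec.hom, by rw [← AffineSpace.map_comp, Iso.inv_hom_id, AffineSpace.map_id],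
      by rw [← AffineSpace.map_comp, Iso.hom_inv_id, AffineSpace.map_id]⟩
  refine ⟨e1 ≪≫ (Scheme.Spec.mapIso a.op) ≪≫ (AffineSpace.SpecIso ι R).symm ≪≫
    asIso (AffineSpace.map ι hU.isoSpec.inv), ?_⟩
  rw [← cancel_mono U.ι, morphismRestrict_ι]
  simp only [Iso.trans_hom, Category.assoc, Iso.symm_hom, asIso_hom, AffineSpace.map_over_assoc,
    AffineSpace.SpecIso_inv_over_assoc, Functor.mapIso_hom, Scheme.Spec_map, Iso.op_hom, Quiver.Hom.unop_op]
  rw [IsAffineOpen.isoSpec_inv_ι, ← Spec.map_comp_assoc,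
    show CommRingCat.ofHom (MvPolynomial.C : R →+* MvPolynomial ι R) ≫ a.hom = A.str.app (op U) from
      CommRingCat.hom_ext (RingHom.ext hC),
    ← A.ι_π U hU, IsOpenImmersion.isoOfRangeEq_hom_fac_assoc]

omit hM in
include hq hA in
theorem exists_affine_iso_at {y : X} {V : X.Opens} (hyV : y ∈ V)
    (hn : Nonempty (M.restrict V.ι ≅ FlatMod.freeMod (↑V) n)) : ∃ U : X.Opens, y ∈ U ∧ U ≤ V ∧
    ∃ e : (↑(A.π ⁻¹ᵁ U) : Scheme.{u}) ≅ 𝔸(ULift.{u} (Fin n); (↑U : Scheme.{u})),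
      e.hom ≫ (𝔸(ULift.{u} (Fin n); (↑U : Scheme.{u})) ↘ (↑U : Scheme.{u})) = A.π ∣_ U := by
  obtain ⟨U, hxU, hU, hUV, em, hem, hC⟩ := exists_poly_chart_at hq hA hyV hn
  exact ⟨U, hxU, hUV, exists_iso_of_coords hU em hem hC⟩

include hq hM hA in
theorem exists_affine_iso (y : X) : ∃ U : X.Opens, y ∈ U ∧
    ∃ e : (↑(A.π ⁻¹ᵁ U) : Scheme.{u}) ≅ 𝔸(ULift.{u} (Fin n); (↑U : Scheme.{u})),
      e.hom ≫ (𝔸(ULift.{u} (Fin n); (↑U : Scheme.{u})) ↘ (↑U : Scheme.{u})) = A.π ∣_ U := by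
  obtain ⟨V, hyV, hn⟩ := hM y
  obtain ⟨U, hyU, -, h⟩ := exists_affine_iso_at hq hA hyV hn
  exact ⟨U, hyU, h⟩

include hq hM hA in
/-- Every cycle on a vector bundle is a pull-back up to rational equivalence. -/
theorem exists_pull {δ : X → ℤ} (hX : Cyc.IsSetup X δ) {δV : A.spec → ℤ} (hV : Cyc.IsSetup A.spec δV)
    (hpδ : Cyc.DeltaCompat A.π δV δ) {k : ℤ} {β : AlgebraicCycle A.spec ℤ}
    (hβ : β ∈ Cyc.Zk A.spec δV (k + n)) :
    ∃ (α : AlgebraicCycle X ℤ) (β' : AlgebraicCycle A.spec ℤ), α ∈ Cyc.Zk X δ k ∧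
      ⇑β' = Cyc.pullFun A.π δV δ n ⇑α ∧ Cyc.RatEquiv δV (k + n) β β' := by
  haveI := flat_π hq hM hA
  haveI := lft_π hq hM hA
  exact S1944.result A.spec X δV δ hV hX A.π n (hasRelDim_π hX hq hM hA) hpδ
    (exists_affine_iso hq hM hA) k β hβ

end Groth.Agent.H23.Chern.Bundle

end
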