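import Groth.Agent.H23.Chern.DualPull
import Groth.Agent.SheafHomX.Extra
import Groth.Agent.SeesawX.Glue

/-! The conjugate of a map under the chosen duals is the transpose. -/

set_option autoImplicit false
set_option backward.isDefEq.respectTransparency false
set_option backward.isDefEq.respectTransparency.types false

universe u

open CategoryTheory CategoryTheory.Limits AlgebraicGeometry

noncomputable section

namespace Groth.Agent.H23.Chern

open Groth.Agent Groth.Agent.SheafHomX

variable {X : Scheme.{u}}

theorem symm_sheafHomDual (E : X.Modules) [DCoh.HasSheafHom E] :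
    ((adj E).homEquiv ((DCoh.sheafHom E).obj (Coh.structureModule X)) (Coh.structureModule X)).symm (sheafHomDual E).hom =
      ((KFlatLib.tensorBiFlipIso X).app E).hom.app ((DCoh.sheafHom E).obj (Coh.structureModule X)) ≫
        (DCoh.sheafHomAdj E).counit.app (Coh.structureModule X) := by
  have h := Adjunction.rightAdjointUniq_hom_app_counit (DCoh.sheafHomAdj E)
    ((adj E).ofNatIsoLeft ((KFlatLib.tensorBiFlipIso X).app E)) (Coh.structureModule X)
  rw [Adjunction.homEquiv_counit, ← h]
  show _ = ((KFlatLib.tensorBiFlipIso X).app E).hom.app _ ≫ ((DCoh.tensorBi.obj E).map (sheafHomDual E).hom ≫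
    (((KFlatLib.tensorBiFlipIso X).app E).inv.app _ ≫ (adj E).counit.app _))
  rw [NatTrans.naturality_assoc, Iso.hom_inv_id_app_assoc]

theorem conjugate_sheafHomDual {M M' : X.Modules} [DCoh.HasSheafHom M] [DCoh.HasSheafHom M'] (g : M ⟶ M') :
    ((conjugateEquiv (DCoh.sheafHomAdj M') (DCoh.sheafHomAdj M)) ((DCoh.tensorBi (X := X)).map g)).app
        (Coh.structureModule X) ≫ (sheafHomDual M).hom =
      (sheafHomDual M').hom ≫ (homMap g).app (Coh.structureModule X) := by
  refine hom_ext ?_
  rw [homEquiv_homMap, Adjunction.homEquiv_naturality_left_symm, symm_sheafHomDual, symm_sheafHomDual,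
    NatTrans.naturality_assoc, conjugateEquiv_counit, ← Category.assoc, ← Category.assoc]
  refine congrArg (· ≫ _) ?_
  exact (congrArg (fun η => NatTrans.app η ((DCoh.sheafHom M').obj (Coh.structureModule X)))
    ((KFlatLib.tensorBiFlipIso X).hom.naturality g)).symm

/-- The dual of a bundle is a bundle of the same rank. -/
theorem rank_dual {E : X.Modules} {r : ℕ} (hE : FlatMod.IsFinLocFreeOfRank r E) :
    FlatMod.IsFinLocFreeOfRank r (dual E) := by
  refine ConsPropLib.isFinLocFreeOfRank_iff.2 ⟨SheafHomX.isFinLocFree_hom (isFinLocFree_of_rank hE)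
    (fun _ => ⟨⊤, 1, trivial, ⟨Scheme.Modules.restrictUnitIso _ ≪≫
      (coproductUniqueIso fun _ : Fin 1 => Coh.structureModule ((⊤ : X.Opens) : Scheme.{u})).symm⟩⟩), fun x => ?_⟩
  obtain ⟨d, -⟩ := exists_dual_basis x (CurveTensor.exists_basis_stalk hE x).some hE
  rw [Module.finrank_eq_card_basis d, Fintype.card_fin]

end Groth.Agent.H23.Chern

end
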