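import Groth.Agent.H23.Chern.BundleTop
import Groth.Agent.H23.Chern.DualConj

/-! The subbundle of an extension pushed into the bundle, in terms of the duals. -/

set_option autoImplicit false
set_option backward.isDefEq.respectTransparency false
set_option backward.isDefEq.respectTransparency.types false

universe u

open CategoryTheory CategoryTheory.Limits AlgebraicGeometry

noncomputable section

namespace Groth.Agent.H23.Chern.Bundle

open Groth.Agent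

variable {X : Scheme.{u}}

theorem shortExact_transport {K Q R M M' : X.Modules} (f : K ⟶ Q) (g : Q ⟶ R) (w : f ≫ g = 0) (iN : M ≅ Q) (iN' : M' ≅ R) (C : M ⟶ M')
    (hC : C ≫ iN'.hom = iN.hom ≫ g) (hx : (ShortComplex.mk f g w).Exact) (hm : Mono f) (he : Epi g) (w' : (f ≫ iN.inv) ≫ C = 0) :
    (ShortComplex.mk (f ≫ iN.inv) C w').ShortExact := by
  refine ShortComplex.shortExact_of_iso (S₁ := ShortComplex.mk _ _ w)
    (ShortComplex.isoMk (Iso.refl _) iN.symm iN'.symm ?_ ?_) { exact := hx, mono_f := hm, epi_g := he }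
  · exact Category.id_comp _
  · show iN.inv ≫ C = g ≫ iN'.inv
    rw [Iso.inv_comp_eq, ← Category.assoc, Iso.eq_comp_inv, hC]

theorem exists_ses {N' N E M M' : X.Modules} {a : N' ⟶ N} {b : N ⟶ E} {hab : a ≫ b = 0}
    (hS : (ShortComplex.mk a b hab).ShortExact) (hqn : Coh.IsQCoh N) (hE : FlatMod.IsFinLocFree E)
    (iN : M ≅ dual N) (iN' : M' ≅ dual N') (C : M ⟶ M')
    (hC : C ≫ iN'.hom = iN.hom ≫ (SheafHomX.homMap a).app (Coh.structureModule X)) :
    ∃ (B : dual E ⟶ M) (w : B ≫ C = 0), (ShortComplex.mk B C w).ShortExact := by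
  haveI : Epi b := hS.epi_g
  obtain ⟨w, hm, hx⟩ := ExtShShift.homMap_exact hS.exact (Coh.structureModule X)
  haveI := hm
  have w' : ((SheafHomX.homMap b).app (Coh.structureModule X) ≫ iN.inv) ≫ C = 0 := by
    rw [← cancel_mono iN'.hom, zero_comp, Category.assoc, Category.assoc, hC, Iso.inv_hom_id_assoc]
    exact w
  exact ⟨_, w', shortExact_transport _ _ w iN iN' C hC hx hm (epi_dual hS hqn hE) w'⟩

theorem ratEquiv_top_dual {δ : X → ℤ} (hX : Cyc.IsSetup X δ) {r' e : ℕ} {N' N E : X.Modules}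
    (hN' : FlatMod.IsFinLocFreeOfRank r' N') (hN : FlatMod.IsFinLocFreeOfRank (r' + e) N)
    (hE : FlatMod.IsFinLocFreeOfRank e E) {a : N' ⟶ N} {b : N ⟶ E} {hab : a ≫ b = 0}
    (hS : (ShortComplex.mk a b hab).ShortExact) {M M' : X.Modules} (iN : M ≅ dual N) (iN' : M' ≅ dual N')
    (C : M ⟶ M') (hC : C ≫ iN'.hom = iN.hom ≫ (SheafHomX.homMap a).app (Coh.structureModule X))
    (hqM : Coh.IsQCoh M) (hqM' : Coh.IsQCoh M') {A A' : RelSpec.QCAlg X} {j : M ⟶ A.toModule}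
    (hA : RelSpec.IsSymAlg M A j) {j' : M' ⟶ A'.toModule} (hA' : RelSpec.IsSymAlg M' A' j') (φ : A ⟶ A')
    (hφ : j ≫ RelSpec.QCAlg.Hom.toModuleMap φ = C ≫ j') [IsClosedImmersion (RelSpec.QCAlg.specMap φ)]
    {δV : A.spec → ℤ} (hpδ : Cyc.DeltaCompat A.π δV δ) {δV' : A'.spec → ℤ} (hp'δ : Cyc.DeltaCompat A'.π δV' δ)
    {k : ℤ} {α : AlgebraicCycle X ℤ} (hα : α ∈ Cyc.Zk X δ k) {γ : Fin (e + 1) → AlgebraicCycle X ℤ}
    (hγ : IsC δ E e k α γ) {β' : AlgebraicCycle A'.spec ℤ} (hβ' : ⇑β' = Cyc.pullFun A'.π δV' δ (r' : ℤ) ⇑α)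
    {β : AlgebraicCycle A.spec ℤ} (hβ : ⇑β = Cyc.pullFun A.π δV δ ((r' : ℤ) + e) ⇑(γ (Fin.last e))) :
    Cyc.RatEquiv δV (k + r') (AlgebraicCycle.map (RelSpec.QCAlg.specMap φ) δV' δV β') β := by
  obtain ⟨B, w, hex⟩ := exists_ses hS (QCoh.isQCoh_of_isFP (isFP_of_rank hN)) (isFinLocFree_of_rank hE) iN iN' C hC
  have hM : FlatMod.IsFinLocFreeOfRank (r' + e) M := (ConsPropLib.isFinLocFreeOfRank_iso iN).2 (rank_dual hN)
  have hM' : FlatMod.IsFinLocFreeOfRank r' M' := (ConsPropLib.isFinLocFreeOfRank_iso iN').2 (rank_dual hN')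
  have hK := rank_dual hE
  have hγe : γ (Fin.last e) ∈ Cyc.Zk X δ (k - (e : ℤ)) := by simpa using hγ.mem hX hE (Fin.last e)
  refine ratEquiv_top hX hex hK hM hM' hqM hqM' hA hA' φ hφ hpδ hp'δ hα hγe ?_ hβ' hβ
  rw [cR_dual' hX hE hK (Iso.refl _) e]
  have h := cR_emc hX hE hγ hα e (l := k - (e : ℤ)) rfl
  rw [dif_pos le_rfl] at h
  rw [show γ (Fin.last e) = γ ⟨e, Nat.lt_succ_of_le le_rfl⟩ from rfl, ← h, ← intCast_apply]
  simp

end Groth.Agent.H23.Chern.Bundle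

end
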