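import Groth.Agent.H23.Chern.Exist
import Groth.Agent.H23.GysinSq
import Groth.Agent.H23.GysinClass

/-! Chern classes commute with Gysin maps. -/

set_option autoImplicit false
set_option backward.isDefEq.respectTransparency false
set_option backward.isDefEq.respectTransparency.types false

universe u

open CategoryTheory CategoryTheory.Limits AlgebraicGeometry TopologicalSpace Opposite

noncomputable section

namespace Groth.Agent.H23.Chern

open Groth.Agent Groth.Agent.H23.ProjBd RatSec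

section

variable {X D : Scheme.{u}} [IsLocallyNoetherian X] {δ : X → ℤ} {L : X.Modules} {i : D ⟶ X} [IsClosedImmersion i]
  (hL : PicF.IsInvertible L) (hd : Cyc.IsDimFun X δ) (s : L.presheaf.obj (Opposite.op ⊤))
  {w : (ξ : X) → Cyc.secFibre L ξ} (hw : ∀ ξ, w ξ ≠ 0)

variable (i) in
/-- The Gysin map on cycles. -/
def gysinAdd : AlgebraicCycle X ℤ →+ AlgebraicCycle D ℤ :=
  AddMonoidHom.mk' (fun a => GysinLib.gysinCycle hL hd i s a hw) fun a b => by
    ext d
    show Cyc.c1CapFun δ L ⇑(a + b) (Cyc.gysinChoice L s w) (i d) =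
      Cyc.c1CapFun δ L ⇑a (Cyc.gysinChoice L s w) (i d) + Cyc.c1CapFun δ L ⇑b (Cyc.gysinChoice L s w) (i d)
    rw [Function.locallyFinsuppWithin.coe_add, Bivar.c1CapFun_add]
    rfl

variable (hD : Cyc.IsZeroSchemeOf i L s)

include hD in
theorem gysinAdd_mem_ratZero [IsLocallyNoetherian D] (hdD : Cyc.IsDimFun D fun d => δ (i d)) {k : ℤ}
    {a : AlgebraicCycle X ℤ} (ha : a ∈ ratZero hd k) : gysinAdd i hL hd s hw a ∈ ratZero hdD (k - 1) := by
  refine RatOn.restrict hd i (T := Set.range i) le_rfl (G := Cyc.c1CapFun δ L ⇑a (Cyc.gysinChoice L s w))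
    (C1Desc.zeroOn_c1Cap hL hd ?_ (GysinLib.gysinChoice_ne_zero s hw)
      fun ξ ζ _ h1 _ h3 => C1Glue.coherent_gysinChoice hL hD w w h1 h3) fun d => rfl
  rw [sub_add_cancel]
  exact RatOn.of_ratEquivZero ha

include hD in
theorem gysinAdd_capIter [IsLocallyNoetherian D] (hdD : Cyc.IsDimFun D fun d => δ (i d)) {N : X.Modules}
    (hN : PicF.IsInvertible N) {k : ℤ} {β : AlgebraicCycle X ℤ} (hβ : β ∈ Cyc.Zk X δ k)
    (t : ℕ → (ξ : X) → Cyc.secFibre N ξ) (ht : ∀ m ξ, t m ξ ≠ 0)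
    (t' : ℕ → (d : D) → Cyc.secFibre ((Scheme.Modules.pullback i).obj N) d) (ht' : ∀ m d, t' m d ≠ 0) :
    ∀ m : ℕ, Cyc.RatEquiv (fun d => δ (i d)) (k - 1 - m) (gysinAdd i hL hd s hw (capIter hN hd β t ht m))
      (capIter (PicClLib.isInvertible_pullback i hN) hdD (gysinAdd i hL hd s hw β) t' ht' m)
  | 0 => RatOn.ratEquiv (T := Set.univ) (RatOn.congr (RatOn.zero _) fun x => sub_self _)
  | m + 1 => by
    have hm := capIter_mem_Zk hN hd hβ t ht m
    have e : k - 1 - ((m + 1 : ℕ) : ℤ) = k - m - 2 := by push_cast; ring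
    rw [e]
    let G := gysinAdd i hL hd s hw
    let γ := G (capIter hN hd β t ht m)
    let ζ₂ := c1CapCycle (PicClLib.isInvertible_pullback i hN) hdD γ (t' m) (ht' m)
    have h1 : Cyc.RatEquiv (fun d => δ (i d)) (k - m - 2) (G (capIter hN hd β t ht (m + 1))) ζ₂ :=
      GysinLib.gysin_c1Cap (i := i) hL hd hD (k := k - m - 2) (capIter hN hd β t ht m)
        (fun x hx => hm x (by omega)) hw hN (ht m) (β := ⇑(capIter hN hd β t ht (m + 1)))
        (coe_c1CapCycle _ _ _ _ _) (γ := ⇑γ) (fun d => rfl) (ht' m) (fun d => rfl) (coe_c1CapCycle _ _ _ _ _)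
    have h3 : Cyc.RatEquiv (fun d => δ (i d)) (k - m - 2) ζ₂
        (capIter (PicClLib.isInvertible_pullback i hN) hdD (G β) t' ht' (m + 1)) := by
      have ih := gysinAdd_capIter hdD hN hβ t ht t' ht' m
      have h := ratEquiv_capIter (PicClLib.isInvertible_pullback i hN) hdD (β := γ)
        (fun d hd' => GysinLib.c1CapFun_degree _ (fun ξ hξ => hm ξ hξ) _ (fun h => hd' (by show δ (i d) = _; omega))) ih
        (fun _ => t' m) (fun _ => t' m) (fun _ => ht' m) (fun _ => ht' m) 1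
      rw [show k - 1 - (m : ℤ) - ((1 : ℕ) : ℤ) = k - m - 2 by push_cast; ring] at h
      exact h
    have := (ratZero hdD (k - m - 2)).add_mem (show _ ∈ ratZero hdD _ from h1) (show _ ∈ ratZero hdD _ from h3)
    rwa [sub_add_sub_cancel] at this

end

variable {X P D PD : Scheme.{u}} {p : P ⟶ X} {i : D ⟶ X} [IsClosedImmersion i] {pD : PD ⟶ D} {i' : PD ⟶ P}
  (hsq : IsPullback i' pD p i) {O1 : P.Modules} {n : ℕ} (hP : HasCoords p O1 n) [IsProper p]
  {δ : X → ℤ} {δP : P → ℤ} (hX : Cyc.IsSetup X δ) (hPs : Cyc.IsSetup P δP) (hδ : Cyc.DeltaCompat p δP δ)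
  {L : X.Modules} (hL : PicF.IsInvertible L) {s : L.presheaf.obj (Opposite.op ⊤)} (hD : Cyc.IsZeroSchemeOf i L s)
  {w : (ξ : X) → Cyc.secFibre L ξ} (hw : ∀ ξ, w ξ ≠ 0)

include hsq hδ in
theorem deltaCompat_pD : Cyc.DeltaCompat pD (fun y => δP (i' y)) (fun d => δ (i d)) := by
  haveI : IsClosedImmersion i' := MorphismProperty.of_isPullback (P := @IsClosedImmersion) hsq.flip inferInstance
  haveI : LocallyOfFiniteType pD := MorphismProperty.of_isPullback (P := @LocallyOfFiniteType) hsq inferInstance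
  have h := ChowDesc.deltaCompat_rd pD fun d => δ (i d)
  have h' := deltaCompat_top hsq hδ h (GysinLib.deltaCompat_closedImmersion i δ)
  rwa [ChowDesc.deltaCompat_unique i' h' (GysinLib.deltaCompat_closedImmersion i' δP)] at h

include hsq hP hX hPs hδ hL hD hw in
theorem isChernCap_gysin {k : ℤ} {α : AlgebraicCycle X ℤ} {γ : Fin (n + 2) → AlgebraicCycle X ℤ}
    (hγ : Cyc.IsChernCap p δ δP O1 (n + 1) k α γ) {ζ : Fin (n + 2) → AlgebraicCycle D ℤ}
    (hζ : ∀ j d, ζ j d = Cyc.c1CapFun δ L ⇑(γ j) (Cyc.gysinChoice L s w) (i d)) :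
    Cyc.IsChernCap pD (fun d => δ (i d)) (fun y => δP (i' y)) ((Scheme.Modules.pullback i').obj O1) (n + 1) (k - 1)
      (ζ 0) ζ := by
  haveI := hX.1
  haveI := hPs.1
  haveI : IsClosedImmersion i' := MorphismProperty.of_isPullback (P := @IsClosedImmersion) hsq.flip inferInstance
  haveI : IsProper pD := MorphismProperty.of_isPullback (P := @IsProper) hsq inferInstance
  have hdX := hX.2.2
  have hd := hPs.2.2
  have hDs : Cyc.IsSetup D fun d => δ (i d) := SetupLFT.isSetup i hX (GysinLib.deltaCompat_closedImmersion i δ)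
  have hPDs : Cyc.IsSetup PD fun y => δP (i' y) :=
    SetupLFT.isSetup i' hPs (GysinLib.deltaCompat_closedImmersion i' δP)
  haveI := hDs.1
  haveI := hPDs.1
  have hd' := hPDs.2.2
  haveI := hP.flat
  have hP' := hP.baseChange hsq
  haveI := hP'.flat
  have hδD := deltaCompat_pD hsq hδ
  have hN := PicClLib.isInvertible_pullback p hL
  have hD' : Cyc.IsZeroSchemeOf i' ((Scheme.Modules.pullback p).obj L) (KFlatLib.pb p (U := ⊤) s) :=
    GysinSq.isZeroSchemeOf_pb hsq hL hD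
  obtain ⟨w', hw'⟩ := exists_sections hN
  let G := gysinAdd i' hN hd (KFlatLib.pb p (U := ⊤) s) hw'
  have hζk : ∀ j : Fin (n + 2), ζ j ∈ Cyc.Zk D (fun d => δ (i d)) (k - 1 - ((j : ℕ) : ℤ)) := fun j d hd'' => by
    rw [hζ]
    exact GysinLib.c1CapFun_degree _ (fun ξ hξ => hγ.2.1 j ξ hξ) _ (fun h => hd'' (by show δ (i d) = _; omega))
  refine isChernCap_of_relSum hP' hd' hδD rfl hζk ?_
  have hB := relSum_mem hP hd hδ k α γ hγ
  have h1 := gysinAdd_mem_ratZero hN hd (KFlatLib.pb p (U := ⊤) s) hw' hD' hd' hB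
  have h2 : relSum hP' hd' hδD ζ - G (relSum hP hd hδ γ) ∈ ratZero hd' (k - 1 - 1) := by
    rw [relSum, relSum, map_sum, ← Finset.sum_sub_distrib]
    refine (ratZero hd' _).sum_mem fun m _ => ?_
    rw [map_zsmul, ← smul_sub]
    refine (ratZero hd' _).zsmul_mem ?_ _
    let j := Fin.rev m
    have hγj := hP.pullCycle_mem_Zk hd hδ (hγ.2.1 j)
    let t' : ℕ → (z : PD) → Cyc.secFibre ((Scheme.Modules.pullback i').obj O1) z := fun _ => hP'.sec 0
    have ht' : ∀ l z, t' l z ≠ 0 := fun _ => hP'.sec_ne_zero 0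
    have e1 := gysinAdd_capIter hN hd (KFlatLib.pb p (U := ⊤) s) hw' hD' hd' hP.invertible hγj (fun _ => hP.sec 0)
      (fun _ => hP.sec_ne_zero 0) t' ht' m
    have e2 : Cyc.RatEquiv (fun y => δP (i' y)) (k - ((j : ℕ) : ℤ) - 1 + n) (G (hP.pullCycle hd hδ (γ j)))
        (hP'.pullCycle hd' hδD (ζ j)) :=
      GysinSq.ratEquiv_gysin_pull hsq (hP.hasShift hd hδ) hdX hd hL hD hD' (k := k - ((j : ℕ) : ℤ) - 1) (γ j)
        (fun x hx => hγ.2.1 j x (by omega)) hw hw' (fun z => rfl)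
        (by
          show Cyc.pullFun pD (fun y => δP (i' y)) (fun d => δ (i d)) n ⇑(ζ j) = _
          rw [show ⇑(ζ j) = _ from funext (hζ j)])
    have e3 := ratEquiv_capIter (PicClLib.isInvertible_pullback i' hP.invertible) hd' (β := G (hP.pullCycle hd hδ (γ j)))
      (fun z hz => GysinLib.c1CapFun_degree _ (fun ξ hξ => hγj ξ hξ) _ (fun h => hz (by show δP (i' z) = _; omega)))
      e2 t' t' ht' ht' m
    have ek : k - 1 - 1 = k - ((j : ℕ) : ℤ) + n - 1 - (m : ℕ) := by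
      simp only [j, Fin.val_rev]; have := m.2; omega
    rw [show k - ((j : ℕ) : ℤ) - 1 + n - (m : ℕ) = k - 1 - 1 by omega] at e3
    rw [← ek] at e1
    rw [HasCoords.cl_eq, HasCoords.cl_eq]
    have h := (ratZero hd' (k - 1 - 1)).neg_mem ((ratZero hd' (k - 1 - 1)).add_mem
      (show _ ∈ ratZero hd' _ from e1) (show _ ∈ ratZero hd' _ from e3))
    rw [sub_add_sub_cancel, neg_sub] at h
    exact h
  have := (ratZero hd' (k - 1 - 1)).add_mem h2 h1
  rwa [sub_add_cancel] at this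

end Groth.Agent.H23.Chern

end
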