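import Groth.Agent.H23.Chern.Class
import Groth.Agent.S17573
import Groth.Agent.CycLib.Flat

/-! Chern classes commute with every operational class; in particular with one another. -/

set_option autoImplicit false
set_option backward.isDefEq.respectTransparency false
set_option backward.isDefEq.respectTransparency.types false

universe u

open CategoryTheory CategoryTheory.Limits AlgebraicGeometry TopologicalSpace Opposite

noncomputable section

namespace Groth.Agent.H23.Chern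

open Groth.Agent Groth.Agent.H23.ProjBd RatSec ChowDesc

theorem chCast_symm_cast {X : Scheme.{u}} {δ : X → ℤ} {k l : ℤ} (e : k = l) (y : ChowOps.CH X δ k) :
    Bivar.chCast X δ e.symm (Bivar.chCast X δ e y) = y := by
  subst e; rfl

variable {X Q : Scheme.{u}} {p : Q ⟶ X} [IsProper p] {O1 : Q.Modules} {n : ℕ} (hc : HasCoords p O1 n) {δ : X → ℤ}
  {δQ : Q → ℤ} (hX : Cyc.IsSetup X δ) (hQs : Cyc.IsSetup Q δQ) (hδ : Cyc.DeltaCompat p δQ δ) {e : ℤ}
  (d : Bivar.OpCl e X δ) [IsLocallyNoetherian X] [IsLocallyNoetherian Q]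

include hc hQs hδ in
theorem hasRelDim : Cyc.HasRelDim p n := by
  refine (CycLib.hasRelDim_iff p).2 fun x hx => ?_
  have h1 : δQ x = δ (p x) + (n : ℤ) := hc.hasShift hQs.2.2 hδ x ((FlatShift.fibMax_iff p x).1 hx)
  have h2 : δQ x = δ (p x) + (FibDim.rd p x : ℤ) := congrFun (deltaCompat_unique p hδ (deltaCompat_rd p δ)) x
  omega

include hX hQs in
/-- An operational class commutes with `c₁(O(1))^m ∩ π^*`. -/
theorem op_cl_cl {k : ℤ} {φ ξ : AlgebraicCycle X ℤ} (hφ : φ ∈ Cyc.Zk X δ k) (hξ : ξ ∈ Cyc.Zk X δ (k - e))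
    (h : d.op (Bivar.OSq.self X δ) k (ChowOps.cl φ hφ) = ChowOps.cl ξ hξ) : ∀ m : ℕ,
    ∀ hξm : hc.cl hQs.2.2 hδ m ξ ∈ Cyc.Zk Q δQ (k + n - m - e),
    d.op ((Bivar.OSq.self Q δQ).along p hδ) (k + n - m)
        (ChowOps.cl (hc.cl hQs.2.2 hδ m φ) (hc.cl_mem_Zk hQs.2.2 hδ hφ m)) =
      ChowOps.cl (hc.cl hQs.2.2 hδ m ξ) hξm
  | 0 => by
    intro hξm
    haveI := hc.flat
    have hr : Cyc.HasRelDim p n := hasRelDim hc hQs hδ
    obtain ⟨β, hβ, e1, e2⟩ := d.pull (Bivar.OSq.self X δ) ((Bivar.OSq.self Q δQ).along p hδ) p n hr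
      ((Category.comp_id p).trans (Category.id_comp p).symm) k φ hφ
    obtain ⟨β₁, hβ₁, hβ₁e, e3⟩ := e2 (hc.pullCycle hQs.2.2 hδ φ) rfl
      (hc.pullCycle_mem_Zk hQs.2.2 hδ hφ)
    have hk : k + (n : ℤ) - ((0 : ℕ) : ℤ) = k + n := by simp
    have key : ∀ (K : ℤ) (hK : K = k + n) (h1 : hc.cl hQs.2.2 hδ 0 φ ∈ Cyc.Zk Q δQ K)
        (h2 : hc.cl hQs.2.2 hδ 0 ξ ∈ Cyc.Zk Q δQ (K - e)),
        d.op ((Bivar.OSq.self Q δQ).along p hδ) K (ChowOps.cl (hc.cl hQs.2.2 hδ 0 φ) h1) =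
          ChowOps.cl (hc.cl hQs.2.2 hδ 0 ξ) h2 := by
      rintro K rfl h1 h2
      refine e3.trans (cl_eq_of_ratEquiv hβ₁ h2 ?_)
      have hsub := hc.cl_ratEquivZero hQs.2.2 hδ hX.2.2 ((ChowOps.zk X δ (k - e)).sub_mem hβ hξ)
        (ClEq.ratEquiv_of_cl_eq hX.2.2 (e1.symm.trans h)) 0
      rw [map_sub] at hsub
      rw [show β₁ = hc.cl hQs.2.2 hδ 0 β from DFunLike.coe_injective hβ₁e]
      rw [show k - e + (n : ℤ) - ((0 : ℕ) : ℤ) = k + n - e by simp; ring] at hsub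
      exact hsub
    exact key _ hk _ _
  | m + 1 => by
    intro hξm
    have hd := hQs.2.2
    have hL := hc.invertible
    have hξm' : hc.cl hd hδ m ξ ∈ Cyc.Zk Q δQ (k + n - m - e) := by
      have := hc.cl_mem_Zk hd hδ hξ m
      rwa [show k - e + (n : ℤ) - m = k + n - m - e by ring] at this
    have ih := op_cl_cl hφ hξ h m hξm'
    let c := C1Class.c1 hQs hL
    let s₀ : Bivar.OSq Q δQ := Bivar.OSq.self Q δQ
    let L' := (Scheme.Modules.pullback (𝟙 Q)).obj O1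
    have hL' : PicF.IsInvertible L' := PicClLib.isInvertible_pullback (𝟙 Q) hL
    let ι : O1 ≅ L' := ((Scheme.Modules.pullbackId Q).app O1).symm
    have hv := mapSec_ne_zero ι (hc.sec_ne_zero 0)
    have hstep : ∀ {K : ℤ} (a : AlgebraicCycle Q ℤ) (ha : a ∈ Cyc.Zk Q δQ K)
        (hb : hc.capHom hd a ∈ Cyc.Zk Q δQ (K - 1)),
        c.op s₀ K (ChowOps.cl a ha) = ChowOps.cl (hc.capHom hd a) hb := fun {K} a ha hb =>
      (C1Class.isC1Class hQs hL).2 s₀ K a ha (fun y => mapSec ι y (hc.sec 0 y)) hv (hc.capHom hd a)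
        ((coe_c1CapCycle hL hd a (hc.sec 0) (hc.sec_ne_zero 0)).trans (c1CapFun_mapSec ι hL hL' hd _ (hc.sec_ne_zero 0)).symm) hb
    have hcom := S17573.result Q δQ hQs O1 c (C1Class.isC1Class hQs hL) e (d.res p δQ hδ) s₀ (k + n - m)
      (ChowOps.cl (hc.cl hd hδ m φ) (hc.cl_mem_Zk hd hδ hφ m))
    have es : ∀ a : AlgebraicCycle X ℤ, hc.cl hd hδ (m + 1) a = hc.capHom hd (hc.cl hd hδ m a) := fun a =>
      Function.iterate_succ_apply' _ _ _
    have hk : k + (n : ℤ) - ((m + 1 : ℕ) : ℤ) = k + n - m - 1 := by push_cast; ring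
    have h1 : hc.capHom hd (hc.cl hd hδ m φ) ∈ Cyc.Zk Q δQ (k + n - m - 1) := by
      rw [← es, ← hk]; exact hc.cl_mem_Zk hd hδ hφ (m + 1)
    have h2 : hc.capHom hd (hc.cl hd hδ m ξ) ∈ Cyc.Zk Q δQ (k + n - m - e - 1) := by
      rw [← es]
      rwa [show k + (n : ℤ) - m - e - 1 = k + n - ((m + 1 : ℕ) : ℤ) - e by push_cast; ring]
    rw [show (d.res p δQ hδ).op s₀ (k + n - m) = d.op ((Bivar.OSq.self Q δQ).along p hδ) (k + n - m) from rfl, ih,
      hstep _ _ h2, hstep _ _ h1] at hcom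
    have h3 := congrArg (Bivar.chCast Q δQ (sub_right_comm (k + n - m) 1 e).symm) hcom
    erw [chCast_symm_cast, Bivar.chCast_cl] at h3
    refine Eq.trans ?_ ((congrArg (Bivar.chCast Q δQ (show k + n - m - 1 - e = k + n - ((m + 1 : ℕ) : ℤ) - e by
      push_cast; ring)) h3).symm.trans ((Bivar.chCast_cl _ _ _ _ _).trans (Bivar.cl_congr (es ξ).symm _ _)))
    have key : ∀ (K : ℤ) (hK : K = k + n - m - 1) (a : AlgebraicCycle Q ℤ) (ha : a ∈ Cyc.Zk Q δQ K)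
        (ha' : a ∈ Cyc.Zk Q δQ (k + n - m - 1)) (he : k + n - m - 1 - e = K - e),
        d.op ((Bivar.OSq.self Q δQ).along p hδ) K (ChowOps.cl a ha) =
          Bivar.chCast Q δQ he (d.op ((Bivar.OSq.self Q δQ).along p hδ) (k + n - m - 1) (ChowOps.cl a ha')) := by
      rintro K rfl a ha ha' he
      rfl
    rw [show ChowOps.cl (hc.cl hd hδ (m + 1) φ) _ =
      ChowOps.cl (hc.capHom hd (hc.cl hd hδ m φ)) (by rw [hk]; exact h1) from Bivar.cl_congr (es φ) _ _]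
    exact key _ hk _ _ h1 _

include hc hX hQs hδ in
/-- An operational class maps Chern class caps to Chern class caps. -/
theorem isChernCap_op {k : ℤ} {α : AlgebraicCycle X ℤ} {φ : Fin (n + 2) → AlgebraicCycle X ℤ}
    (hφ : Cyc.IsChernCap p δ δQ O1 (n + 1) k α φ) (ξ : Fin (n + 2) → AlgebraicCycle X ℤ)
    (hξ : ∀ j : Fin (n + 2), ξ j ∈ Cyc.Zk X δ (k - ((j : ℕ) : ℤ) - e))
    (he : ∀ j : Fin (n + 2),
      d.op (Bivar.OSq.self X δ) (k - ((j : ℕ) : ℤ)) (ChowOps.cl (φ j) (hφ.2.1 j)) = ChowOps.cl (ξ j) (hξ j)) :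
    Cyc.IsChernCap p δ δQ O1 (n + 1) (k - e) (ξ 0) ξ := by
  have hd := hQs.2.2
  refine isChernCap_of_relSum hc hd hδ rfl (fun j => by rw [sub_right_comm]; exact hξ j) ?_
  have hR := relSum_mem hc hd hδ k α φ hφ
  let T := (Bivar.OSq.self Q δQ).along p hδ
  have hmk : ∀ i : Fin (n + 2), hc.cl hd hδ i (φ (Fin.rev i)) ∈ Cyc.Zk Q δQ (k - 1) := fun i => by
    have := hc.cl_mem_Zk hd hδ (hφ.2.1 (Fin.rev i)) i
    rwa [show k - ((Fin.rev i : Fin (n + 2)) : ℕ) + (n : ℤ) - (i : ℕ) = k - 1 by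
      rw [Fin.val_rev]; have := i.2; omega] at this
  have hmx : ∀ i : Fin (n + 2), hc.cl hd hδ i (ξ (Fin.rev i)) ∈ Cyc.Zk Q δQ (k - 1 - e) := fun i => by
    have := hc.cl_mem_Zk hd hδ (hξ (Fin.rev i)) i
    rwa [show k - ((Fin.rev i : Fin (n + 2)) : ℕ) - e + (n : ℤ) - (i : ℕ) = k - 1 - e by
      rw [Fin.val_rev]; have := i.2; omega] at this
  have hterm : ∀ i : Fin (n + 2),
      d.op T (k - 1) (ChowOps.cl _ (hmk i)) = ChowOps.cl _ (hmx i) := fun i => by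
    have hK : k - ((Fin.rev i : Fin (n + 2)) : ℕ) + (n : ℤ) - (i : ℕ) = k - 1 := by
      rw [Fin.val_rev]; have := i.2; omega
    have key : ∀ (K : ℤ) (hK : K = k - 1) (ha : hc.cl hd hδ i (φ (Fin.rev i)) ∈ Cyc.Zk Q δQ K)
        (hb : hc.cl hd hδ i (ξ (Fin.rev i)) ∈ Cyc.Zk Q δQ (K - e)),
        d.op T K (ChowOps.cl _ ha) = ChowOps.cl _ hb →
          d.op T (k - 1) (ChowOps.cl _ (hmk i)) = ChowOps.cl _ (hmx i) := by
      rintro K rfl ha hb h
      exact h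
    exact key _ hK _ _ (op_cl_cl hc hX hQs hδ d (hφ.2.1 (Fin.rev i)) (hξ (Fin.rev i)) (he _) i (by
      rw [hK]; exact hmx i))
  let Φ : Fin (n + 2) → ↥(ChowOps.zk Q δQ (k - 1)) := fun i => (-1 : ℤ) ^ (i : ℕ) • ⟨_, hmk i⟩
  let Ξ : Fin (n + 2) → ↥(ChowOps.zk Q δQ (k - 1 - e)) := fun i => (-1 : ℤ) ^ (i : ℕ) • ⟨_, hmx i⟩
  have h1 : ChowOps.clHom Q δQ (k - 1) (∑ i, Φ i) = 0 := by
    refine (QuotientAddGroup.eq_zero_iff _).2 (AddSubgroup.subset_closure ?_)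
    show Cyc.RatEquivZero δQ (k - 1) (((∑ i, Φ i) : ↥(ChowOps.zk Q δQ (k - 1))) : AlgebraicCycle Q ℤ)
    rw [AddSubgroup.val_finset_sum]
    exact hR
  have h2 : ChowOps.clHom Q δQ (k - 1 - e) (∑ i, Ξ i) = 0 := by
    rw [← map_zero (d.op T (k - 1)), ← h1, map_sum, map_sum]
    erw [map_sum]
    refine Finset.sum_congr rfl fun i _ => ?_
    rw [map_zsmul, map_zsmul]
    erw [map_zsmul]
    exact congrArg ((-1 : ℤ) ^ (i : ℕ) • ·) (hterm i).symm
  have h3 := ClEq.ratEquivZero_of_mem hd ((QuotientAddGroup.eq_zero_iff _).1 h2)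
  rw [AddSubgroup.val_finset_sum] at h3
  rw [show k - e - 1 = k - 1 - e by ring]
  exact h3

end Groth.Agent.H23.Chern

end
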