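import Groth.Agent.H23.ProjBd.VBundle
import Groth.Agent.H23.ProjBd.Proper
import Groth.Agent.H23.Chern.Comm
import Groth.Agent.H23.Chern.Split
import Groth.Agent.H28.PBMake
import Groth.Agent.Synt29.Standard

/-! A vector bundle is flat of finite type, with the rank as relative dimension. -/

set_option autoImplicit false
set_option backward.isDefEq.respectTransparency false
set_option backward.isDefEq.respectTransparency.types false

universe u

open CategoryTheory CategoryTheory.Limits AlgebraicGeometry TopologicalSpace Opposite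

noncomputable section

namespace Groth.Agent.H23.Chern.Bundle

open Groth.Agent Groth.Agent.H23.ProjBd RatSec ChowDesc

variable {X : Scheme.{u}} {E : X.Modules} {n : ℕ}

theorem rank_comp (hE : FlatMod.IsFinLocFreeOfRank n E) :
    FlatMod.IsFinLocFreeOfRank (n + 1) (ProjBd.Hyper.comp E) := fun x => by
  obtain ⟨V, hxV, ⟨i⟩⟩ := hE x
  obtain ⟨b, hb⟩ := Groth.Agent.H23.Frame.exists_frame i
  exact ⟨V, hxV, Groth.Agent.H23.Frame.exists_iso_of_frame _ (Hyper.isFrame_consFrame hb)⟩

variable {A : RelSpec.QCAlg X} {j : E ⟶ A.toModule}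

/-- The bundle is an open part of a projective bundle. -/
theorem exists_open (hq : Coh.IsQCoh E) (hE : FlatMod.IsFinLocFreeOfRank n E) (hA : RelSpec.IsSymAlg E A j) :
    ∃ (P : Scheme.{u}) (p : P ⟶ X) (O1 : P.Modules), IsProper p ∧ HasCoords p O1 n ∧
      ∃ g : A.spec ⟶ P, IsOpenImmersion g ∧ g ≫ p = A.π := by
  obtain ⟨P, p, O1, q, hP⟩ := H28.PBMake.exists_of_rank (rank_comp hE)
  haveI := VBundle.isAffineHom_g hP hE
  obtain ⟨e, he, hw⟩ := VBundle.exists_iso hP hq hE hA
  refine ⟨P, p, O1, isProper_of_projBundle hP (rank_comp hE), hasCoords_of_projBundle hP (rank_comp hE),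
    inv e ≫ (Hyper.W₀ q).ι, inferInstance, ?_⟩
  rw [Category.assoc, IsIso.inv_comp_eq]
  exact hw.symm

theorem flat_π (hq : Coh.IsQCoh E) (hE : FlatMod.IsFinLocFreeOfRank n E) (hA : RelSpec.IsSymAlg E A j) :
    Flat A.π := by
  obtain ⟨P, p, O1, hp, hc, g, hg, hw⟩ := exists_open hq hE hA
  haveI := hc.flat
  rw [← hw]
  infer_instance

theorem lft_π (hq : Coh.IsQCoh E) (hE : FlatMod.IsFinLocFreeOfRank n E) (hA : RelSpec.IsSymAlg E A j) :
    LocallyOfFiniteType A.π := by
  obtain ⟨P, p, O1, hp, hc, g, hg, hw⟩ := exists_open hq hE hA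
  rw [← hw]
  infer_instance

theorem hasRelDim_π {δ : X → ℤ} (hX : Cyc.IsSetup X δ) (hq : Coh.IsQCoh E) (hE : FlatMod.IsFinLocFreeOfRank n E)
    (hA : RelSpec.IsSymAlg E A j) : Cyc.HasRelDim A.π n := by
  haveI := lft_π hq hE hA
  obtain ⟨P, p, O1, hp, hc, g, hg, hw⟩ := exists_open hq hE hA
  have hs := isSetup_rd p hX
  haveI := hX.1
  haveI := hs.1
  have hr := (CycLib.hasRelDim_iff p).1 (Chern.hasRelDim hc hs (deltaCompat_rd p δ))
  refine (CycLib.hasRelDim_iff A.π).2 fun z hz => ?_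
  rw [← Synt29.rd_comp_openImmersion p A.π g (𝟙 X) (by rw [hw, Category.comp_id]) z]
  refine hr _ ((FlatShift.fibMax_iff p _).2 fun y hy hs => ?_)
  obtain ⟨a, rfl⟩ : y ∈ Set.range g := hs.mem_open g.isOpenEmbedding.isOpen_range ⟨z, rfl⟩
  have e : ∀ w, p (g w) = A.π w := fun w => congrArg (fun φ : A.spec ⟶ X => φ w) hw
  rw [(FlatShift.fibMax_iff A.π z).1 hz a (by rw [← e, ← e]; exact hy)
    (g.isOpenEmbedding.isInducing.specializes_iff.1 hs)]

end Groth.Agent.H23.Chern.Bundle

end
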