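import Groth.Agent.RelSpecX.Spec
import Groth.Agent.SymAlgX.Gen
import Groth.Agent.H23.Chern.CoFrame
import Groth.Agent.H23.Frame

/-! The tautological cosection of a module mapping to the functions of a relative spectrum. -/

set_option autoImplicit false
set_option backward.isDefEq.respectTransparency false
set_option backward.isDefEq.respectTransparency.types false

universe u

open CategoryTheory CategoryTheory.Limits AlgebraicGeometry TopologicalSpace Opposite IsLocalRing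

noncomputable section

namespace Groth.Agent.H23.Chern.Bundle

open Groth.Agent C1Pull

variable {X : Scheme.{u}} (A : RelSpec.QCAlg X)

/-- A section of the algebra as a function on the relative spectrum. -/
def gsec (U : X.Opens) : A.presheaf.obj (op U) →+* Γ(A.spec, A.π ⁻¹ᵁ U) :=
  haveI := RelSpecX.isIso_gammaMap A
  ((inv A.gammaMap).app (op U)).hom

theorem gammaMap_gsec (U : X.Opens) (a : A.presheaf.obj (op U)) : (A.gammaMap.app (op U)).hom (gsec A U a) = a := by
  haveI := RelSpecX.isIso_gammaMap A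
  exact ConcreteCategory.congr_hom ((asIso A.gammaMap).inv_hom_id_app (op U)) a

theorem gsec_gammaMap (U : X.Opens) (t : Γ(A.spec, A.π ⁻¹ᵁ U)) : gsec A U ((A.gammaMap.app (op U)).hom t) = t := by
  haveI := RelSpecX.isIso_gammaMap A
  exact ConcreteCategory.congr_hom ((asIso A.gammaMap).hom_inv_id_app (op U)) t

theorem gsec_bijective (U : X.Opens) : Function.Bijective (gsec A U) :=
  ⟨fun a b h => by rw [← gammaMap_gsec A U a, h, gammaMap_gsec], fun t => ⟨_, gsec_gammaMap A U t⟩⟩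

theorem gsec_str (U : X.Opens) (c : Γ(X, U)) : gsec A U ((A.str.app (op U)).hom c) = A.π.app U c := by
  have h := ConcreteCategory.congr_hom (NatTrans.congr_app A.π_c_gammaMap (op U)) c
  rw [← h]
  exact gsec_gammaMap A U _

theorem gsec_res {U V : X.Opens} (h : V ≤ U) (a : A.presheaf.obj (op U)) :
    gsec A V ((A.presheaf.map (homOfLE h).op).hom a) =
      (A.spec.presheaf.map (homOfLE (A.π.preimage_mono h)).op).hom (gsec A U a) := by
  haveI := RelSpecX.isIso_gammaMap A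
  exact ConcreteCategory.congr_hom ((inv A.gammaMap).naturality (homOfLE h).op) a

/-- The algebra mapped to the functions on its relative spectrum. -/
def toPush : A.toModule ⟶ (Scheme.Modules.pushforward A.π).obj (Coh.structureModule A.spec) :=
  ⟨PresheafOfModules.homMk
    { app := fun V => AddCommGrpCat.ofHom (gsec A V.unop).toAddMonoidHom
      naturality := fun V V' i => by
        ext a
        exact gsec_res A i.unop.le a }
    fun V r a => by
      refine (map_mul (gsec A V.unop) ((A.str.app V).hom r) a).trans ?_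
      rw [gsec_str]
      rfl⟩

variable {A} {M : X.Modules}

/-- The cosection of a module mapping to the algebra. -/
def tauto (w : M ⟶ A.toModule) : (Scheme.Modules.pullback A.π).obj M ⟶ Coh.structureModule A.spec :=
  ((Scheme.Modules.pullbackPushforwardAdjunction A.π).homEquiv M (Coh.structureModule A.spec)).symm (w ≫ toPush A)

theorem coMap_tauto (w : M ⟶ A.toModule) {U : X.Opens} (z : A.spec) (hz : A.π z ∈ U) (s : Γ(M, U)) :
    coMap (tauto w) z (pm A.π M z (M.presheaf.germ U (A.π z) hz s)) =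
      A.spec.presheaf.germ (A.π ⁻¹ᵁ U) z hz (gsec A U (SymAlgX.jv A w U s)) := by
  refine (unitEquiv z).injective ?_
  rw [unitEquiv_apply, unitEquiv_apply, coMap_smul_one, pm_germ]
  refine Eq.trans ?_ (UnitSec.germ_smul_one (A.π ⁻¹ᵁ U) hz _).symm
  refine (DerSch.stalkFunctor_map_germ z (tauto w) (A.π ⁻¹ᵁ U) hz _).trans (congrArg _ ?_)
  refine Eq.trans ?_ (congrArg (fun φ : M ⟶ (Scheme.Modules.pushforward A.π).obj (Coh.structureModule A.spec) =>
    φ.app U s) (((Scheme.Modules.pullbackPushforwardAdjunction A.π).homEquiv M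
      (Coh.structureModule A.spec)).apply_symm_apply (w ≫ toPush A)))
  rw [Adjunction.homEquiv_unit]
  rfl

variable {n : ℕ}

theorem coIdeal_tauto (w : M ⟶ A.toModule) (hM : FlatMod.IsFinLocFreeOfRank n M) {U : X.Opens}
    {k : Fin n → Γ(M, U)} (hk : Groth.Agent.H23.Frame.IsFrame M k) (z : A.spec) (hz : A.π z ∈ U) :
    coIdeal (tauto w) z =
      Ideal.span (Set.range fun l => A.spec.presheaf.germ (A.π ⁻¹ᵁ U) z hz (gsec A U (SymAlgX.jv A w U (k l)))) := by
  let S := Submodule.span (X.presheaf.stalk (A.π z)) (Set.range fun l => M.presheaf.germ U (A.π z) hz (k l))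
  have hS : ∀ m, m ∈ S := fun m => by
    obtain ⟨W, hW, s, rfl⟩ := M.presheaf.germ_exist m
    let W' : X.Opens := W ⊓ U
    obtain ⟨c, hc⟩ := (hk W' inf_le_right).2 (M.presheaf.map (homOfLE (inf_le_left : W' ≤ W)).op s)
    rw [← M.presheaf.germ_res_apply (homOfLE (inf_le_left : W' ≤ W)) (A.π z) ⟨hW, hz⟩ s, ← hc,
      Groth.Agent.H23.Frame.comb, map_sum]
    refine S.sum_mem fun l _ => ?_
    rw [QCoh.germ_smul', TopCat.Presheaf.germ_res_apply]
    exact S.smul_mem _ (Submodule.subset_span ⟨l, rfl⟩)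
  let b := (CurveTensor.exists_basis_stalk hM (A.π z)).some
  obtain ⟨b', hb'⟩ := exists_pm_basis A.π z b
  refine le_antisymm ?_ (Ideal.span_le.2 ?_)
  · rw [coIdeal_eq _ b', Ideal.span_le]
    rintro _ ⟨l, rfl⟩
    show coMap (tauto w) z (b' l) ∈ _
    rw [hb']
    have hbl := hS (b l)
    generalize b l = m at hbl
    induction hbl using Submodule.span_induction with
    | mem x hx =>
      obtain ⟨i, rfl⟩ := hx
      rw [coMap_tauto]
      exact Ideal.subset_span ⟨i, rfl⟩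
    | zero =>
      rw [show pm A.π M z 0 = 0 from (AddMonoidHom.mk' (pm A.π M z) fun a a' => pm_add A.π M z a a').map_zero,
        map_zero]
      exact Ideal.zero_mem _
    | add x y _ _ hx hy => rw [pm_add, map_add]; exact Ideal.add_mem _ hx hy
    | smul a x _ hx => rw [pm_smul, map_smul, smul_eq_mul]; exact Ideal.mul_mem_left _ _ hx
  · rintro _ ⟨l, rfl⟩
    exact ⟨_, coMap_tauto w z hz (k l)⟩

variable {A' : RelSpec.QCAlg X} (φ : A ⟶ A')

theorem app_specMap_gsec {U : X.Opens} (hU : IsAffineOpen U) (a : A.presheaf.obj (op U))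
    (e : A'.π ⁻¹ᵁ U ≤ RelSpec.QCAlg.specMap φ ⁻¹ᵁ (A.π ⁻¹ᵁ U)) :
    (RelSpec.QCAlg.specMap φ).appLE (A.π ⁻¹ᵁ U) (A'.π ⁻¹ᵁ U) e (gsec A U a) =
      gsec A' U ((φ.hom.app (op U)).hom a) := by
  have key : (RelSpec.QCAlg.specMap φ).appLE (A.π ⁻¹ᵁ U) (A'.π ⁻¹ᵁ U) e ≫ A'.gammaAff U hU =
      A.gammaAff U hU ≫ φ.hom.app (op U) := by
    have hc : ∀ (f g : Spec (A'.presheaf.obj (op U)) ⟶ A.spec) (h : f = g) (e1 : ⊤ ≤ f ⁻¹ᵁ (A.π ⁻¹ᵁ U))
        (e2 : ⊤ ≤ g ⁻¹ᵁ (A.π ⁻¹ᵁ U)), f.appLE (A.π ⁻¹ᵁ U) ⊤ e1 = g.appLE (A.π ⁻¹ᵁ U) ⊤ e2 := by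
      rintro f _ rfl e1 e2
      rfl
    rw [RelSpec.QCAlg.gammaAff, RelSpec.QCAlg.gammaAff, Category.assoc, ← Category.assoc,
      Scheme.Hom.appLE_comp_appLE (A'.ι U hU) (RelSpec.QCAlg.specMap φ) _ _ _ e (A'.top_le_preimage U hU),
      hc _ _ (RelSpec.QCAlg.ι_specMap U hU φ) _
        (fun y _ => A.top_le_preimage U hU (Opens.mem_top ((Spec.map (φ.hom.app (op U))) y))),
      ← Scheme.Hom.appLE_comp_appLE (Spec.map (φ.hom.app (op U))) (A.ι U hU) _ ⊤ _ (A.top_le_preimage U hU)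
        (fun y _ => trivial), Category.assoc]
    refine congrArg ((A.ι U hU).appLE _ ⊤ _ ≫ ·) ?_
    rw [← Scheme.ΓSpecIso_naturality]
    refine congrArg (· ≫ (Scheme.ΓSpecIso _).hom) ?_
    simp [Scheme.Hom.appLE, Scheme.Hom.appTop]
  have h := ConcreteCategory.congr_hom key (gsec A U a)
  rw [← A.gammaMap_app U hU, ← A'.gammaMap_app U hU, ConcreteCategory.comp_apply, ConcreteCategory.comp_apply] at h
  have h' := congrArg (gsec A' U) h
  refine ((gsec_gammaMap A' U _).symm.trans h').trans (congrArg (fun b => gsec A' U ((φ.hom.app (op U)).hom b)) (gammaMap_gsec A U a))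

theorem ker_app_specMap {U : X.Opens} (hU : IsAffineOpen U) :
    RingHom.ker ((RelSpec.QCAlg.specMap φ).app (A.π ⁻¹ᵁ U)).hom =
      (RingHom.ker (φ.hom.app (op U)).hom).map (gsec A U) := by
  have e0 : RelSpec.QCAlg.specMap φ ⁻¹ᵁ (A.π ⁻¹ᵁ U) = A'.π ⁻¹ᵁ U := by
    rw [← Scheme.Hom.comp_preimage, RelSpec.QCAlg.specMap_π]
  have hker : RingHom.ker ((RelSpec.QCAlg.specMap φ).appLE (A.π ⁻¹ᵁ U) (A'.π ⁻¹ᵁ U) e0.ge).hom =
      RingHom.ker ((RelSpec.QCAlg.specMap φ).app (A.π ⁻¹ᵁ U)).hom := by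
    have key : ∀ (W : A'.spec.Opens) (h : RelSpec.QCAlg.specMap φ ⁻¹ᵁ (A.π ⁻¹ᵁ U) = W),
        RingHom.ker ((RelSpec.QCAlg.specMap φ).appLE (A.π ⁻¹ᵁ U) W h.ge).hom =
          RingHom.ker ((RelSpec.QCAlg.specMap φ).app (A.π ⁻¹ᵁ U)).hom := by
      rintro _ rfl
      rw [Scheme.Hom.app_eq_appLE]
    exact key _ e0
  refine hker.symm.trans (le_antisymm (fun s hs => ?_) (Ideal.map_le_iff_le_comap.2 fun a ha => ?_))
  · obtain ⟨a, rfl⟩ := (gsec_bijective A U).2 s
    refine Ideal.mem_map_of_mem _ ((gsec_bijective A' U).1 ?_)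
    rw [map_zero, ← app_specMap_gsec φ hU a e0.ge]
    exact hs
  · show (RelSpec.QCAlg.specMap φ).appLE (A.π ⁻¹ᵁ U) (A'.π ⁻¹ᵁ U) e0.ge (gsec A U a) = 0
    rw [app_specMap_gsec φ hU a e0.ge, RingHom.mem_ker.1 ha, map_zero]

end Groth.Agent.H23.Chern.Bundle

end
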