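import Groth.Agent.H23.Chern.Formulas
import Groth.Agent.H23.C1Class

/-! Translating identities of operations into identities of cycles. -/

set_option autoImplicit false
set_option backward.isDefEq.respectTransparency false
set_option backward.isDefEq.respectTransparency.types false

universe u

open CategoryTheory CategoryTheory.Limits AlgebraicGeometry TopologicalSpace Opposite

noncomputable section

namespace Groth.Agent.H23.Chern

open Groth.Agent Groth.Agent.H23.ProjBd RatSec ChowDesc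

variable {X : Scheme.{u}} {δ : X → ℤ} (hX : Cyc.IsSetup X δ) {E L : X.Modules} {r : ℕ}
  (hE : FlatMod.IsFinLocFreeOfRank r E) {k : ℤ} {α : AlgebraicCycle X ℤ} (hα : α ∈ Cyc.Zk X δ k)

theorem cR_emc {γ : Fin (r + 1) → AlgebraicCycle X ℤ} (hγ : IsC δ E r k α γ) (hα : α ∈ Cyc.Zk X δ k) (j : ℕ)
    {l : ℤ} (hl : l = k - (j : ℤ)) :
    (cR hX hE j).1 (emc δ k α) = emc δ l (if h : j ≤ r then γ ⟨j, Nat.lt_succ_of_le h⟩ else 0) := by
  subst hl
  by_cases h : j ≤ r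
  · rw [dif_pos h]
    exact cOp_emc hX hE hα hγ ⟨j, Nat.lt_succ_of_le h⟩
  · rw [dif_neg h, cR_of_gt hX hE (by omega), emc_zero]
    rfl

theorem lR_pow_emc (hL : PicF.IsInvertible L) (t : ℕ → (ξ : X) → Cyc.secFibre L ξ) (ht : ∀ m ξ, t m ξ ≠ 0) :
    ∀ (m : ℕ) {k : ℤ} {a ζ : AlgebraicCycle X ℤ}, a ∈ Cyc.Zk X δ k → ⇑ζ = Cyc.c1PowFun δ L t m ⇑a →
      ζ ∈ Cyc.Zk X δ (k - (m : ℤ)) ∧ ((lR hX hL) ^ m).1 (emc δ k a) = emc δ (k - (m : ℤ)) ζ := by
  haveI := hX.1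
  intro m
  induction m with
  | zero =>
    intro k a ζ ha hζ
    obtain rfl : ζ = a := DFunLike.coe_injective hζ
    refine ⟨by simpa using ha, ?_⟩
    simp
  | succ m ih =>
    intro k a ζ ha hζ
    let μ := capIter hL hX.2.2 a t ht m
    have hμ : ⇑μ = Cyc.c1PowFun δ L t m ⇑a := (c1PowFun_eq hL hX.2.2 a t ht m).symm
    obtain ⟨hm, he⟩ := ih ha hμ
    have hζ' : ⇑ζ = Cyc.c1CapFun δ L ⇑μ (t m) := by rw [hμ]; exact hζ
    have hr := c1v_eq hX hL hm (ratEquiv_rfl μ) (ht m) hζ'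
    have hk : k - ((m + 1 : ℕ) : ℤ) = k - (m : ℤ) - 1 := by push_cast; ring
    have hz : ζ ∈ Cyc.Zk X δ (k - (m : ℤ) - 1) := by
      have := C1Class.capCycle_mem hL hX.2.2 hm (t m) (ht m)
      rwa [show c1CapCycle hL hX.2.2 μ (t m) (ht m) = ζ from DFunLike.coe_injective
        ((coe_c1CapCycle _ _ _ _ _).trans hζ'.symm)] at this
    refine ⟨hk ▸ hz, ?_⟩
    rw [pow_succ', hk]
    show (lR hX hL).1 (((lR hX hL) ^ m).1 (emc δ k a)) = _
    rw [he, lR_emc hX hL hm]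
    exact emc_congr (c1v_mem hX hL hm) hz hr

theorem natCast_apply (n : ℕ) (A : CR hX) (g : ChT X δ) : ((n : CR hX) * A).1 g = n • A.1 g := by
  rw [← nsmul_eq_mul, AddSubmonoidClass.coe_nsmul]
  rfl

theorem intCast_apply (n : ℤ) (A : CR hX) (g : ChT X δ) : ((n : CR hX) * A).1 g = n • A.1 g := by
  rw [← zsmul_eq_mul, AddSubgroupClass.coe_zsmul]
  rfl

theorem add_apply (A B : CR hX) (g : ChT X δ) : (A + B).1 g = A.1 g + B.1 g := rfl

theorem mul_apply (A B : CR hX) (g : ChT X δ) : (A * B).1 g = A.1 (B.1 g) := rfl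

theorem sum_apply {ι : Type*} (s : Finset ι) (A : ι → CR hX) (g : ChT X δ) :
    (∑ i ∈ s, A i).1 g = ∑ i ∈ s, (A i).1 g := by
  rw [AddSubmonoidClass.coe_finsetSum]
  exact AddMonoidHom.finsetSum_apply (fun i => ((A i).1 : ChT X δ →+ ChT X δ)) s g

end Groth.Agent.H23.Chern

end
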