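import Groth.Agent.H23.Chern.BundleZero
import Groth.Agent.H23.Chern.Translate

/-! The subbundle pushed into the bundle is the pull-back of the top Chern class of the quotient. -/

set_option autoImplicit false
set_option backward.isDefEq.respectTransparency false
set_option backward.isDefEq.respectTransparency.types false

universe u

open CategoryTheory CategoryTheory.Limits AlgebraicGeometry TopologicalSpace Opposite IsLocalRing

noncomputable section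

namespace Groth.Agent.H23.Chern.Bundle

open Groth.Agent Groth.Agent.H23.ProjBd RatSec ChowDesc C1Pull

variable {X : Scheme.{u}} {δ : X → ℤ} (hX : Cyc.IsSetup X δ) {K M M' : X.Modules} {B : K ⟶ M} {C : M ⟶ M'}
  {hBC : B ≫ C = 0} (hex : (ShortComplex.mk B C hBC).ShortExact) {e r' : ℕ}
  (hK : FlatMod.IsFinLocFreeOfRank e K) (hM : FlatMod.IsFinLocFreeOfRank (r' + e) M)
  (hM' : FlatMod.IsFinLocFreeOfRank r' M')
  (hqM : Coh.IsQCoh M) (hqM' : Coh.IsQCoh M') {A A' : RelSpec.QCAlg X} {j : M ⟶ A.toModule}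
  (hA : RelSpec.IsSymAlg M A j) {j' : M' ⟶ A'.toModule} (hA' : RelSpec.IsSymAlg M' A' j') (φ : A ⟶ A')
  (hφ : j ≫ RelSpec.QCAlg.Hom.toModuleMap φ = C ≫ j')

include hX hex hK hM hM' hqM hqM' hA hA' hφ in
/-- The pushed forward pull-back is the pull-back of the top class, up to sign. -/
theorem ratEquiv_top [IsClosedImmersion (RelSpec.QCAlg.specMap φ)] {δV : A.spec → ℤ}
    (hpδ : Cyc.DeltaCompat A.π δV δ) {δV' : A'.spec → ℤ} (hp'δ : Cyc.DeltaCompat A'.π δV' δ) {k : ℤ}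
    {α : AlgebraicCycle X ℤ} (hα : α ∈ Cyc.Zk X δ k) {γe : AlgebraicCycle X ℤ} (hγe : γe ∈ Cyc.Zk X δ (k - e))
    (hc : (cR hX hK e).1 (emc δ k α) = (-1 : ℤ) ^ e • emc δ (k - e) γe)
    {β' : AlgebraicCycle A'.spec ℤ} (hβ' : ⇑β' = Cyc.pullFun A'.π δV' δ (r' : ℤ) ⇑α)
    {β : AlgebraicCycle A.spec ℤ} (hβ : ⇑β = Cyc.pullFun A.π δV δ ((r' : ℤ) + e) ⇑γe) :
    Cyc.RatEquiv δV (k + r') (AlgebraicCycle.map (RelSpec.QCAlg.specMap φ) δV' δV β') β := by
  haveI := hX.1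
  haveI := flat_π hqM hM hA
  haveI := lft_π hqM hM hA
  haveI := flat_π hqM' hM' hA'
  haveI := lft_π hqM' hM' hA'
  have hr := hasRelDim_π hX hqM hM hA
  have hr' := hasRelDim_π hX hqM' hM' hA'
  obtain rfl : δV = fun z => δ (A.π z) + FibDim.rd A.π z := funext (CycLib.deltaCompat_eq A.π hpδ)
  obtain rfl : δV' = fun z => δ (A'.π z) + FibDim.rd A'.π z := funext (CycLib.deltaCompat_eq A'.π hp'δ)
  have hV := isSetup_rd A.π hX
  haveI := hV.1
  have hs := FlatShift.hasShift_of_hasRelDim A.π hr (deltaCompat_rd A.π δ)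
  have hE' := GrassFlag.rank_pullback A.π hK
  let i := RelSpec.QCAlg.specMap φ
  let αV := FlatClass.pullCycle hs hV.2.2 α
  let ζ := AlgebraicCycle.map i (fun z => δ (A'.π z) + FibDim.rd A'.π z) (fun z => δ (A.π z) + FibDim.rd A.π z) β'
  have hαV : αV ∈ Cyc.Zk A.spec (fun z => δ (A.π z) + FibDim.rd A.π z) (k + (r' + e : ℕ)) :=
    FlatClass.pullCycle_mem hs hV.2.2 hα rfl
  have hβ'm : β' ∈ Cyc.Zk A'.spec (fun z => δ (A'.π z) + FibDim.rd A'.π z) (k + r') :=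
    Bivar.pullFun_mem_Zk A'.π _ δ (r' : ℤ) k hα β' hβ'
  have hζ : ζ ∈ Cyc.Zk A.spec (fun z => δ (A.π z) + FibDim.rd A.π z) (k + (r' + e : ℕ) - e) := fun z hz => by
    rw [CycLib.map_apply']
    refine finsum_mem_eq_zero_of_forall_eq_zero fun w hw => ?_
    by_cases h : δ (A'.π w) + (FibDim.rd A'.π w : ℤ) = k + r'
    · have hw' : i w = z := hw
      simp only [AlgebraicCycle.mapCoeff]
      rw [if_neg, Nat.cast_zero, mul_zero]
      subst hw'
      intro h2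
      refine hz ?_
      show δ (A.π (i w)) + (FibDim.rd A.π (i w) : ℤ) = _
      have h2' : δ (A'.π w) + (FibDim.rd A'.π w : ℤ) = δ (A.π (i w)) + (FibDim.rd A.π (i w) : ℤ) := h2
      push_cast
      omega
    · rw [hβ'm w h, zero_mul]
  have hcuts := cutsTo_bundle hX hex hK (fun x => let ⟨U, hU, hn⟩ := hM' x; ⟨U, r', hU, hn⟩) hqM hqM' hA hA' φ hφ (CycLib.rd_le_of_hasRelDim A.π hr)
    (CycLib.rd_le_of_hasRelDim A'.π hr') hα (αV := αV) rfl hβ'
  have h1 := cR_cozero_cycle hV (tauto (B ≫ j)) hE' hαV hζ hcuts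
  obtain ⟨φK, hφK⟩ := exists_isC hX hK hα
  let βK : Fin (e + 1) → AlgebraicCycle A.spec ℤ := fun l => FlatClass.pullCycle hs hV.2.2 (φK l)
  have hpull := hφK.pull hX hK hV (deltaCompat_rd A.π δ) hr (Iso.refl _) (β := βK) fun l => rfl
  rw [show βK 0 = αV from congrArg (FlatClass.pullCycle hs hV.2.2) (hφK.zero hX hK)] at hpull
  have h2 := cR_emc hV hE' hpull hαV e (l := k + (r' + e : ℕ) - e) rfl
  rw [dif_pos le_rfl] at h2
  rw [h1] at h2
  have h3 := cR_emc hX hK hφK hα e (l := k - e) rfl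
  rw [dif_pos le_rfl, hc] at h3
  have hφe : φK ⟨e, Nat.lt_succ_of_le le_rfl⟩ ∈ Cyc.Zk X δ (k - e) := hφK.mem hX hK ⟨e, Nat.lt_succ_of_le le_rfl⟩
  have heq : Cyc.RatEquiv δ (k - e) (φK ⟨e, Nat.lt_succ_of_le le_rfl⟩) ((-1 : ℤ) ^ e • γe) :=
    ratEquiv_of_emc hX hφe ((ChowOps.zk X δ _).zsmul_mem hγe _) (by rw [emc_zsmul _ hγe]; exact h3.symm)
  have hβm : β ∈ Cyc.Zk A.spec (fun z => δ (A.π z) + FibDim.rd A.π z) (k + (r' + e : ℕ) - e) := by
    have := Bivar.pullFun_mem_Zk A.π _ δ ((r' : ℤ) + e) (k - e) hγe β hβ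
    rwa [show k - (e : ℤ) + ((r' : ℤ) + e) = k + (r' + e : ℕ) - e by push_cast; ring] at this
  have hpe : emc (fun z => δ (A.π z) + FibDim.rd A.π z) (k + (r' + e : ℕ) - e) (βK ⟨e, Nat.lt_succ_of_le le_rfl⟩) =
      (-1 : ℤ) ^ e • emc (fun z => δ (A.π z) + FibDim.rd A.π z) (k + (r' + e : ℕ) - e) β := by
    have hl : k + ((r' + e : ℕ) : ℤ) - e = k - e + ((r' + e : ℕ) : ℤ) := by ring
    rw [← emc_zsmul _ hβm]
    refine emc_congr (FlatClass.pullCycle_mem hs hV.2.2 hφe hl) ((ChowOps.zk _ _ _).zsmul_mem hβm _) ?_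
    show Cyc.RatEquivZero _ _ (_ - _)
    rw [hl]
    refine DivPull.ratEquivZero_pull A.π hs hX.2.2 hV.2.2 heq _ ?_
    funext z
    have hcoe : ⇑(βK ⟨e, Nat.lt_succ_of_le le_rfl⟩) = Cyc.pullFun A.π (fun z => δ (A.π z) + FibDim.rd A.π z) δ
        ((r' + e : ℕ) : ℤ) ⇑(φK ⟨e, Nat.lt_succ_of_le le_rfl⟩) := rfl
    simp only [hcoe, Function.locallyFinsuppWithin.coe_sub, Function.locallyFinsuppWithin.coe_zsmul, Pi.sub_apply,
      Pi.smul_apply, smul_eq_mul, hβ, Cyc.pullFun]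
    push_cast
    split_ifs <;> ring
  have h4 : emc (fun z => δ (A.π z) + FibDim.rd A.π z) (k + (r' + e : ℕ) - e) ζ =
      emc (fun z => δ (A.π z) + FibDim.rd A.π z) (k + (r' + e : ℕ) - e) β := by
    have h5 := congrArg (fun g => (-1 : ℤ) ^ e • g) (h2.trans hpe)
    simp only [smul_smul] at h5
    rwa [← mul_pow, neg_one_mul, neg_neg, one_pow, one_zsmul, one_zsmul] at h5
  have := ratEquiv_of_emc hV hζ hβm h4
  rwa [show k + ((r' + e : ℕ) : ℤ) - e = k + r' by push_cast; ring] at this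

end Groth.Agent.H23.Chern.Bundle

end
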