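import Groth.Agent.H23.Chern.BundleZero
import Groth.Agent.H23.Chern.BundleAffine
import Groth.Agent.H23.Chern.Formulas
import Groth.Agent.SeesawX.Glue
import Groth.Agent.CycLib.DivPushAll

/-! A sub-bundle with trivial line bundle quotient pushes every cycle to zero; the rank may vary. -/

set_option autoImplicit false
set_option backward.isDefEq.respectTransparency false
set_option backward.isDefEq.respectTransparency.types false

universe u

open CategoryTheory CategoryTheory.Limits AlgebraicGeometry TopologicalSpace Opposite IsLocalRing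

noncomputable section

namespace Groth.Agent.H23.Chern.Bundle

open Groth.Agent Groth.Agent.H23 RatSec ChowDesc C1Pull CDiv6 StalkPrimes

variable {X : Scheme.{u}}

/-- The rank at a point. -/
def rkAt (M : X.Modules) (x : X) : ℕ := Module.finrank (X.presheaf.stalk x) (M.presheaf.stalk x)

theorem rkAt_eq {M : X.Modules} (hM : FlatMod.IsFinLocFree M) {U : X.Opens} {n : ℕ}
    (e : Nonempty (M.restrict U.ι ≅ FlatMod.freeMod (↑U) n)) {x : X} (hx : x ∈ U) : rkAt M x = n := by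
  obtain ⟨e⟩ := e
  obtain ⟨_, ⟨W, hW, rfl⟩, hxW, hle⟩ := X.isBasis_affineOpens.exists_subset_of_mem_open (show x ∈ U from hx) U.2
  obtain ⟨l⟩ := QCoh.exists_linearEquiv_of_freeIso (QCoh.freeChart hW hle e)
  exact QCoh.finrank_stalk_of_freeChart hW (QCoh.isQCoh_of_isFinLocFree hM) ((QCoh.chartEquiv hW M).trans l) hxW

theorem rkAt_eq_of_specializes {M : X.Modules} (hM : FlatMod.IsFinLocFree M) {x y : X} (h : x ⤳ y) :
    rkAt M x = rkAt M y := by
  obtain ⟨U, n, hy, e⟩ := hM y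
  exact (rkAt_eq hM e (h.mem_open U.isOpen hy)).trans (rkAt_eq hM e hy).symm

theorem isSetup_add_rank {δ : X → ℤ} (hX : Cyc.IsSetup X δ) {M : X.Modules} (hM : FlatMod.IsFinLocFree M) :
    Cyc.IsSetup X (fun x => δ x + rkAt M x) := by
  refine ⟨hX.1, hX.2.1, fun x y h hne => ?_⟩
  obtain ⟨h1, h2⟩ := hX.2.2 x y h hne
  have h3 := rkAt_eq_of_specializes hM h
  exact ⟨by simp only [h3]; omega, fun hi => by have := h2 hi; simp only [h3]; omega⟩

variable {δ : X → ℤ} {M : X.Modules} (hM : FlatMod.IsFinLocFree M)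

/-- A morphism that is locally over the base an affine space of the given rank. -/
def IsAff {V : Scheme.{u}} (f : V ⟶ X) (r : X → ℕ) : Prop :=
  ∀ x : X, ∃ (U : X.Opens) (n : ℕ), x ∈ U ∧ (∀ y ∈ U, r y = n) ∧
    ∃ e : (↑(f ⁻¹ᵁ U) : Scheme.{u}) ≅ 𝔸(ULift.{u} (Fin n); (↑U : Scheme.{u})),
      e.hom ≫ (𝔸(ULift.{u} (Fin n); (↑U : Scheme.{u})) ↘ (↑U : Scheme.{u})) = f ∣_ U

variable {V : Scheme.{u}} {f : V ⟶ X} {r : X → ℕ}

theorem IsAff.lft (h : IsAff f r) : LocallyOfFiniteType f := by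
  choose U n hU hn e he using h
  refine IsZariskiLocalAtTarget.of_iSup_eq_top U (eq_top_iff.2 fun y _ => Opens.mem_iSup.2 ⟨y, hU y⟩) fun y => ?_
  rw [← he y]
  infer_instance

theorem IsAff.flat (h : IsAff f r) : Flat f := by
  choose U n hU hn e he using h
  refine IsZariskiLocalAtTarget.of_iSup_eq_top U (eq_top_iff.2 fun y _ => Opens.mem_iSup.2 ⟨y, hU y⟩) fun y => ?_
  rw [← he y]
  infer_instance

theorem IsAff.qc (h : IsAff f r) : QuasiCompact f := by
  choose U n hU hn e he using h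
  refine IsZariskiLocalAtTarget.of_iSup_eq_top U (eq_top_iff.2 fun y _ => Opens.mem_iSup.2 ⟨y, hU y⟩) fun y => ?_
  rw [← he y]
  infer_instance

theorem IsAff.affFib (h : IsAff f r) (y : X) : Homotopy.AffFib f (ULift.{u} (Fin (r y))) y := by
  obtain ⟨U, n, hyU, hn, e, he⟩ := h y
  rw [hn y hyU]
  have hr' : Set.range (X.fromSpecResidueField y) ⊆ Set.range U.ι := by
    rw [Scheme.range_fromSpecResidueField, Scheme.Opens.range_ι]
    exact Set.singleton_subset_iff.2 hyU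
  let g := IsOpenImmersion.lift U.ι (X.fromSpecResidueField y) hr'
  refine ⟨AffineSpace.map _ g ≫ e.inv ≫ (f ⁻¹ᵁ U).ι, ?_⟩
  rw [← Category.assoc, ← IsOpenImmersion.lift_fac U.ι (X.fromSpecResidueField y) hr']
  refine CategoryTheory.IsPullback.paste_horiz ?_ (isPullback_morphismRestrict f U).flip
  exact (AffineSpace.isPullback_map g).of_iso (Iso.refl _) e.symm (Iso.refl _) (Iso.refl _)
    (by simp) (by simp) (by simp [← he]) (by simp [g])

theorem IsAff.hasShift (h : IsAff f r) {δV : V → ℤ} (hδ : Cyc.DeltaCompat f δV δ) (c : ℤ) (δ₁ : X → ℤ)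
    (hr : ∀ y, δ₁ y + c = δ y + r y) : FlatShift.HasShift f δV δ₁ c := fun z hz => by
  haveI := h.lft
  obtain ⟨U, n, hzU, hn, e, he⟩ := h (f z)
  let z' : (↑(f ⁻¹ᵁ U) : Scheme.{u}) := ⟨z, hzU⟩
  have hc : ∀ w, f ((f ⁻¹ᵁ U).ι w) = U.ι ((f ∣_ U) w) := fun w =>
    (congrArg (fun φ : (↑(f ⁻¹ᵁ U) : Scheme.{u}) ⟶ X => φ w) (morphismRestrict_ι f U)).symm
  have hmax : FibDim.FibMax (f ∣_ U) z' := (FlatShift.fibMax_iff _ z').2 fun w hw hs => by
    refine (f ⁻¹ᵁ U).ι.isOpenEmbedding.injective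
      (hz _ ?_ (hs.map (f ⁻¹ᵁ U).ι.continuous))
    rw [hc, hw, ← hc]
    rfl
  have hrd : FibDim.rd (f ∣_ U) z' = n := by
    rw [← he] at hmax ⊢
    rw [Homotopy.rd_iso_comp]
    exact FibDim.rd_affineSpace_fibMax n ((Homotopy.fibMax_iso_comp e _ z').1 hmax)
  have h2 := Synt29.rd_comp_openImmersion f (f ∣_ U) (f ⁻¹ᵁ U).ι U.ι (morphismRestrict_ι f U).symm z'
  rw [CycLib.deltaCompat_eq f hδ z, show FibDim.rd f z = n from h2.trans hrd, ← hn _ hzU]
  have := hr (f z)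
  omega

theorem IsAff.exists_pull (h : IsAff f r) (hX : Cyc.IsSetup X δ) {δV : V → ℤ} (hV : Cyc.IsSetup V δV)
    (hδ : Cyc.DeltaCompat f δV δ) {δ₁ : X → ℤ} (h₁ : Cyc.IsSetup X δ₁) {c : ℤ}
    (hr : ∀ y, δ₁ y + c = δ y + r y) {k : ℤ} {β : AlgebraicCycle V ℤ} (hβ : β ∈ Cyc.Zk V δV (k + c)) :
    ∃ (α : AlgebraicCycle X ℤ) (β' : AlgebraicCycle V ℤ), α ∈ Cyc.Zk X δ₁ k ∧
      ⇑β' = Cyc.pullFun f δV δ₁ c ⇑α ∧ Cyc.RatEquiv δV (k + c) β β' := by
  haveI := hX.1
  haveI := hV.1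
  haveI := h.lft
  haveI := h.flat
  haveI := h.qc
  have hc := h.hasShift hδ c δ₁ hr
  exact Homotopy.exists_pull_ratEquiv hV.2.2 h₁.2.2 hc
    (Homotopy.fibreData_of_affFib' f hV.2.2 hδ r c hc hr k (fun y => ULift.{u} (Fin (r y))) h.affFib
      fun y => Homotopy.vanish (r y) _) β hβ

section Triv

variable {K M M' : X.Modules} {B : K ⟶ M} {C : M ⟶ M'} {hBC : B ≫ C = 0}
  (hex : (ShortComplex.mk B C hBC).ShortExact) (eO : K ≅ Coh.structureModule X)
  (hM' : FlatMod.IsFinLocFree M') (hqM : Coh.IsQCoh M) (hqM' : Coh.IsQCoh M') {A A' : RelSpec.QCAlg X}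
  {j : M ⟶ A.toModule} (hA : RelSpec.IsSymAlg M A j) {j' : M' ⟶ A'.toModule} (hA' : RelSpec.IsSymAlg M' A' j')
  (φ : A ⟶ A') (hφ : j ≫ RelSpec.QCAlg.Hom.toModuleMap φ = C ≫ j')

include eO in
theorem rank_triv : FlatMod.IsFinLocFreeOfRank 1 K :=
  rank_of_iso eO.symm (InvEnd.isFinLocFreeOfRank_one InvX.isInvertible_structureModule)

include hM' hqM' hA' in
theorem isAff_sub : IsAff A'.π (rkAt M') := fun x => by
  obtain ⟨W, n, hxW, hn⟩ := hM' x
  obtain ⟨U, hxU, hUW, he⟩ := exists_affine_iso_at hqM' hA' hxW hn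
  exact ⟨U, n, hxU, fun y hy => rkAt_eq hM' hn (hUW hy), he⟩

include hex eO hM' hqM hqM' hA hA' hφ in
theorem isAff_total : IsAff A.π (fun x => rkAt M' x + 1) := fun x => by
  obtain ⟨r', U, hxU, hU, hfree, k, em, -, hem, hC, -, -⟩ :=
    exists_chart hex (rank_triv eO) hM' hqM hqM' hA hA' φ hφ x
  let g : ULift.{u} (Fin (r' + 1)) ≃ Fin 1 ⊕ Fin r' :=
    Equiv.ulift.trans ((finCongr (Nat.add_comm r' 1)).trans finSumFinEquiv.symm)
  refine ⟨U, r' + 1, hxU, fun y hy => by show rkAt M' y + 1 = r' + 1; rw [rkAt_eq hM' hfree hy], exists_iso_of_coords hU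
    (em.comp (MvPolynomial.renameEquiv Γ(X, U) g).toRingEquiv.toRingHom)
    (hem.comp (MvPolynomial.renameEquiv Γ(X, U) g).bijective) fun c => ?_⟩
  show em (MvPolynomial.rename g (MvPolynomial.C c)) = _
  rw [MvPolynomial.rename_C, hC]

include hex eO hM' hqM hqM' hA hA' hφ in
/-- The push-forward from the sub-bundle kills every class. -/
theorem ratEquivZero_map (hX : Cyc.IsSetup X δ) [IsClosedImmersion (RelSpec.QCAlg.specMap φ)] {δV : A.spec → ℤ}
    (hV : Cyc.IsSetup A.spec δV) (hpδ : Cyc.DeltaCompat A.π δV δ) {δV' : A'.spec → ℤ}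
    (hV' : Cyc.IsSetup A'.spec δV') (hp'δ : Cyc.DeltaCompat A'.π δV' δ) {k : ℤ}
    {α : AlgebraicCycle A'.spec ℤ} (hα : α ∈ Cyc.Zk A'.spec δV' k) :
    Cyc.RatEquivZero δV k (AlgebraicCycle.map (RelSpec.QCAlg.specMap φ) δV' δV α) := by
  haveI := hX.1
  haveI := hV.1
  haveI := hV'.1
  have hK := rank_triv eO
  have hT := isAff_total hex eO hM' hqM hqM' hA hA' φ hφ
  have hT' := isAff_sub hM' hqM' hA'
  haveI := hT.lft
  haveI := hT.flat
  haveI := hT'.lft
  haveI := hT'.flat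
  let δ₁ : X → ℤ := fun x => δ x + rkAt M' x
  have h₁ : Cyc.IsSetup X δ₁ := isSetup_add_rank hX hM'
  let i := RelSpec.QCAlg.specMap φ
  have hπ : i ≫ A.π = A'.π := RelSpec.QCAlg.specMap_π φ
  have hπ' : ∀ w, A.π (i w) = A'.π w := fun w => congrArg (fun ψ : A'.spec ⟶ X => ψ w) hπ
  have hrd : ∀ w, FibDim.rd A'.π w = FibDim.rd A.π (i w) := fun w => by
    rw [← DimFormula.rd_closedSub A.π i w]
    exact congrArg (fun ψ : A'.spec ⟶ X => FibDim.rd ψ w) hπ.symm
  have hδi : ∀ w, δV (i w) = δV' w := fun w => by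
    rw [CycLib.deltaCompat_eq A.π hpδ, CycLib.deltaCompat_eq A'.π hp'δ, hπ', hrd]
  obtain ⟨β, β', hβ, hβ', heq⟩ := hT'.exists_pull hX hV' hp'δ h₁ (c := 0) (fun y => add_zero _)
    (β := α) (by rw [add_zero]; exact hα)
  rw [add_zero] at heq
  have hic : Cyc.DeltaCompat i δV' δV := by
    rw [show δV' = fun w => δV (i w) from funext fun w => (hδi w).symm]
    exact GysinLib.deltaCompat_closedImmersion i δV
  have hs := hT.hasShift hpδ 1 δ₁ (fun y => by simp [δ₁]; omega)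
  let αV := FlatClass.pullCycle hs hV.2.2 β
  have hαV : αV ∈ Cyc.Zk A.spec δV (k + 1) := FlatClass.pullCycle_mem hs hV.2.2 hβ rfl
  let ζ := AlgebraicCycle.map i δV' δV β'
  have hβ'm : β' ∈ Cyc.Zk A'.spec δV' k := by
    have := Bivar.pullFun_mem_Zk A'.π δV' δ₁ 0 k hβ β' hβ'
    rwa [add_zero] at this
  have hmap : ∀ w, ζ (i w) = β' w := fun w => by
    rw [CycLib.map_apply', show i ⁻¹' {i w} = {w} from Set.ext fun z =>
      ⟨fun h => i.isClosedEmbedding.injective h, fun h => congrArg i h⟩, finsum_mem_singleton]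
    simp [AlgebraicCycle.mapCoeff, hδi, CycLib.residueDegree_preimmersion]
  have hout : ∀ z, z ∉ Set.range i → ζ z = 0 := fun z hz => by
    rw [CycLib.map_apply', show i ⁻¹' {z} = ∅ from Set.eq_empty_of_forall_notMem fun w hw => hz ⟨w, hw⟩,
      finsum_mem_empty]
  have hζ : ζ ∈ Cyc.Zk A.spec δV (k + 1 - (1 : ℕ)) := fun z hz => by
    by_cases h : z ∈ Set.range i
    · obtain ⟨w, rfl⟩ := h
      rw [hmap]
      exact hβ'm w (by rw [← hδi]; push_cast at hz; omega)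
    · exact hout z h
  have hcuts : CutsTo δV (k + 1) 1 (tauto (B ≫ j)) ⇑αV ⇑ζ := by
    refine ⟨fun z hz => hout z fun h => (coIdeal_ne_top_iff hex hK hM' hqM hqM' hA hA' φ hφ z).2 h hz,
      fun z hz hδ => ?_⟩
    obtain ⟨N, η, hη, hηn, hF⟩ := exists_fam_primes h₁.2.2 hβ (A.π z)
    have hFV := hF.pull' A.π (δ' := δV) (d := 1) (fun y _ => hs.le hV.2.2 y) hβ
    refine ⟨N, _, _, hFV, fun t => regSec_map hex hK hM' hqM hqM' hA hA' φ hφ z hz _ (primeOf (hη t)).2.ne_top,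
      fun hzk => ?_⟩
    obtain ⟨z', rfl⟩ := (coIdeal_ne_top_iff hex hK hM' hqM hqM' hA hA' φ hφ z).1 hz
    haveI : Flat (i ≫ A.π) := by rw [hπ]; infer_instance
    have hs' : FlatShift.HasShift (i ≫ A.π) δV' δ₁ 0 := by
      rw [hπ]; exact hT'.hasShift hp'δ 0 δ₁ fun y => add_zero _
    have hF' := (hF.pull' (y := z') (i ≫ A.π) (δ' := δV') (d := 0) (fun y _ => hs'.le hV'.2.2 y) hβ).1 z'
      (specializes_refl z') (by
        have h9 : δV (i z') = k + 1 - ((1 : ℕ) : ℤ) := hzk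
        rw [hδi] at h9
        push_cast at h9
        omega)
    rw [hmap, hβ', show Cyc.pullFun A'.π δV' δ₁ 0 ⇑β z' = Cyc.pullFun (i ≫ A.π) δV' δ₁ 0 ⇑β z' by rw [hπ], hF']
    refine Finset.sum_congr rfl fun t _ => congrArg (fun m : ℕ∞ => β (η t) * ((m.toNat : ℕ) : ℤ)) ?_
    rw [TopCat.Presheaf.stalkSpecializes_refl, CommRingCat.hom_id, Ideal.map_id, Scheme.Hom.stalkMap_comp,
      CommRingCat.hom_comp, ← ker_stalk_eq hex hK hM' hqM hqM' hA hA' φ hφ z']
    refine Eq.trans (congrArg (fun J : Ideal (A'.spec.presheaf.stalk z') =>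
      Module.length (A'.spec.presheaf.stalk z') (A'.spec.presheaf.stalk z' ⧸ J)) ?_)
      (GysinPb.length_quot_map (i.stalkMap z').hom (i.stalkMap_surjective z') le_sup_right)
    rw [Ideal.map_sup, (Ideal.map_eq_bot_iff_le_ker _).2 le_rfl, sup_bot_eq, Ideal.map_map]
  have hE' := GrassFlag.rank_pullback A.π hK
  have h1 := cR_cozero_cycle hV (tauto (B ≫ j)) hE' hαV hζ hcuts
  have hO : PicF.IsInvertible (Coh.structureModule A.spec) := InvX.isInvertible_structureModule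
  have h0 : cR hV hE' 1 = 0 := by
    let e := ((Scheme.Modules.pullback A.π).mapIso eO ≪≫ pullUnit A.π).symm
    exact (cR_iso hV (InvEnd.isFinLocFreeOfRank_one hO) hE' e 1).trans (lR_unit hV hO)
  rw [h0] at h1
  have h2 : emc δV (k + 1 - (1 : ℕ)) ζ = emc δV (k + 1 - (1 : ℕ)) 0 := by
    rw [emc_zero]
    have h3 : (0 : _) = (-1 : ℤ) ^ 1 • emc δV (k + 1 - (1 : ℕ)) ζ := h1
    simpa using h3.symm
  have h4 := ratEquiv_of_emc hV hζ (ChowOps.zk _ _ _).zero_mem h2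
  rw [show k + 1 - ((1 : ℕ) : ℤ) = k by push_cast; ring] at h4
  haveI : IsProper i := inferInstance
  have h5 := CycLib.ratEquiv_map i hV' hV hic heq
  have h6 := RatOn.trans hV.2.2 h5 h4
  simpa [Cyc.RatEquiv, i] using h6

end Triv

end Groth.Agent.H23.Chern.Bundle

end
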