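import Groth.Agent.H23.DiagMult

/-! The stalk ideals of a closed immersion from the sections over an affine open. -/

set_option autoImplicit false
set_option backward.isDefEq.respectTransparency.types false

universe u

open AlgebraicGeometry CategoryTheory TopologicalSpace IsLocalRing

namespace Groth.Agent.H23.ClosedStalk

variable {Z X : Scheme.{u}} (i : Z ⟶ X) [IsClosedImmersion i] {W : X.Opens} (hW : IsAffineOpen W)

include hW in
theorem ker_stalkMap_eq (d : Z) (hd : i d ∈ W) :
    RingHom.ker (i.stalkMap d).hom = (RingHom.ker (i.app W).hom).map (X.presheaf.germ W (i d) hd).hom := by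
  rw [← DiagMult.stalkIdeal_ker, MultCM.stalkIdeal_eq i.ker ⟨W, hW⟩ hd, Scheme.Hom.ker_apply]

include hW in
theorem mem_range_of_ne_top {z : X} (hz : z ∈ W)
    (h : (RingHom.ker (i.app W).hom).map (X.presheaf.germ W z hz).hom ≠ ⊤) : z ∈ Set.range i := by
  have hsupp : z ∈ (i.ker.support : Set X) ∩ W := by
    rw [Scheme.IdealSheafData.coe_support_inter i.ker ⟨W, hW⟩]
    refine ⟨?_, hz⟩
    rw [Scheme.mem_zeroLocus_iff]
    intro f hf hzf
    rw [Scheme.mem_basicOpen X f z hz] at hzf
    exact h (Ideal.eq_top_of_isUnit_mem _ (Ideal.mem_map_of_mem _ (by rwa [Scheme.Hom.ker_apply] at hf)) hzf)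
  have h1 := hsupp.1
  rw [Scheme.Hom.support_ker] at h1
  simpa [i.isClosedEmbedding.isClosed_range.closure_eq] using h1

include hW in
theorem map_ne_top (d : Z) (hd : i d ∈ W) :
    (RingHom.ker (i.app W).hom).map (X.presheaf.germ W (i d) hd).hom ≠ ⊤ := by
  rw [← ker_stalkMap_eq i hW d hd]
  exact RingHom.ker_ne_top _

end Groth.Agent.H23.ClosedStalk
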