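import Groth.Agent.H23.Chern.CoCycle
import Groth.Agent.H23.Chern.BundleSec
import Groth.Agent.H23.Chern.BundleChart
import Groth.Agent.H23.Chern.BundleProj
import Groth.Agent.H23.Chern.ClosedStalk
import Groth.Agent.H23.GysinLen
import Groth.Agent.GrLib8.RegBound
import Groth.Agent.DimFormula.ClosedSub

/-! A subbundle is cut out of a bundle by the tautological cosection, regularly on every pulled back cycle. -/

set_option autoImplicit false
set_option backward.isDefEq.respectTransparency false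
set_option backward.isDefEq.respectTransparency.types false

universe u

open CategoryTheory CategoryTheory.Limits AlgebraicGeometry TopologicalSpace Opposite IsLocalRing

noncomputable section

namespace Groth.Agent.H23.Chern.Bundle

open Groth.Agent C1Pull RatSec CDiv6 StalkPrimes

theorem weaklyRegular_X_quot {S : Type u} [CommRing S] (n : ℕ) (P : Ideal S) :
    RingTheory.Sequence.IsWeaklyRegular (MvPolynomial (Fin n) S ⧸ P.map MvPolynomial.C)
      ((List.ofFn (MvPolynomial.X : Fin n → MvPolynomial (Fin n) S)).map (Ideal.Quotient.mk (P.map MvPolynomial.C))) := by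
  let f : MvPolynomial (Fin n) S →+* MvPolynomial (Fin n) (S ⧸ P) := MvPolynomial.map (Ideal.Quotient.mk P)
  have hf : Function.Surjective f := MvPolynomial.map_surjective _ Ideal.Quotient.mk_surjective
  have hker : RingHom.ker f = P.map MvPolynomial.C := by rw [MvPolynomial.ker_map, Ideal.mk_ker]
  let e : (MvPolynomial (Fin n) S ⧸ P.map MvPolynomial.C) ≃+* MvPolynomial (Fin n) (S ⧸ P) :=
    (Ideal.quotEquivOfEq hker.symm).trans (RingHom.quotientKerEquivOfSurjective hf)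
  refine ((AddEquiv.isWeaklyRegular_congr (e := e.toAddEquiv)
    (bs := List.ofFn (MvPolynomial.X : Fin n → MvPolynomial (Fin n) (S ⧸ P))) ?_).2
    (Groth.Agent.GrLib8.isWeaklyRegular_X (S ⧸ P) n))
  rw [List.forall₂_iff_get]
  refine ⟨by simp, fun l h1 h2 x => ?_⟩
  show e (_ * x) = _ * e x
  rw [map_mul]
  congr 1
  simp [e, f]

variable {X : Scheme.{u}} {δ : X → ℤ} (hX : Cyc.IsSetup X δ) {K M M' : X.Modules} {B : K ⟶ M} {C : M ⟶ M'}
  {hBC : B ≫ C = 0} (hex : (ShortComplex.mk B C hBC).ShortExact) {e : ℕ}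
  (hK : FlatMod.IsFinLocFreeOfRank e K) (hM' : FlatMod.IsFinLocFree M')
  (hqM : Coh.IsQCoh M) (hqM' : Coh.IsQCoh M') {A A' : RelSpec.QCAlg X} {j : M ⟶ A.toModule}
  (hA : RelSpec.IsSymAlg M A j) {j' : M' ⟶ A'.toModule} (hA' : RelSpec.IsSymAlg M' A' j') (φ : A ⟶ A')
  (hφ : j ≫ RelSpec.QCAlg.Hom.toModuleMap φ = C ≫ j')

include hex hK hM' hqM hqM' hA hA' hφ in
theorem ker_germ_eq (z : A.spec) :
    ∃ (W : A.spec.Opens) (_ : IsAffineOpen W) (hz : z ∈ W), coIdeal (tauto (B ≫ j)) z =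
      (RingHom.ker ((RelSpec.QCAlg.specMap φ).app W).hom).map (A.spec.presheaf.germ W z hz).hom := by
  obtain ⟨r', U, hxU, hU, -, k, em, hk, -, -, -, hker⟩ := exists_chart hex hK hM' hqM hqM' hA hA' φ hφ (A.π z)
  refine ⟨A.π ⁻¹ᵁ U, hU.preimage A.π, hxU, ?_⟩
  rw [coIdeal_tauto (B ≫ j) hK hk z hxU, ker_app_specMap φ hU, hker, Ideal.map_map, Ideal.map_span, ← Set.range_comp]
  rfl

include hex hK hM' hqM hqM' hA hA' hφ in
theorem ker_stalk_eq [IsClosedImmersion (RelSpec.QCAlg.specMap φ)] (z' : A'.spec) :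
    RingHom.ker ((RelSpec.QCAlg.specMap φ).stalkMap z').hom =
      coIdeal (tauto (B ≫ j)) (RelSpec.QCAlg.specMap φ z') := by
  obtain ⟨W, hW, hz, h⟩ := ker_germ_eq hex hK hM' hqM hqM' hA hA' φ hφ (RelSpec.QCAlg.specMap φ z')
  rw [h]
  exact ClosedStalk.ker_stalkMap_eq _ hW z' hz

include hex hK hM' hqM hqM' hA hA' hφ in
theorem coIdeal_ne_top_iff [IsClosedImmersion (RelSpec.QCAlg.specMap φ)] (z : A.spec) :
    coIdeal (tauto (B ≫ j)) z ≠ ⊤ ↔ z ∈ Set.range (RelSpec.QCAlg.specMap φ) := by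
  refine ⟨fun h => ?_, ?_⟩
  · obtain ⟨W, hW, hz, e⟩ := ker_germ_eq hex hK hM' hqM hqM' hA hA' φ hφ z
    exact ClosedStalk.mem_range_of_ne_top _ hW hz (e ▸ h)
  · rintro ⟨z', rfl⟩
    rw [← ker_stalk_eq hex hK hM' hqM hqM' hA hA' φ hφ z']
    exact RingHom.ker_ne_top _

include hex hK hM' hqM hqM' hA hA' hφ in
theorem regSec_map (z : A.spec) (hz : coIdeal (tauto (B ≫ j)) z ≠ ⊤) (P : Ideal (X.presheaf.stalk (A.π z)))
    (hP : P ≠ ⊤) : RegSec e (tauto (B ≫ j)) (P.map (A.π.stalkMap z).hom) := by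
  obtain ⟨r', U, hxU, hU, -, k, em, hk, hem, hemC, hemX, -⟩ := exists_chart hex hK hM' hqM hqM' hA hA' φ hφ (A.π z)
  let R := Γ(X, U)
  let S₂ := MvPolynomial (Fin r') R
  let T := MvPolynomial (Fin e) S₂
  let W := A.π ⁻¹ᵁ U
  have hW : IsAffineOpen W := hU.preimage A.π
  let g : Γ(A.spec, W) →+* A.spec.presheaf.stalk z := (A.spec.presheaf.germ W z hxU).hom
  have hgflat : g.Flat := by
    letI : Algebra Γ(A.spec, W) (A.spec.presheaf.stalk z) := A.spec.presheaf.algebra_section_stalk (⟨z, hxU⟩ : W)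
    haveI : IsLocalization.AtPrime (A.spec.presheaf.stalk z) (hW.primeIdealOf ⟨z, hxU⟩).asIdeal :=
      hW.isLocalization_stalk ⟨z, hxU⟩
    exact RingHom.flat_algebraMap_iff.2
      (IsLocalization.flat _ (hW.primeIdealOf ⟨z, hxU⟩).asIdeal.primeCompl)
  let G : T →+* Γ(A.spec, W) :=
    (gsec A U).comp (em.comp (MvPolynomial.sumAlgEquiv R (Fin e) (Fin r')).symm.toRingEquiv.toRingHom)
  have hG : Function.Bijective G :=
    (gsec_bijective A U).comp (hem.comp (MvPolynomial.sumAlgEquiv R (Fin e) (Fin r')).symm.bijective)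
  let H : T →+* A.spec.presheaf.stalk z := g.comp G
  have hflat : H.Flat := RingHom.Flat.comp (RingHom.Flat.of_bijective hG) hgflat
  have hHC : H.comp (MvPolynomial.C.comp MvPolynomial.C) =
      (A.π.stalkMap z).hom.comp (X.presheaf.germ U (A.π z) hxU).hom := by
    refine RingHom.ext fun c => ?_
    show g (gsec A U (em ((MvPolynomial.sumAlgEquiv R (Fin e) (Fin r')).symm (MvPolynomial.C (MvPolynomial.C c))))) = _
    rw [MvPolynomial.sumAlgEquiv_symm_C_C, hemC, gsec_str]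
    exact (Scheme.Hom.germ_stalkMap_apply A.π U z hxU c).symm
  let P₀ : Ideal R := P.comap (X.presheaf.germ U (A.π z) hxU).hom
  have hP₀ : P₀.map (X.presheaf.germ U (A.π z) hxU).hom = P := by
    letI : Algebra R (X.presheaf.stalk (A.π z)) := X.presheaf.algebra_section_stalk (⟨A.π z, hxU⟩ : U)
    haveI : IsLocalization.AtPrime (X.presheaf.stalk (A.π z)) (hU.primeIdealOf ⟨A.π z, hxU⟩).asIdeal :=
      hU.isLocalization_stalk ⟨A.π z, hxU⟩
    exact IsLocalization.map_comap (hU.primeIdealOf ⟨A.π z, hxU⟩).asIdeal.primeCompl _ P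
  have hJ : ((P₀.map (MvPolynomial.C : R →+* S₂)).map (MvPolynomial.C : S₂ →+* T)).map H =
      P.map (A.π.stalkMap z).hom := by
    rw [Ideal.map_map, Ideal.map_map, RingHom.comp_assoc, hHC, ← Ideal.map_map, hP₀]
  let f : Fin e → A.spec.presheaf.stalk z := fun l => g (gsec A U (SymAlgX.jv A (B ≫ j) U (k l)))
  have hHX : ∀ l, H (MvPolynomial.X l) = f l := fun l => by
    show g (gsec A U (em ((MvPolynomial.sumAlgEquiv R (Fin e) (Fin r')).symm (MvPolynomial.X l)))) = _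
    rw [MvPolynomial.sumAlgEquiv_symm_X, hemX]
    rfl
  have hco : coIdeal (tauto (B ≫ j)) z = Ideal.span (Set.range f) := coIdeal_tauto (B ≫ j) hK hk z hxU
  refine Or.inr ⟨f, ?_, by rw [hco]⟩
  letI := H.toAlgebra
  haveI : Module.Flat T (A.spec.presheaf.stalk z) := hflat
  have hw := weaklyRegular_quot_pull (B := A.spec.presheaf.stalk z)
    ((P₀.map (MvPolynomial.C : R →+* S₂)).map (MvPolynomial.C : S₂ →+* T)) (weaklyRegular_X_quot e _)
  rw [RingHom.algebraMap_toAlgebra, hJ, List.map_ofFn, List.map_ofFn] at hw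
  rw [show (fun l => Ideal.Quotient.mk (P.map (A.π.stalkMap z).hom) (f l)) =
    Ideal.Quotient.mk (P.map (A.π.stalkMap z).hom) ∘ (H ∘ MvPolynomial.X) from funext fun l => by
      simp [hHX]]
  have hne : P.map (A.π.stalkMap z).hom ≠ ⊤ :=
    ne_top_of_le_ne_top (IsLocalRing.maximalIdeal.isMaximal _).ne_top
      ((Ideal.map_mono (IsLocalRing.le_maximalIdeal hP)).trans
        (Ideal.map_le_iff_le_comap.2 (IsLocalRing.maximalIdeal_comap (A.π.stalkMap z).hom).ge))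
  haveI : Nontrivial (A.spec.presheaf.stalk z ⧸ P.map (A.π.stalkMap z).hom) := Ideal.Quotient.nontrivial_iff.2 hne
  haveI : IsLocalRing (A.spec.presheaf.stalk z ⧸ P.map (A.π.stalkMap z).hom) :=
    IsLocalRing.of_surjective' (Ideal.Quotient.mk _) Ideal.Quotient.mk_surjective
  refine RingTheory.Sequence.IsRegular.of_isWeaklyRegular_of_mem_maximalIdeal
    (L := A.spec.presheaf.stalk z ⧸ P.map (A.π.stalkMap z).hom) (mem := fun c hc => ?_) (reg := hw)
  obtain ⟨l, rfl⟩ := List.mem_ofFn.1 hc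
  haveI : IsLocalHom (Ideal.Quotient.mk (P.map (A.π.stalkMap z).hom)) :=
    .of_surjective _ Ideal.Quotient.mk_surjective
  refine map_nonunit _ _ (IsLocalRing.le_maximalIdeal hz ?_)
  rw [hco, Function.comp_apply, hHX]
  exact Ideal.subset_span ⟨l, rfl⟩

include hX hex hK hM' hqM hqM' hA hA' hφ in
/-- The pulled back cycle is cut down to the cycle pulled back to the subbundle. -/
theorem cutsTo_bundle [IsClosedImmersion (RelSpec.QCAlg.specMap φ)] [Flat A.π] [LocallyOfFiniteType A.π]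
    [Flat A'.π] [LocallyOfFiniteType A'.π] {r' : ℕ}
    (hd : ∀ z, FibDim.rd A.π z ≤ r' + e) (hd' : ∀ z, FibDim.rd A'.π z ≤ r') {k : ℤ} {α : AlgebraicCycle X ℤ}
    (hα : α ∈ Cyc.Zk X δ k)
    {αV : AlgebraicCycle A.spec ℤ} (hαV : ⇑αV = Cyc.pullFun A.π (fun z => δ (A.π z) + FibDim.rd A.π z) δ (((r' + e : ℕ) : ℤ)) ⇑α)
    {β' : AlgebraicCycle A'.spec ℤ} (hβ' : ⇑β' = Cyc.pullFun A'.π (fun z => δ (A'.π z) + FibDim.rd A'.π z) δ (r' : ℤ) ⇑α) :
    CutsTo (fun z => δ (A.π z) + FibDim.rd A.π z) (k + (r' + e : ℕ)) e (tauto (B ≫ j)) ⇑αV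
      ⇑(AlgebraicCycle.map (RelSpec.QCAlg.specMap φ) (fun z => δ (A'.π z) + FibDim.rd A'.π z)
        (fun z => δ (A.π z) + FibDim.rd A.π z) β') := by
  haveI := hX.1
  let δV : A.spec → ℤ := fun z => δ (A.π z) + FibDim.rd A.π z
  let δV' : A'.spec → ℤ := fun z => δ (A'.π z) + FibDim.rd A'.π z
  let i := RelSpec.QCAlg.specMap φ
  have hrd : ∀ z', FibDim.rd A'.π z' = FibDim.rd A.π (i z') := fun z' => by
    rw [← DimFormula.rd_closedSub A.π i z']
    exact congrArg (fun ψ : A'.spec ⟶ X => FibDim.rd ψ z') (RelSpec.QCAlg.specMap_π φ).symm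
  have hδi : ∀ z', δV (i z') = δV' z' := fun z' => by
    show δ (A.π (i z')) + (FibDim.rd A.π (i z') : ℤ) = δ (A'.π z') + (FibDim.rd A'.π z' : ℤ)
    rw [hrd]
    exact congrArg (fun ψ : A'.spec ⟶ X => δ (ψ z') + (FibDim.rd A.π (i z') : ℤ)) (RelSpec.QCAlg.specMap_π φ)
  have hmap : ∀ z', AlgebraicCycle.map i δV' δV β' (i z') = β' z' := fun z' => by
    rw [CycLib.map_apply', show i ⁻¹' {i z'} = {z'} from Set.ext fun w =>
      ⟨fun h => i.isClosedEmbedding.injective h, fun h => congrArg i h⟩, finsum_mem_singleton]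
    simp [AlgebraicCycle.mapCoeff, hδi, CycLib.residueDegree_preimmersion]
  have hout : ∀ z, z ∉ Set.range i → AlgebraicCycle.map i δV' δV β' z = 0 := fun z hz => by
    rw [CycLib.map_apply', show i ⁻¹' {z} = ∅ from Set.eq_empty_of_forall_notMem fun w hw => hz ⟨w, hw⟩,
      finsum_mem_empty]
  refine ⟨fun z hz => hout z fun h => (coIdeal_ne_top_iff hex hK hM' hqM hqM' hA hA' φ hφ z).2 h hz, fun z hz hδ => ?_⟩
  obtain ⟨N, η, hη, hηn, hF⟩ := exists_fam_primes hX.2.2 hα (A.π z)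
  have hFV := hF.pull A.π hd (n := k) hα
  rw [← hαV] at hFV
  refine ⟨N, _, _, hFV, fun t => regSec_map hex hK hM' hqM hqM' hA hA' φ hφ z hz _ (primeOf (hη t)).2.ne_top,
    fun hzk => ?_⟩
  obtain ⟨z', rfl⟩ := (coIdeal_ne_top_iff hex hK hM' hqM hqM' hA hA' φ hφ z).1 hz
  rw [hmap, hβ']
  have hπ : i ≫ A.π = A'.π := RelSpec.QCAlg.specMap_π φ
  haveI : Flat (i ≫ A.π) := by rw [hπ]; infer_instance
  haveI : LocallyOfFiniteType (i ≫ A.π) := by rw [hπ]; infer_instance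
  have hd'' : ∀ w, FibDim.rd (i ≫ A.π) w ≤ r' := by rw [hπ]; exact hd'
  have hF' := (hF.pull (y := z') (i ≫ A.π) hd'' (n := k) hα).1 z' (specializes_refl z') (by
    have h1 : δ (A.π (i z')) + (FibDim.rd A.π (i z') : ℤ) = δ (A'.π z') + (FibDim.rd A'.π z' : ℤ) := hδi z'
    have h3 : δ (A.π (i z')) + (FibDim.rd A.π (i z') : ℤ) = k + ((r' + e : ℕ) : ℤ) - (e : ℤ) := hzk
    show δ ((i ≫ A.π) z') + (FibDim.rd (i ≫ A.π) z' : ℤ) = _
    rw [hπ]
    push_cast at h3 ⊢
    omega)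
  rw [show Cyc.pullFun A'.π (fun w => δ (A'.π w) + FibDim.rd A'.π w) δ (r' : ℤ) ⇑α z' = Cyc.pullFun (i ≫ A.π)
      (fun w => δ ((i ≫ A.π) w) + FibDim.rd (i ≫ A.π) w) δ (r' : ℤ) ⇑α z' by
    rw [hπ], hF']
  refine Finset.sum_congr rfl fun t _ => congrArg (fun m : ℕ∞ => α (η t) * ((m.toNat : ℕ) : ℤ)) ?_
  rw [TopCat.Presheaf.stalkSpecializes_refl, CommRingCat.hom_id, Ideal.map_id, Scheme.Hom.stalkMap_comp,
    CommRingCat.hom_comp]
  rw [← ker_stalk_eq hex hK hM' hqM hqM' hA hA' φ hφ z']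
  refine Eq.trans (congrArg (fun J : Ideal (A'.spec.presheaf.stalk z') =>
    Module.length (A'.spec.presheaf.stalk z') (A'.spec.presheaf.stalk z' ⧸ J)) ?_)
    (GysinPb.length_quot_map (i.stalkMap z').hom (i.stalkMap_surjective z') le_sup_right)
  rw [Ideal.map_sup, (Ideal.map_eq_bot_iff_le_ker _).2 le_rfl, sup_bot_eq, Ideal.map_map]

end Groth.Agent.H23.Chern.Bundle

end
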