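import Groth.Agent.H23.Chern.Pieces

/-! Pieces from a filtration with invertible quotients. -/

set_option autoImplicit false
set_option backward.isDefEq.respectTransparency false
set_option backward.isDefEq.respectTransparency.types false

universe u

open CategoryTheory CategoryTheory.Limits AlgebraicGeometry TopologicalSpace Opposite

noncomputable section

namespace Groth.Agent.H23.Chern

open Groth.Agent Groth.Agent.H23.ProjBd RatSec Algz7.Canon2

variable {X : Scheme.{u}} {r : ℕ} {E : X.Modules} (M : Fin (r + 1) → X.Modules) (h0 : IsZero (M 0))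
  (e : M (Fin.last r) ≅ E) (L : Fin r → X.Modules) (hL : ∀ i, PicF.IsInvertible (L i))
  (a : ∀ i : Fin r, M (Fin.castSucc i) ⟶ M (Fin.succ i)) (b : ∀ i : Fin r, M (Fin.succ i) ⟶ L i)
  (hab : ∀ i, a i ≫ b i = 0) (hex : ∀ i, (ShortComplex.mk (a i) (b i) (hab i)).ShortExact)

theorem stalk_isZero {A : X.Modules} (hA : IsZero A) (y : X) (m : A.presheaf.stalk y) : m = 0 := by
  rw [← stalk_id A y m, hA.eq_of_src (𝟙 A) 0, stalk_zero]

/-- The inclusion of a step of the filtration. -/
def toTop (i : Fin (r + 1)) : M i ⟶ M (Fin.last r) :=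
  Fin.reverseInduction (motive := fun i => M i ⟶ M (Fin.last r)) (𝟙 _) (fun i h => a i ≫ h) i

/-- The inclusion of a step into the module. -/
def toE (i : Fin (r + 1)) : M i ⟶ E := toTop M a i ≫ e.hom

theorem toE_castSucc (i : Fin r) : toE M e a (Fin.castSucc i) = a i ≫ toE M e a (Fin.succ i) := by
  simp [toE, toTop, Fin.reverseInduction_castSucc]

theorem toE_last : toE M e a (Fin.last r) = e.hom := by simp [toE, toTop]

include h0 in
theorem range_toE_le (j : Fin (r + 1)) (y : X) :
    LinearMap.range (Algz.stalkMapₗ (toE M e a j) y) ≤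
      ⨆ l : {l : Fin r // (l : ℕ) < (j : ℕ)}, LinearMap.range (Algz.stalkMapₗ (toE M e a (Fin.succ l.1)) y) := by
  rcases Fin.eq_zero_or_eq_succ j with rfl | ⟨i, rfl⟩
  · rintro _ ⟨m, rfl⟩
    rw [stalk_isZero h0 y m, map_zero]
    exact Submodule.zero_mem _
  · exact le_iSup_of_le (⟨i, by simp⟩ : {l : Fin r // (l : ℕ) < (Fin.succ i : ℕ)}) le_rfl

/-- The pieces of a filtration. -/
def piecesOfChain : Pieces E r where
  M i := M (Fin.succ i)
  L := L
  inv := hL
  f i := toE M e a (Fin.succ i)
  g := b
  surj i y := by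
    haveI := (hex i).epi_g
    exact stalk_surjective (b i) y
  ker i y m hm := by
    obtain ⟨m', rfl⟩ := (stalk_exact _ (hex i).exact y).le hm
    rw [← stalk_comp, ← toE_castSucc]
    exact (range_toE_le M h0 e a (Fin.castSucc i) y).trans
      (iSup_le fun l => le_iSup_of_le (⟨l.1, l.2⟩ : {l : Fin r // l < i}) le_rfl) ⟨m', rfl⟩
  top y := by
    refine eq_top_iff.2 fun z _ => ?_
    haveI : Epi (toE M e a (Fin.last r)) := by rw [toE_last]; infer_instance
    obtain ⟨m, rfl⟩ := stalk_surjective (toE M e a (Fin.last r)) y z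
    exact (range_toE_le M h0 e a (Fin.last r) y).trans
      (iSup_le fun l => le_iSup_of_le l.1 le_rfl) ⟨m, rfl⟩

theorem esym_eq_sum [IsLocallyNoetherian X] {δ : X → ℤ} (hd : Cyc.IsDimFun X δ) {D : Pieces E r}
    (t : (i : Fin r) → (ξ : X) → Cyc.secFibre (D.L i) ξ) (ht : ∀ i ξ, t i ξ ≠ 0) (α : AlgebraicCycle X ℤ)
    (κ : Finset (Fin r) → AlgebraicCycle X ℤ) (hκ0 : κ ∅ = α)
    (hκ : ∀ (I : Finset (Fin r)) (i : Fin r), (∀ i' ∈ I, i' < i) →
      ⇑(κ (insert i I)) = Cyc.c1CapFun δ (D.L i) ⇑(κ I) (t i)) :
    ∀ j, j ≤ r → ∀ i, esym hd t ht α j i =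
      ∑ I ∈ Finset.powersetCard i (Finset.univ.filter fun l : Fin r => (l : ℕ) < j), κ I := by
  intro j
  induction j with
  | zero =>
    intro _ i
    rw [show (Finset.univ.filter fun l : Fin r => (l : ℕ) < 0) = ∅ from Finset.filter_eq_empty_iff.2 fun _ _ => by simp]
    cases i with
    | zero => simp [esym, hκ0]
    | succ i => rw [Finset.powersetCard_eq_empty.2 (by simp), Finset.sum_empty]; simp [esym]
  | succ j ih =>
    intro hj i
    have hs : (Finset.univ.filter fun l : Fin r => (l : ℕ) < j + 1) =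
        insert (⟨j, by omega⟩ : Fin r) (Finset.univ.filter fun l : Fin r => (l : ℕ) < j) := by
      ext l
      simp only [Finset.mem_filter, Finset.mem_univ, true_and, Finset.mem_insert, Fin.ext_iff]
      omega
    cases i with
    | zero => simp [esym_zero, hκ0]
    | succ i =>
      have hnm : (⟨j, by omega⟩ : Fin r) ∉ (Finset.univ.filter fun l : Fin r => (l : ℕ) < j) := by simp
      rw [hs, Finset.powersetCard_succ_insert hnm, Finset.sum_union, Finset.sum_image]
      · simp only [esym, dif_pos (show j < r by omega), ih (by omega)]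
        congr 1
        let F : AlgebraicCycle X ℤ →+ AlgebraicCycle X ℤ :=
          AddMonoidHom.mk' (fun c => c1CapCycle (D.inv ⟨j, by omega⟩) hd c (t ⟨j, by omega⟩) (ht ⟨j, by omega⟩))
            fun c c' => DFunLike.coe_injective (by
              rw [Function.locallyFinsuppWithin.coe_add, coe_c1CapCycle, coe_c1CapCycle, coe_c1CapCycle,
                ← Bivar.c1CapFun_add]
              rfl)
        show F _ = _
        rw [map_sum]
        refine Finset.sum_congr rfl fun I hI => DFunLike.coe_injective ?_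
        show ⇑(c1CapCycle (D.inv ⟨j, by omega⟩) hd (κ I) (t ⟨j, by omega⟩) (ht ⟨j, by omega⟩)) = _
        rw [coe_c1CapCycle, hκ I]
        intro l hl
        have := (Finset.mem_powersetCard.1 hI).1 hl
        simp only [Finset.mem_filter] at this
        exact Fin.lt_def.2 this.2
      · intro I hI I' hI' h
        have h1 := fun h' => hnm ((Finset.mem_powersetCard.1 hI).1 h')
        have h2 := fun h' => hnm ((Finset.mem_powersetCard.1 hI').1 h')
        rw [← Finset.erase_insert h1, ← Finset.erase_insert h2, h]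
      · refine Finset.disjoint_left.2 fun I hI hI' => ?_
        obtain ⟨J, -, rfl⟩ := Finset.mem_image.1 hI'
        exact hnm ((Finset.mem_powersetCard.1 hI).1 (Finset.mem_insert_self _ _))

end Groth.Agent.H23.Chern

end
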