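import Groth.Agent.H23.Chern.Gysin
import Groth.Agent.H23.C1Class
import Groth.Agent.H23.ClEq
import Groth.Prelude.Def_Bivar2

/-! Chern classes as operational classes. -/

set_option autoImplicit false
set_option backward.isDefEq.respectTransparency false
set_option backward.isDefEq.respectTransparency.types false

universe u

open CategoryTheory CategoryTheory.Limits AlgebraicGeometry TopologicalSpace Opposite

noncomputable section

namespace Groth.Agent.H23.Chern

open Groth.Agent Groth.Agent.H23.ProjBd RatSec ChowDesc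

variable {X : Scheme.{u}} {δ : X → ℤ} {E : X.Modules} {n : ℕ}

/-- Some projective bundle of `E`, with its dimension function. -/
structure Bdl (δ : X → ℤ) (E : X.Modules) where
  P : Scheme.{u}
  p : P ⟶ X
  O1 : P.Modules
  q : (Scheme.Modules.pullback p).obj E ⟶ O1
  isBundle : KRR.IsProjBundle p E O1 q
  δP : P → ℤ
  compat : Cyc.DeltaCompat p δP δ

theorem nonempty_bdl (δ : X → ℤ) (hE : FlatMod.IsFinLocFreeOfRank (n + 1) E) : Nonempty (Bdl δ E) := by
  obtain ⟨P, p, O1, q, hP⟩ := H28.PBMake.exists_of_rank hE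
  haveI := isProper_of_projBundle hP hE
  exact ⟨⟨P, p, O1, q, hP, _, deltaCompat_rd p δ⟩⟩

variable (hX : Cyc.IsSetup X δ) (hE : FlatMod.IsFinLocFreeOfRank (n + 1) E)

theorem Bdl.isSetup (B : Bdl δ E) (hX : Cyc.IsSetup X δ) (hE : FlatMod.IsFinLocFreeOfRank (n + 1) E) :
    Cyc.IsSetup B.P B.δP :=
  haveI := isProper_of_projBundle B.isBundle hE
  SetupLFT.isSetup B.p hX B.compat

theorem map_id_eq (α : AlgebraicCycle X ℤ) : AlgebraicCycle.map (𝟙 X) δ δ α = α := by
  ext y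
  exact CycLib.map_preimmersion_apply (𝟙 X) δ α y

include hX hE in
/-- Chern class caps do not depend on the bundle, nor on the module up to isomorphism. -/
theorem isChernCap_congr {F : X.Modules} (hF : FlatMod.IsFinLocFreeOfRank (n + 1) F) (B : Bdl δ E) (B' : Bdl δ F)
    (e : E ≅ F) {k : ℤ} {α : AlgebraicCycle X ℤ} {γ : Fin (n + 2) → AlgebraicCycle X ℤ}
    (h : Cyc.IsChernCap B.p δ B.δP B.O1 (n + 1) k α γ) : Cyc.IsChernCap B'.p δ B'.δP B'.O1 (n + 1) k α γ := by
  have := isChernCap_map (f := 𝟙 X) B'.isBundle hF B.isBundle hE hX hX (B.isSetup hX hE) (B'.isSetup hX hF)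
    B.compat B'.compat ((Scheme.Modules.pullbackId X).app F ≪≫ e.symm) (Bivar.deltaCompat_id δ) h
  simpa only [map_id_eq] using this

variable (δ) in
/-- A tuple of cycles representing the Chern class caps. -/
def IsCh (E : X.Modules) (n : ℕ) (k : ℤ) (α : AlgebraicCycle X ℤ) (γ : Fin (n + 2) → AlgebraicCycle X ℤ) : Prop :=
  ∀ B : Bdl δ E, Cyc.IsChernCap B.p δ B.δP B.O1 (n + 1) k α γ

include hX hE in
theorem isCh_of {k : ℤ} {α : AlgebraicCycle X ℤ} {γ : Fin (n + 2) → AlgebraicCycle X ℤ} (B : Bdl δ E)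
    (h : Cyc.IsChernCap B.p δ B.δP B.O1 (n + 1) k α γ) : IsCh δ E n k α γ := fun B' =>
  isChernCap_congr hX hE hE B B' (Iso.refl _) h

include hX hE in
theorem exists_isCh {k : ℤ} {α : AlgebraicCycle X ℤ} (hα : α ∈ Cyc.Zk X δ k) :
    ∃ γ, IsCh δ E n k α γ := by
  obtain ⟨B⟩ := nonempty_bdl δ hE
  haveI := isProper_of_projBundle B.isBundle hE
  haveI := hX.1
  haveI := (B.isSetup hX hE).1
  obtain ⟨γ, hγ⟩ := exists_chernCap (hasCoords_of_projBundle B.isBundle hE) (B.isSetup hX hE).2.2 B.compat hX.2.2 hα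
  exact ⟨γ, isCh_of hX hE B hγ⟩

include hX hE in
theorem IsCh.ratEquiv {k : ℤ} {α α' : AlgebraicCycle X ℤ} {γ γ' : Fin (n + 2) → AlgebraicCycle X ℤ}
    (h : IsCh δ E n k α γ) (h' : IsCh δ E n k α' γ') (hαα : Cyc.RatEquiv δ k α α') (j : Fin (n + 2)) :
    Cyc.RatEquiv δ (k - ((j : ℕ) : ℤ)) (γ j) (γ' j) := by
  obtain ⟨B⟩ := nonempty_bdl δ hE
  haveI := isProper_of_projBundle B.isBundle hE
  haveI := hX.1
  haveI := (B.isSetup hX hE).1
  have hc := hasCoords_of_projBundle B.isBundle hE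
  have hd := (B.isSetup hX hE).2.2
  refine unique hc hd B.compat hX (B.isSetup hX hE) (h B).2.1 (h' B).2.1 (relSum_mem hc hd B.compat k α γ (h B))
    (relSum_mem hc hd B.compat k α' γ' (h' B)) ?_ j
  rw [(h B).1, (h' B).1]
  exact hαα

include hX hE in
theorem IsCh.add {k : ℤ} {α α' : AlgebraicCycle X ℤ} {γ γ' : Fin (n + 2) → AlgebraicCycle X ℤ}
    (h : IsCh δ E n k α γ) (h' : IsCh δ E n k α' γ') : IsCh δ E n k (α + α') (γ + γ') := fun B => by
  haveI := isProper_of_projBundle B.isBundle hE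
  haveI := hX.1
  haveI := (B.isSetup hX hE).1
  have hc := hasCoords_of_projBundle B.isBundle hE
  have hd := (B.isSetup hX hE).2.2
  refine isChernCap_of_relSum hc hd B.compat (by rw [Pi.add_apply, (h B).1, (h' B).1])
    (fun j => (ChowOps.zk X δ _).add_mem ((h B).2.1 j) ((h' B).2.1 j)) ?_
  have := (ratZero hd (k - 1)).add_mem (relSum_mem hc hd B.compat k α γ (h B))
    (relSum_mem hc hd B.compat k α' γ' (h' B))
  rw [relSum, relSum, ← Finset.sum_add_distrib] at this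
  simpa only [relSum, Pi.add_apply, map_add, smul_add] using this

variable (j : Fin (n + 2)) (k : ℤ)

/-- The Chern cap on cycles. -/
def chHom : ↥(ChowOps.zk X δ k) →+ ChowOps.CH X δ (k - ((j : ℕ) : ℤ)) :=
  AddMonoidHom.mk' (fun a => ChowOps.cl ((exists_isCh hX hE a.2).choose j)
    (((exists_isCh hX hE a.2).choose_spec (nonempty_bdl δ hE).some).2.1 j)) fun a b => by
    haveI := hX.1
    have ha := (exists_isCh hX hE a.2).choose_spec
    have hb := (exists_isCh hX hE b.2).choose_spec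
    have hab := (exists_isCh hX hE (a + b).2).choose_spec
    rw [← Bivar.cl_add _ _ ((ha (nonempty_bdl δ hE).some).2.1 j) ((hb (nonempty_bdl δ hE).some).2.1 j)]
    exact cl_eq_of_ratEquiv _ _ (hab.ratEquiv hX hE (ha.add hX hE hb)
      (RatOn.ratEquiv (T := Set.univ) (RatOn.congr (RatOn.zero _) fun x => sub_self _)) j)

/-- The Chern cap on Chow groups. -/
def chCH : ChowOps.CH X δ k →+ ChowOps.CH X δ (k - ((j : ℕ) : ℤ)) :=
  lift (chHom hX hE j k) fun a ha => by
    haveI := hX.1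
    have h0 := (exists_isCh hX hE (ChowOps.zk X δ k).zero_mem).choose_spec
    rw [← map_zero (chHom hX hE j k)]
    exact cl_eq_of_ratEquiv _ _ ((exists_isCh hX hE a.2).choose_spec.ratEquiv hX hE
      (exists_isCh hX hE (0 : ↥(ChowOps.zk X δ k)).2).choose_spec (show Cyc.RatEquivZero δ k (_ - 0) by
        rw [sub_zero]; exact ha) j)

theorem chCH_cl {α : AlgebraicCycle X ℤ} (hα : α ∈ Cyc.Zk X δ k) {γ : Fin (n + 2) → AlgebraicCycle X ℤ}
    (hγ : IsCh δ E n k α γ) (hγj : γ j ∈ Cyc.Zk X δ (k - ((j : ℕ) : ℤ))) :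
    chCH hX hE j k (ChowOps.cl α hα) = ChowOps.cl (γ j) hγj := by
  haveI := hX.1
  exact cl_eq_of_ratEquiv _ _ ((exists_isCh hX hE hα).choose_spec.ratEquiv hX hE hγ
    (RatOn.ratEquiv (T := Set.univ) (RatOn.congr (RatOn.zero _) fun x => sub_self _)) j)

omit hX hE

variable {δX : X → ℤ}

/-- The operational Chern classes of a module of rank `n + 1`. -/
def opCh (hX : Cyc.IsSetup X δX) (hE : FlatMod.IsFinLocFreeOfRank (n + 1) E) (j : Fin (n + 2)) :
    Bivar.OpCl ((j : ℕ) : ℤ) X δX where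
  op s k := chCH (isSetup_osq hX s) (GrassFlag.rank_pullback s.g hE) j k
  push s t h _ w k := by
    intro α hα
    have hs := isSetup_osq hX s
    have ht := isSetup_osq hX t
    have hEs := GrassFlag.rank_pullback s.g hE
    have hEt := GrassFlag.rank_pullback t.g hE
    obtain ⟨γ, hγ⟩ := exists_isCh ht hEt hα
    obtain ⟨Bt⟩ := nonempty_bdl t.δ hEt
    refine ⟨γ j, (hγ Bt).2.1 j, chCH_cl ht hEt j k hα hγ _, ?_⟩
    refine chCH_cl hs hEs j k _ (γ := fun i => AlgebraicCycle.map h t.δ s.δ (γ i)) (fun Bs => ?_) _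
    exact isChernCap_map Bs.isBundle hEs Bt.isBundle hEt ht hs (Bt.isSetup ht hEt) (Bs.isSetup hs hEs)
      Bt.compat Bs.compat (pbIso h w E).symm (deltaCompat_hom h w) (hγ Bt)
  pull s t h _ r hr w k := by
    intro α hα
    have hs := isSetup_osq hX s
    have ht := isSetup_osq hX t
    haveI := hs.1
    haveI := ht.1
    haveI := s.lft
    haveI := t.lft
    haveI : LocallyOfFiniteType (h ≫ s.g) := w ▸ t.lft
    haveI : LocallyOfFiniteType h := locallyOfFiniteType_of_comp h s.g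
    have hδ := deltaCompat_hom h w
    have hc := FlatShift.hasShift_of_hasRelDim h hr hδ
    have hEs := GrassFlag.rank_pullback s.g hE
    have hEt := GrassFlag.rank_pullback t.g hE
    obtain ⟨γ, hγ⟩ := exists_isCh hs hEs hα
    obtain ⟨Bs⟩ := nonempty_bdl s.δ hEs
    refine ⟨γ j, (hγ Bs).2.1 j, chCH_cl hs hEs j k hα hγ _, fun α₁ hα₁e hα₁ => ?_⟩
    let β : Fin (n + 2) → AlgebraicCycle t.Y ℤ := fun i =>
      { toFun := Cyc.pullFun h t.δ s.δ r ⇑(γ i)
        supportWithinDomain' := fun _ _ => trivial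
        supportLocallyFiniteWithinDomain' := fun z _ => C1Pull.locFin_pullFun hc ht.2.2 (GysinLib.locFin (γ i)) z }
    have h0 : β 0 = α₁ := Function.locallyFinsuppWithin.ext fun z => by
      rw [hα₁e]
      show Cyc.pullFun h t.δ s.δ r ⇑(γ 0) z = _
      rw [(hγ Bs).1]
    have hβ : IsCh t.δ ((Scheme.Modules.pullback t.g).obj E) n (k + r) α₁ β := fun Bt => by
      rw [← h0]
      exact isChernCap_pull Bs.isBundle hEs Bt.isBundle hEt ht hs (Bt.isSetup ht hEt) (Bs.isSetup hs hEs)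
        Bt.compat Bs.compat (pbIso h w E).symm hδ hr (hγ Bs) fun i => rfl
    obtain ⟨Bt⟩ := nonempty_bdl t.δ hEt
    exact ⟨β j, (hβ Bt).2.1 j, rfl, chCH_cl ht hEt j _ hα₁ hβ _⟩
  gysin s t i _ w L hL σ hσ k := by
    intro α hα
    have hs := isSetup_osq hX s
    have ht := isSetup_osq hX t
    haveI := hs.1
    haveI := ht.1
    have hδ := delta_closedImmersion i w
    have hEs := GrassFlag.rank_pullback s.g hE
    have hEt := GrassFlag.rank_pullback t.g hE
    obtain ⟨γ, hγ⟩ := exists_isCh hs hEs hα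
    obtain ⟨Bs⟩ := nonempty_bdl s.δ hEs
    refine ⟨γ j, (hγ Bs).2.1 j, chCH_cl hs hEs j k hα hγ _, fun w₀ hw₀ γ₁ hγ₁e hγ₁ => ?_⟩
    let ζ : Fin (n + 2) → AlgebraicCycle t.Y ℤ := fun m => GysinLib.gysinCycle hL hs.2.2 i σ (γ m) hw₀
    haveI := isProper_of_projBundle Bs.isBundle hEs
    have hsq := IsPullback.of_hasPullback Bs.p i
    have hG := isChernCap_gysin hsq (hasCoords_of_projBundle Bs.isBundle hEs) hs (Bs.isSetup hs hEs) Bs.compat hL hσ
      hw₀ (hγ Bs) (ζ := ζ) fun m d => rfl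
    let B₀ : Bdl t.δ ((Scheme.Modules.pullback i).obj ((Scheme.Modules.pullback s.g).obj E)) :=
      ⟨_, _, _, _, isProjBundle_baseChange hsq Bs.isBundle, fun y => Bs.δP (pullback.fst Bs.p i y),
        hδ ▸ deltaCompat_pD hsq Bs.compat⟩
    have h0 : ζ 0 = γ₁ := Function.locallyFinsuppWithin.ext fun d => by
      rw [hγ₁e]
      show Cyc.c1CapFun s.δ L ⇑(γ 0) (Cyc.gysinChoice L σ w₀) (i d) = _
      rw [(hγ Bs).1]
    rw [h0, ← hδ] at hG
    have hζ : IsCh t.δ ((Scheme.Modules.pullback t.g).obj E) n (k - 1) γ₁ ζ := fun Bt =>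
      isChernCap_congr ht (GrassFlag.rank_pullback i hEs) hEt B₀ Bt (pbIso i w E).symm hG
    obtain ⟨Bt⟩ := nonempty_bdl t.δ hEt
    exact ⟨ζ j, (hζ Bt).2.1 j, fun d => rfl, chCH_cl ht hEt j _ hγ₁ hζ _⟩

/-- The family of operational Chern classes of a module of rank `n + 1`. -/
def chFam (hX : Cyc.IsSetup X δX) (hE : FlatMod.IsFinLocFreeOfRank (n + 1) E) :
    (j : ℕ) → Bivar.OpCl (j : ℤ) X δX
  | 0 => Bivar.OpCl.one X δX
  | j + 1 => if h : j + 1 < n + 2 then opCh hX hE ⟨j + 1, h⟩ else 0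

theorem isChernClasses (hX : Cyc.IsSetup X δX) (hE : FlatMod.IsFinLocFreeOfRank (n + 1) E) :
    Bivar.IsChernClasses E (n + 1) (chFam hX hE) := by
  refine ⟨hE, rfl, fun j hj => ?_, fun s P π O1 q hP δP hδP k α hα ζ hζ0 hζ hc => ?_⟩
  · obtain ⟨j, rfl⟩ : ∃ m, j = m + 1 := ⟨j - 1, by omega⟩
    exact dif_neg (by omega)
  have hs := isSetup_osq hX s
  haveI := hs.1
  have hEs := GrassFlag.rank_pullback s.g hE
  haveI := isProper_of_projBundle hP hEs
  let B : Bdl s.δ ((Scheme.Modules.pullback s.g).obj E) := ⟨P, π, O1, q, hP, δP, hδP⟩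
  have hPs := B.isSetup hs hEs
  haveI : IsLocallyNoetherian P := hPs.1
  obtain ⟨γ, hγ⟩ := exists_isCh hs hEs hα
  have hc' := hasCoords_of_projBundle hP hEs
  have hd : Cyc.IsDimFun P δP := hPs.2.2
  have heq : ∀ j : Fin (n + 2), Cyc.RatEquiv s.δ (k - ((j : ℕ) : ℤ)) (ζ j) (γ j) := by
    rintro ⟨_ | m, hm⟩
    · show Cyc.RatEquiv s.δ _ (ζ 0) (γ 0)
      rw [hζ0, (hγ B).1]
      exact RatOn.ratEquiv (T := Set.univ) (RatOn.congr (RatOn.zero _) fun x => sub_self _)
    · have h1 := (hc ⟨m + 1, hm⟩).symm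
      rw [show chFam hX hE (m + 1) = opCh hX hE ⟨m + 1, hm⟩ from dif_pos hm] at h1
      exact ClEq.ratEquiv_of_cl_eq hs.2.2 (h1.trans (chCH_cl hs hEs ⟨m + 1, hm⟩ k hα hγ ((hγ B).2.1 _)))
  refine isChernCap_of_relSum hc' hd hδP hζ0 hζ ?_
  have h1 := relSum_mem hc' hd hδP k α γ (hγ B)
  have h2 : relSum hc' hd hδP ζ - relSum hc' hd hδP γ ∈ ratZero hd (k - 1) := by
    rw [relSum, relSum, ← Finset.sum_sub_distrib]
    refine (ratZero hd _).sum_mem fun i _ => ?_
    rw [← smul_sub, ← map_sub]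
    refine (ratZero hd _).zsmul_mem ?_ _
    have := hc'.cl_ratEquivZero hd hδP hs.2.2 ((ChowOps.zk s.Y s.δ _).sub_mem (hζ (Fin.rev i)) ((hγ B).2.1 (Fin.rev i)))
      (heq (Fin.rev i)) i
    rw [show k - ((Fin.rev i : Fin (n + 2)) : ℕ) + (n : ℤ) - (i : ℕ) = k - 1 by
      rw [Fin.val_rev]; have := i.2; omega] at this
    exact this
  have := (ratZero hd (k - 1)).add_mem h2 h1
  rwa [sub_add_cancel] at this

theorem exists_isChernClasses (hX : Cyc.IsSetup X δX) {r : ℕ} (hE : FlatMod.IsFinLocFreeOfRank r E) :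
    ∃ c : (j : ℕ) → Bivar.OpCl (j : ℤ) X δX, Bivar.IsChernClasses E r c := by
  cases r with
  | zero =>
    refine ⟨fun | 0 => Bivar.OpCl.one X δX | _ + 1 => 0, hE, rfl, fun j hj => ?_,
      fun s P π O1 q hP δP hδP k α hα ζ hζ0 hζ _ => ?_⟩
    · obtain ⟨j, rfl⟩ : ∃ m, j = m + 1 := ⟨j - 1, by omega⟩
      rfl
    · have hs := isSetup_osq hX s
      haveI := isEmpty_of_projBundle_zero hP (GrassFlag.rank_pullback s.g hE)
      haveI := hs.1
      haveI : IsLocallyNoetherian P := LocallyOfFiniteType.isLocallyNoetherian π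
      exact isChernCap_zero hP (GrassFlag.rank_pullback s.g hE)
        (fun x => isEmptyElim x) hα ζ hζ0
  | succ n => exact ⟨_, isChernClasses hX hE⟩

theorem ext_op {p : ℤ} {c c' : Bivar.OpCl p X δX} (h : c.op = c'.op) : c = c' := Bivar.OpCl.ext h

theorem unique_classes (hX : Cyc.IsSetup X δX) {r : ℕ} {c c' : (j : ℕ) → Bivar.OpCl (j : ℤ) X δX}
    (hc : Bivar.IsChernClasses E r c) (hc' : Bivar.IsChernClasses E r c') : c = c' := by
  funext j
  obtain hj | hj := Nat.lt_or_ge r j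
  · rw [hc.2.2.1 j hj, hc'.2.2.1 j hj]
  cases r with
  | zero => obtain rfl : j = 0 := by omega
            rw [hc.2.1, hc'.2.1]
  | succ n =>
    refine Bivar.OpCl.ext (funext fun s => funext fun k => AddMonoidHom.ext fun x => ?_)
    obtain ⟨α, hα, rfl⟩ := Bivar.exists_rep x
    have hs := isSetup_osq hX s
    haveI := hs.1
    have hEs := GrassFlag.rank_pullback s.g hc.1
    obtain ⟨B⟩ := nonempty_bdl s.δ hEs
    have key : ∀ {d : (j : ℕ) → Bivar.OpCl (j : ℤ) X δX}, Bivar.IsChernClasses E (n + 1) d →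
        ∃ ζ : Fin (n + 2) → AlgebraicCycle s.Y ℤ, IsCh s.δ ((Scheme.Modules.pullback s.g).obj E) n k α ζ ∧
          ∃ hζ : ∀ i : Fin (n + 2), ζ i ∈ Cyc.Zk s.Y s.δ (k - ((i : ℕ) : ℤ)),
            ∀ i : Fin (n + 2), (d i).op s k (ChowOps.cl α hα) = ChowOps.cl (ζ i) (hζ i) := by
      intro d hd
      choose ζ' hζ' he using fun i : Fin (n + 2) => Bivar.exists_rep ((d i).op s k (ChowOps.cl α hα))
      let ζ := Function.update ζ' 0 α
      have hζ : ∀ i : Fin (n + 2), ζ i ∈ Cyc.Zk s.Y s.δ (k - ((i : ℕ) : ℤ)) := fun i => by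
        by_cases hi : i = 0
        · subst hi
          simpa [ζ] using hα
        · simpa [ζ, hi] using hζ' i
      have he' : ∀ i : Fin (n + 2), (d i).op s k (ChowOps.cl α hα) = ChowOps.cl (ζ i) (hζ i) := fun i => by
        by_cases hi : i = 0
        · subst hi
          show (d 0).op s k _ = _
          rw [hd.2.1]
          refine (Bivar.chCast_cl _ _ _ α hα).trans (Bivar.cl_congr (by simp [ζ]) _ _)
        · exact (he i).symm.trans (Bivar.cl_congr (by simp [ζ, hi]) _ _)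
      exact ⟨ζ, fun B' => hd.2.2.2 s B'.P B'.p B'.O1 B'.q B'.isBundle B'.δP B'.compat k α hα ζ (by simp [ζ]) hζ he',
        hζ, he'⟩
    obtain ⟨ζ, hch, hζ, he⟩ := key hc
    obtain ⟨ζ', hch', hζ', he'⟩ := key hc'
    rw [he ⟨j, by omega⟩, he' ⟨j, by omega⟩]
    exact cl_eq_of_ratEquiv _ _ (hch.ratEquiv hs hEs hch'
      (RatOn.ratEquiv (T := Set.univ) (RatOn.congr (RatOn.zero _) fun x => sub_self _)) _)

end Groth.Agent.H23.Chern

end
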