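import Groth.Agent.H23.Chern.RegFam

/-! The top Chern class caps a cycle to the zeros of a cosection regular on it, up to sign. -/

set_option autoImplicit false
set_option backward.isDefEq.respectTransparency false
set_option backward.isDefEq.respectTransparency.types false

universe u

open CategoryTheory CategoryTheory.Limits AlgebraicGeometry TopologicalSpace Opposite IsLocalRing
open scoped Pointwise

noncomputable section

namespace Groth.Agent.H23.Chern

open Groth.Agent Groth.Agent.H23.ProjBd RatSec ChowDesc C1Pull CDiv6 StalkPrimes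

variable {X : Scheme.{u}} {δ : X → ℤ} (hX : Cyc.IsSetup X δ) {E : X.Modules} {r : ℕ} (D : Pieces E r)
  (u : E ⟶ Coh.structureModule X)

/-- The successive caps of a cycle, with signs. -/
def coCapsFrom (α : AlgebraicCycle X ℤ) : ℕ → AlgebraicCycle X ℤ
  | 0 => α
  | j + 1 =>
    if h : j < r then
      -@c1CapCycle X _ hX.1 δ (D.inv (Fin.rev (idx h))) hX.2.2 (coCapsFrom α j) (coSecs D u (idx h))
        (coSecs_ne_zero D u (idx h))
    else 0

variable (hE : FlatMod.IsFinLocFreeOfRank r E) {n : ℤ} {α : AlgebraicCycle X ℤ} (hα : α ∈ Cyc.Zk X δ n)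

include hX hα in
theorem coCapsFrom_mem : ∀ j : ℕ, coCapsFrom hX D u α j ∈ Cyc.Zk X δ (n - j)
  | 0 => by simpa [coCapsFrom] using hα
  | j + 1 => by
    haveI := hX.1
    rw [coCapsFrom]
    split_ifs with h
    · rw [show n - ((j + 1 : ℕ) : ℤ) = n - j - 1 by push_cast; ring]
      exact (ChowOps.zk X δ _).neg_mem (C1Class.capCycle_mem (D.inv _) hX.2.2 (coCapsFrom_mem j) _ _)
    · exact (ChowOps.zk X δ _).zero_mem

include hX hE in
theorem coCapsFrom_support : ∀ j : ℕ, j ≤ r → ∀ x, coCapsFrom hX D u α j x ≠ 0 → x ∈ coZero u D (r - j)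
  | 0, _, x, _ => by rw [Nat.sub_zero, coZero_top]; trivial
  | j + 1, hj, x, hx => by
    haveI := hX.1
    let i := idx (show j < r by omega)
    have hi : (i : ℕ) + 1 = r - j := by show r - (j + 1) + 1 = r - j; omega
    rw [coCapsFrom, dif_pos (show j < r by omega), Function.locallyFinsuppWithin.coe_neg, Pi.neg_apply,
      coe_c1CapCycle, neg_ne_zero] at hx
    by_contra hxz
    refine hx (finsum_eq_zero_of_forall_eq_zero fun ξ => ?_)
    by_cases hA : coCapsFrom hX D u α j ξ = 0
    · rw [hA, zero_mul]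
    by_cases hh : ξ ⤳ x ∧ δ x + 1 = δ ξ
    swap
    · rw [show Cyc.secDivFun δ (D.L (Fin.rev i)) ξ _ x = 0 from dif_neg hh, mul_zero]
    have hξ := coCapsFrom_support j (by omega) ξ hA
    rw [← hi] at hξ
    have hxs := coZero.mem_of_specializes u hξ hh.1
    let G := (nonempty_frame D x).some
    have hu : IsUnit (G.coC u i) := by
      by_contra hu
      refine hxz ((G.mem_coZero_iff u _).2 fun l hl => ?_)
      rcases Nat.eq_or_lt_of_le (show (i : ℕ) ≤ l from hl) with hl' | hl'
      · rwa [← Fin.ext hl', IsLocalRing.mem_maximalIdeal, mem_nonunits_iff]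
      · exact (G.mem_coZero_iff u _).1 hxs l hl'
    have hres : X.residue ξ ((X.presheaf.stalkSpecializes hh.1).hom (G.coC u i)) ≠ 0 :=
      (IsLocalRing.residue_ne_zero_iff_isUnit _).2 (hu.map _)
    rw [secDivFun_coSecs hX D u G hh.1 hξ hres, CycLib.divFun_eq δ _ hh.1 hh.2]
    exact mul_eq_zero_of_right _ (neg_eq_zero.2 (CycLib.ordAt_eq_zero_of_isUnit hX.2.2 hh.1 hh.2 hu))

variable {x₀ : X} (F : Frame D x₀) {N : ℕ} {a : Fin N → ℤ} {Q : Fin N → Ideal (X.presheaf.stalk x₀)}

include hX hE hα in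
theorem coCapsFrom_local (hF : IsFam δ n ⇑α a Q) (hR : ∀ t, RegMod u F (Q t)) :
    ∀ j : ℕ, j ≤ r → ∀ (y : X) (h : y ⤳ x₀), δ y = n - j →
      coCapsFrom hX D u α j y = ∑ t, a t * ((Module.length (X.presheaf.stalk y)
        (X.presheaf.stalk y ⧸ coJ u F (Q t) h (r - j))).toNat : ℤ)
  | 0, _, y, h, hy => by
    rw [coCapsFrom, hF.1 y h (by simpa using hy)]
    refine Finset.sum_congr rfl fun t _ => ?_
    rw [Nat.sub_zero, coJ_top]
  | j + 1, hj, y, h, hy => by
    classical
    haveI := hX.1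
    let i := idx (show j < r by omega)
    have hi : (i : ℕ) + 1 = r - j := by show r - (j + 1) + 1 = r - j; omega
    let G := F.spec h
    let A := X.presheaf.stalk y
    let f := G.coC u i
    let L := D.L (Fin.rev i)
    let t₀ := Algz.stalkMapₗ (D.g (Fin.rev i)) y (G.m (Fin.rev i))
    let v : (ξ : X) → Cyc.secFibre L ξ := fun ξ =>
      if hh : ξ ⤳ y then
        if X.residue ξ ((X.presheaf.stalkSpecializes hh).hom f) ≠ 0 then
          (X.presheaf.stalkSpecializes hh).hom f • cls L ξ (L.presheaf.stalkSpecializes hh t₀)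
        else coSecs D u i ξ
      else coSecs D u i ξ
    have hk : n - ((j + 1 : ℕ) : ℤ) = n - j - 1 := by push_cast; ring
    have hdle : ∀ (t : Fin N) (k : ℕ), k ≤ r → ∀ (ξ : X) (hh : ξ ⤳ x₀),
        coJ u F (Q t) hh (r - k) ≠ ⊤ → δ ξ ≤ n - k := fun t => (hR t).delta_le hX.2.2 (hF.2 t)
    have e : coCapsFrom hX D u α (j + 1) y = Cyc.c1CapFun δ L ⇑(coCapsFrom hX D u α j) v y := by
      rw [coCapsFrom, dif_pos (show j < r by omega), Function.locallyFinsuppWithin.coe_neg, Pi.neg_apply,
        coe_c1CapCycle, Cyc.c1CapFun, Cyc.c1CapFun, ← finsum_neg_distrib]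
      refine finsum_congr fun ξ => ?_
      by_cases hA : coCapsFrom hX D u α j ξ = 0
      · rw [hA, zero_mul, zero_mul, neg_zero]
      by_cases hh : ξ ⤳ y ∧ δ y + 1 = δ ξ
      swap
      · rw [show Cyc.secDivFun δ (D.L (Fin.rev i)) ξ _ y = 0 from dif_neg hh,
          show Cyc.secDivFun δ L ξ _ y = 0 from dif_neg hh, mul_zero, neg_zero]
      have hξ := coCapsFrom_support hX D u hE j (by omega) ξ hA
      rw [← hi] at hξ
      have hres : X.residue ξ ((X.presheaf.stalkSpecializes hh.1).hom f) ≠ 0 := by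
        intro h0
        have hξδ : δ ξ = n - j := by have := hh.2; omega
        obtain ⟨t, ht⟩ : ∃ t, coJ u F (Q t) (hh.1.trans h) (r - j) ≠ ⊤ := by
          by_contra hne
          push_neg at hne
          refine hA ((coCapsFrom_local hF hR j (by omega) ξ (hh.1.trans h) hξδ).trans
            (Finset.sum_eq_zero fun t _ => ?_))
          rw [hne t, Module.length_eq_zero]
          simp
        have hd' := hdle t (j + 1) hj ξ (hh.1.trans h) ?_
        · omega
        refine ne_top_of_le_ne_top (IsLocalRing.maximalIdeal.isMaximal (X.presheaf.stalk ξ)).ne_top ?_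
        rw [show r - (j + 1) = (i : ℕ) from rfl, coJ_succ, hi]
        refine sup_le (IsLocalRing.le_maximalIdeal ht) ((Ideal.span_singleton_le_iff_mem _).2 ?_)
        rw [show (F.spec (hh.1.trans h)).coC u i = (X.presheaf.stalkSpecializes hh.1).hom f by
          show _ = (X.presheaf.stalkSpecializes hh.1).hom ((F.spec h).coC u i)
          rw [Frame.coC_spec, Frame.coC_spec, ← CommRingCat.comp_apply, TopCat.Presheaf.stalkSpecializes_comp]]
        exact Ideal.Quotient.eq_zero_iff_mem.1 h0
      simp only [v, dif_pos hh.1, if_pos hres]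
      rw [secDivFun_coSecs hX D u G hh.1 hξ hres, secDivFun_eq (D.inv _) hX.2.2 hh.1
        (G.gen_self _).1 rfl hres, mul_neg, neg_neg]
    let αt : Fin N → X → ℤ := fun t ξ =>
      if hh : ξ ⤳ y ∧ δ ξ = n - j then ((Module.length (X.presheaf.stalk ξ)
        (X.presheaf.stalk ξ ⧸ coJ u F (Q t) (hh.1.trans h) (r - j))).toNat : ℤ) else 0
    have hfin : ∀ t, (Function.support fun ξ => αt t ξ * Cyc.secDivFun δ L ξ (v ξ) y).Finite := by
      intro t
      haveI := (Ideal.finite_minimalPrimes_of_isNoetherianRing A (coJ u F (Q t) h (r - j))).to_subtype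
      refine Set.Finite.subset (s := Set.range fun p : (coJ u F (Q t) h (r - j)).minimalPrimes =>
        letI := p.2.1.1; (exists_point p.1).choose) (Set.finite_range _) fun ξ hξ => ?_
      have h1 := left_ne_zero_of_mul hξ
      have hh : ξ ⤳ y ∧ δ ξ = n - j := by_contra fun hn => h1 (dif_neg hn)
      simp only [αt, dif_pos hh] at h1
      have hne : coJ u F (Q t) (hh.1.trans h) (r - j) ≠ ⊤ := fun e => h1 (by
        rw [e, Module.length_eq_zero]; rfl)
      rw [← coJ_map u F (Q t) h hh.1] at hne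
      have hle : coJ u F (Q t) h (r - j) ≤ (primeOf hh.1).asIdeal := fun b hb => by
        rw [mem_primeOf]
        exact IsLocalRing.le_maximalIdeal hne (Ideal.mem_map_of_mem _ hb)
      have hmin : (primeOf hh.1).asIdeal ∈ (coJ u F (Q t) h (r - j)).minimalPrimes := by
        refine ⟨⟨(primeOf hh.1).2, hle⟩, fun p hp hpl => ?_⟩
        haveI := hp.1
        obtain ⟨w, hw, e⟩ := exists_point p
        have hwξ := (primeOf_le_iff hh.1 hw).1 (e ▸ hpl)
        have h2 := hdle t j (by omega) w (hw.trans h) (by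
          rw [← coJ_map u F (Q t) h hw]
          refine ne_top_of_le_ne_top (IsLocalRing.maximalIdeal.isMaximal (X.presheaf.stalk w)).ne_top
            (Ideal.map_le_iff_le_comap.2 fun b hb => ?_)
          have hm : b ∈ (primeOf hw).asIdeal := e ▸ hp.2 hb
          rwa [mem_primeOf] at hm)
        obtain rfl : w = ξ := CycLib.eq_of_delta_le hX.2.2 hwξ (by omega)
        rw [← e]
      refine ⟨⟨_, hmin⟩, ?_⟩
      letI := hmin.1.1
      exact primeOf_inj (exists_point (primeOf hh.1).asIdeal).choose_spec.choose hh.1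
        (exists_point (primeOf hh.1).asIdeal).choose_spec.choose_spec
    have key : ∀ t, Cyc.c1CapFun δ L (αt t) v y = ((Module.length A
        (A ⧸ coJ u F (Q t) h (r - (j + 1)))).toNat : ℤ) := by
      intro t
      let I := coJ u F (Q t) h (r - j)
      have hinj : Function.Injective fun m : A ⧸ I => f • m := by
        intro a b hab
        obtain ⟨a, rfl⟩ := Ideal.Quotient.mk_surjective a
        obtain ⟨b, rfl⟩ := Ideal.Quotient.mk_surjective b
        refine Ideal.Quotient.eq.2 ?_
        have := (hR t).spec h i (b := a - b)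
        rw [hi] at this
        refine this ?_
        rw [mul_sub]
        exact (Submodule.Quotient.eq I).1 hab
      have key := CapLocal.c1CapFun_sec_eq (M := A ⧸ I) hX.2.2 (D.inv (Fin.rev i)) v (k := n - j - 1)
        (α := αt t) (fun ξ hξ => dif_neg fun hh => hξ (by omega)) (x := y) (hy.trans hk)
        (t := t₀) (G.gen_self _).1 (f := f) ?_ hinj ?_ ?_
      · rw [key]
        refine congrArg (fun m : ℕ∞ => ((m.toNat : ℕ) : ℤ)) ?_
        have hJ : f • (⊤ : Submodule A (A ⧸ I)) = Submodule.map (Submodule.mkQ I) (Ideal.span {f}) := by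
          rw [← Submodule.ideal_span_singleton_smul, ← Submodule.range_mkQ I, ← Submodule.map_top,
            ← Submodule.map_smul'', Ideal.smul_eq_mul, Ideal.mul_top]
        rw [hJ, (Submodule.quotientQuotientEquivQuotientSup I (Ideal.span {f})).length_eq,
          show r - (j + 1) = (i : ℕ) from rfl, coJ_succ, hi]
      · intro ξ hh hδ hres
        simp only [v, dif_pos hh, if_pos hres]
        rfl
      · intro ξ hh hsupp
        rw [Module.support_eq_zeroLocus, Ideal.annihilator_quotient, PrimeSpectrum.mem_zeroLocus] at hsupp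
        have := hdle t j (by omega) ξ (hh.trans h) (by
          rw [← coJ_map u F (Q t) h hh]
          refine ne_top_of_le_ne_top (IsLocalRing.maximalIdeal.isMaximal (X.presheaf.stalk ξ)).ne_top
            (Ideal.map_le_iff_le_comap.2 fun b hb => ?_)
          have hm : b ∈ (primeOf hh).asIdeal := hsupp hb
          rwa [mem_primeOf] at hm)
        omega
      · intro ξ hh hδ
        simp only [αt]
        rw [dif_pos ⟨hh, by omega⟩]
        refine congrArg (fun m : ℕ∞ => ((m.toNat : ℕ) : ℤ)) ?_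
        letI : Algebra A (X.presheaf.stalk ξ) := (X.presheaf.stalkSpecializes hh).hom.toAlgebra
        haveI := isLocalization_primeOf hh
        rw [CapFlat.length_localized_cyclic (S := X.presheaf.stalk ξ) I (primeOf hh).asIdeal,
          ← coJ_map u F (Q t) h hh]
        rfl
    rw [e, Finset.sum_congr rfl fun t _ => by rw [← key t]]
    simp only [Cyc.c1CapFun]
    rw [Finset.sum_congr rfl fun t _ => mul_finsum _ _,
      ← finsum_sum_comm _ (fun ξ t => a t * (αt t ξ * Cyc.secDivFun δ L ξ (v ξ) y))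
        fun t _ => (hfin t).subset fun ξ hξ => right_ne_zero_of_mul hξ]
    refine finsum_congr fun ξ => ?_
    by_cases hh : ξ ⤳ y ∧ δ y + 1 = δ ξ
    swap
    · have h0 : Cyc.secDivFun δ L ξ (v ξ) y = 0 := dif_neg hh
      simp [h0]
    have hδ : δ ξ = n - j := by have := hh.2; omega
    rw [coCapsFrom_local hF hR j (by omega) ξ (hh.1.trans h) hδ, Finset.sum_mul]
    refine Finset.sum_congr rfl fun t _ => ?_
    simp only [αt]
    rw [dif_pos ⟨hh.1, hδ⟩, mul_assoc]

/-- Near the zeros, a cosection is regular on a cycle and cuts out another one. -/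
def CutsTo (δ : X → ℤ) (n : ℤ) (r : ℕ) (u : E ⟶ Coh.structureModule X) (α ζ : X → ℤ) : Prop :=
  (∀ x, coIdeal u x = ⊤ → ζ x = 0) ∧
  ∀ x, coIdeal u x ≠ ⊤ → n - r ≤ δ x → ∃ (N : ℕ) (a : Fin N → ℤ) (Q : Fin N → Ideal (X.presheaf.stalk x)),
    IsFam δ n α a Q ∧ (∀ t, RegSec r u (Q t)) ∧ (δ x = n - r → ζ x = ∑ t, a t * ((Module.length
      (X.presheaf.stalk x) (X.presheaf.stalk x ⧸ (Q t ⊔ coIdeal u x))).toNat : ℤ))

include hX hE hα in
theorem coCapsFrom_eq {ζ : AlgebraicCycle X ℤ} (hζ : ζ ∈ Cyc.Zk X δ (n - r))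
    (hc : CutsTo δ n r u ⇑α ⇑ζ) : coCapsFrom hX D u α r = ζ := by
  haveI := hX.1
  refine DFunLike.coe_injective (funext fun x => ?_)
  by_cases hx : δ x = n - r
  swap
  · rw [coCapsFrom_mem hX D u hα r x hx, hζ x hx]
  by_cases hz : coIdeal u x = ⊤
  · rw [hc.1 x hz]
    by_contra hne
    have h := coCapsFrom_support hX D u hE r le_rfl x hne
    rw [Nat.sub_self, coZero_zero] at h
    exact (IsLocalRing.maximalIdeal.isMaximal (X.presheaf.stalk x)).ne_top (top_le_iff.1 (hz ▸ h))
  obtain ⟨N, a, Q, hF, hR, he⟩ := hc.2 x hz hx.ge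
  let G := (nonempty_frame D x).some
  rw [coCapsFrom_local hX D u hE hα G hF (fun t => (hR t).regMod hE G) r le_rfl x (specializes_refl x) hx, he hx]
  refine Finset.sum_congr rfl fun t _ => ?_
  rw [Nat.sub_self, coJ_eq_map, Frame.coIdl_zero hE, TopCat.Presheaf.stalkSpecializes_refl,
    CommRingCat.hom_id, Ideal.map_id]

include hX hα in
theorem emc_coCapsFrom : ∀ j : ℕ, j ≤ r →
    emc δ (n - j) (coCapsFrom hX D u α j) = (coOps hX D j).1 (emc δ n α)
  | 0, _ => by simp [coOps, coCapsFrom]
  | j + 1, hj => by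
    haveI := hX.1
    rw [coOps, dif_pos (show j < r by omega), mul_apply, ← emc_coCapsFrom j (by omega)]
    show _ = -((lR hX (D.inv (Fin.rev (idx (show j < r by omega))))).1 _)
    rw [lR_emc hX _ (coCapsFrom_mem hX D u hα j), show n - ((j + 1 : ℕ) : ℤ) = n - j - 1 by push_cast; ring,
      coCapsFrom, dif_pos (show j < r by omega)]
    have hm := C1Class.capCycle_mem (D.inv (Fin.rev (idx (show j < r by omega)))) hX.2.2
      (coCapsFrom_mem hX D u hα j) (coSecs D u _) (coSecs_ne_zero D u (idx (show j < r by omega)))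
    rw [← neg_one_zsmul, emc_zsmul _ hm, neg_one_zsmul]
    refine congrArg Neg.neg (emc_congr (c1v_mem hX _ (coCapsFrom_mem hX D u hα j)) hm ?_).symm
    exact c1v_eq hX _ (coCapsFrom_mem hX D u hα j) (ratEquiv_rfl _) (coSecs_ne_zero D u _) (coe_c1CapCycle _ _ _ _ _)

variable {P : Scheme.{u}} (π : P ⟶ X) [Flat π] [LocallyOfFiniteType π] {d : ℕ}

include hE hX in
theorem CutsTo.pull (hd : ∀ y, FibDim.rd π y ≤ d) {α ζ : X → ℤ} (hα : ∀ x, δ x ≠ n → α x = 0)
    (hζ : ∀ x, δ x ≠ n - r → ζ x = 0) (hc : CutsTo δ n r u α ζ) :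
    CutsTo (fun z => δ (π z) + FibDim.rd π z) (n + d) r (pullCo u π)
      (Cyc.pullFun π (fun z => δ (π z) + FibDim.rd π z) δ d α)
      (Cyc.pullFun π (fun z => δ (π z) + FibDim.rd π z) δ d ζ) := by
  refine ⟨fun y hy => ?_, fun y hy hδ => ?_⟩
  · rw [coIdeal_pull u π hE] at hy
    have h0 : ζ (π y) = 0 := hc.1 _ (by
      by_contra hne
      exact (ne_top_of_le_ne_top (IsLocalRing.maximalIdeal.isMaximal (P.presheaf.stalk y)).ne_top
        ((Ideal.map_mono (IsLocalRing.le_maximalIdeal hne)).trans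
          (Ideal.map_le_iff_le_comap.2 (IsLocalRing.maximalIdeal_comap (π.stalkMap y).hom).ge))) hy)
    simp only [Cyc.pullFun, h0, zero_mul, ite_self]
  · rw [coIdeal_pull u π hE] at hy
    have hy' : coIdeal u (π y) ≠ ⊤ := fun e => hy (by rw [e, Ideal.map_top])
    have h1 := hd y
    have hδ' : n + d - r ≤ δ (π y) + FibDim.rd π y := hδ
    obtain ⟨N, a, Q, hF, hR, he⟩ := hc.2 (π y) hy' (by omega)
    refine ⟨N, a, _, hF.pull π hd hα, fun t => (hR t).pull π hE hy', fun hy2 => ?_⟩
    have hy2' : δ (π y) + FibDim.rd π y = n + d - r := hy2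
    simp only [Cyc.pullFun]
    have e : ∀ t, Module.length (P.presheaf.stalk y) (P.presheaf.stalk y ⧸
        ((Q t).map (π.stalkMap y).hom ⊔ coIdeal (pullCo u π) y)) =
        Module.length (X.presheaf.stalk (π y)) (X.presheaf.stalk (π y) ⧸ (Q t ⊔ coIdeal u (π y))) *
        Module.length (P.presheaf.stalk y) (P.presheaf.stalk y ⧸ Ideal.map (π.stalkMap y).hom
          (maximalIdeal (X.presheaf.stalk (π y)))) := fun t => by
      rw [coIdeal_pull u π hE, ← Ideal.map_sup]
      exact length_quot_pull π y _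
    haveI := hX.1
    by_cases hn : δ (π y) = n - r
    · rw [if_pos (by omega), he hn, Finset.sum_mul]
      refine Finset.sum_congr rfl fun t _ => ?_
      rw [e, ENat.toNat_mul]
      push_cast
      exact mul_assoc (a t) _ _
    · simp only [hζ _ hn, zero_mul, ite_self]
      refine (Finset.sum_eq_zero fun t _ => ?_).symm
      have hne : Q t = ⊤ := by
        by_contra hne
        exact hn (le_antisymm (RegSec.delta_le hX.2.2 hne (hR t) (hF.2 t)) (by omega))
      simp [e, hne, Module.length_eq_zero]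

omit D π [Flat π] [LocallyOfFiniteType π] in
include hX hE hα in
/-- The top Chern class caps a cycle to the signed zeros of a cosection regular on it. -/
theorem cR_cozero_cycle {ζ : AlgebraicCycle X ℤ} (hζ : ζ ∈ Cyc.Zk X δ (n - r))
    (hc : CutsTo δ n r u ⇑α ⇑ζ) :
    (cR hX hE r).1 (emc δ n α) = (-1 : ℤ) ^ r • emc δ (n - r) ζ := by
  obtain ⟨P, π, d, hπ, hF⟩ := exists_split r E hE
  haveI := hπ.proper
  haveI := hπ.flat
  obtain ⟨D⟩ := hF.nonempty_pieces
  haveI := hX.1
  have hd : ∀ y, FibDim.rd π y ≤ d := CycLib.rd_le_of_hasRelDim π (hπ.hasRelDim hX)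
  have hE' := GrassFlag.rank_pullback π hE
  refine plT_injective hX hπ ?_
  refine (cOp_intw hX hE hπ r _).trans ?_
  show (cR (isSetup_rd π hX) (GrassFlag.rank_pullback π hE) r).1 (plT hX hπ (emc δ n α)) = _
  rw [map_zsmul, plT_emc hX hπ hα, plT_emc hX hπ hζ, show n - (r : ℤ) + (d : ℤ) = n + d - r by ring]
  let hX' := isSetup_rd π hX
  have hα' : pullT hπ hX α ∈ Cyc.Zk P (fun z => δ (π z) + FibDim.rd π z) (n + d) := fun y hy => by
    rw [pullT_coe]
    show (if δ (π y) + (FibDim.rd π y : ℤ) = δ (π y) + d then _ else 0) = 0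
    split_ifs with h1
    · rw [hα (π y) (fun h2 => hy (show δ (π y) + (FibDim.rd π y : ℤ) = _ by omega)), zero_mul]
    · rfl
  have hζ' : pullT hπ hX ζ ∈ Cyc.Zk P (fun z => δ (π z) + FibDim.rd π z) (n + d - r) := fun y hy => by
    rw [pullT_coe]
    show (if δ (π y) + (FibDim.rd π y : ℤ) = δ (π y) + d then _ else 0) = 0
    split_ifs with h1
    · rw [hζ (π y) (fun h2 => hy (show δ (π y) + (FibDim.rd π y : ℤ) = _ by omega)), zero_mul]
    · rfl
  have hc' := hc.pull hX u hE π hd hα hζ
  rw [← pullT_coe hX hπ, ← pullT_coe hX hπ] at hc'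
  have er := coCapsFrom_eq hX' D (pullCo u π) hE' hα' hζ' hc'
  rw [← er, emc_coCapsFrom hX' D _ hα' r le_rfl, coOps_eq, emc_esym hX' D hE' hα']
  rw [← intCast_apply, Int.cast_pow, Int.cast_neg, Int.cast_one, ← mul_assoc, ← mul_pow,
    neg_one_mul, neg_neg, one_pow, one_mul]

end Groth.Agent.H23.Chern

end
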