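import Groth.Agent.H23.Chern.CoZero

/-! Coordinates of a cosection that are regular modulo an ideal. -/

set_option autoImplicit false
set_option backward.isDefEq.respectTransparency false
set_option backward.isDefEq.respectTransparency.types false

universe u

open CategoryTheory CategoryTheory.Limits AlgebraicGeometry TopologicalSpace Opposite IsLocalRing

noncomputable section

namespace Groth.Agent.H23.Chern

open Groth.Agent RatSec CDiv6 StalkPrimes

/-- Regularity modulo an ideal passes to localisations. -/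
theorem mul_mem_map_of_isLocalization {R S : Type u} [CommRing R] [CommRing S] [Algebra R S] (M : Submonoid R)
    [IsLocalization M S] {J : Ideal R} {c : R} (h : ∀ a, c * a ∈ J → a ∈ J) {b : S}
    (hb : algebraMap R S c * b ∈ J.map (algebraMap R S)) : b ∈ J.map (algebraMap R S) := by
  obtain ⟨⟨b0, s⟩, hs⟩ := IsLocalization.surj M b
  have h1 : algebraMap R S (c * b0) ∈ J.map (algebraMap R S) := by
    rw [map_mul, ← hs, ← mul_assoc]
    exact Ideal.mul_mem_right _ _ hb
  obtain ⟨m, hm, hmem⟩ := (IsLocalization.algebraMap_mem_map_algebraMap_iff M S J (c * b0)).1 h1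
  have h2 : algebraMap R S b0 ∈ J.map (algebraMap R S) :=
    (IsLocalization.algebraMap_mem_map_algebraMap_iff M S J b0).2 ⟨m, hm, h _ (by rwa [mul_left_comm])⟩
  rw [← hs] at h2
  exact (Ideal.mul_unit_mem_iff_mem _ (IsLocalization.map_units S s)).1 h2

variable {X : Scheme.{u}} {E : X.Modules} {r : ℕ} {D : Pieces E r} (u : E ⟶ Coh.structureModule X)
  {x₀ : X} (F : Frame D x₀) (Q : Ideal (X.presheaf.stalk x₀))

/-- An ideal together with the later coordinates. -/
def coJ {y : X} (h : y ⤳ x₀) (i : ℕ) : Ideal (X.presheaf.stalk y) :=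
  Q.map (X.presheaf.stalkSpecializes h).hom ⊔ (F.spec h).coIdl u i

theorem coJ_eq_map {y : X} (h : y ⤳ x₀) (i : ℕ) :
    coJ u F Q h i = (Q ⊔ F.coIdl u i).map (X.presheaf.stalkSpecializes h).hom := by
  rw [coJ, Frame.coIdl_spec, Ideal.map_sup]

theorem coJ_map {y ξ : X} (h : y ⤳ x₀) (h' : ξ ⤳ y) (i : ℕ) :
    (coJ u F Q h i).map (X.presheaf.stalkSpecializes h').hom = coJ u F Q (h'.trans h) i := by
  rw [coJ_eq_map, coJ_eq_map, Ideal.map_map, ← CommRingCat.hom_comp, TopCat.Presheaf.stalkSpecializes_comp]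

theorem coJ_top {y : X} (h : y ⤳ x₀) : coJ u F Q h r = Q.map (X.presheaf.stalkSpecializes h).hom := by
  rw [coJ, Frame.coIdl_top, sup_bot_eq]

theorem coJ_succ {y : X} (h : y ⤳ x₀) (i : Fin r) :
    coJ u F Q h i = coJ u F Q h ((i : ℕ) + 1) ⊔ Ideal.span {(F.spec h).coC u i} := by
  rw [coJ, coJ, (F.spec h).coIdl_succ u i, sup_assoc]

/-- Each coordinate is regular modulo the ideal and the later coordinates. -/
def RegMod : Prop :=
  ∀ (i : Fin r) (a : X.presheaf.stalk x₀),
    F.coC u i * a ∈ Q ⊔ F.coIdl u ((i : ℕ) + 1) → a ∈ Q ⊔ F.coIdl u ((i : ℕ) + 1)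

variable {u F Q}

theorem RegMod.spec (hR : RegMod u F Q) {y : X} (h : y ⤳ x₀) (i : Fin r) {b : X.presheaf.stalk y}
    (hb : (F.spec h).coC u i * b ∈ coJ u F Q h ((i : ℕ) + 1)) : b ∈ coJ u F Q h ((i : ℕ) + 1) := by
  letI : Algebra (X.presheaf.stalk x₀) (X.presheaf.stalk y) := (X.presheaf.stalkSpecializes h).hom.toAlgebra
  haveI := isLocalization_primeOf h
  rw [coJ_eq_map, Frame.coC_spec] at *
  exact mul_mem_map_of_isLocalization (primeOf h).asIdeal.primeCompl (hR i) hb

/-- The zero loci of the last coordinates on the support of the ideal have the expected dimension. -/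
theorem RegMod.delta_le [IsLocallyNoetherian X] {δ : X → ℤ} (hd : Cyc.IsDimFun X δ) {n : ℤ} (hR : RegMod u F Q)
    (hQ : ∀ (y : X) (h : y ⤳ x₀), Q.map (X.presheaf.stalkSpecializes h).hom ≠ ⊤ → δ y ≤ n) :
    ∀ j : ℕ, j ≤ r → ∀ (ξ : X) (h : ξ ⤳ x₀), coJ u F Q h (r - j) ≠ ⊤ → δ ξ ≤ n - j := by
  intro j
  induction j with
  | zero =>
    intro _ ξ h hne
    rw [Nat.sub_zero, coJ_top] at hne
    simpa using hQ ξ h hne
  | succ j ih =>
    intro hj ξ h hne
    let i : Fin r := ⟨r - (j + 1), by omega⟩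
    have hi : (i : ℕ) + 1 = r - j := by show r - (j + 1) + 1 = r - j; omega
    have hle : coJ u F Q h i ≤ maximalIdeal (X.presheaf.stalk ξ) := IsLocalRing.le_maximalIdeal hne
    have hsucc := coJ_succ u F Q h i
    obtain ⟨p, hp, -⟩ := Ideal.exists_minimalPrimes_le (le_sup_left.trans (hsucc.ge.trans hle))
    haveI := hp.1.1
    obtain ⟨ξ', h', hξ'⟩ := exists_point p
    have hcp : (F.spec h).coC u i ∉ p := by
      intro hmem
      obtain ⟨a, ha, ham⟩ := Ideal.exists_mul_mem_of_mem_minimalPrimes hp hmem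
      exact ha (hR.spec h i ham)
    have hne' : ξ' ≠ ξ := by
      rintro rfl
      rw [ZeroSec.primeOf_refl'] at hξ'
      exact hcp (hξ' ▸ hle (hsucc.ge (Submodule.mem_sup_right (Ideal.mem_span_singleton_self _))))
    have h1 := CycLib.delta_lt hd h' hne'
    have h2 := ih (by omega) ξ' (h'.trans h) (by
      rw [← hi, ← coJ_map u F Q h h']
      refine ne_top_of_le_ne_top (IsLocalRing.maximalIdeal.isMaximal (X.presheaf.stalk ξ')).ne_top
        (Ideal.map_le_iff_le_comap.2 fun a ha => ?_)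
      have hmem : a ∈ (primeOf h').asIdeal := by rw [hξ']; exact hp.1.2 ha
      rw [mem_primeOf] at hmem
      exact hmem)
    push_cast
    omega

/-- Regularity from a regular sequence on the quotient. -/
theorem regMod_of_regular [IsLocallyNoetherian X] (hE : FlatMod.IsFinLocFreeOfRank r E)
    (h : Q = ⊤ ∨ ∃ f : Fin r → X.presheaf.stalk x₀,
      RingTheory.Sequence.IsRegular (X.presheaf.stalk x₀ ⧸ Q) (List.ofFn fun l => Ideal.Quotient.mk Q (f l)) ∧
      Q ⊔ coIdeal u x₀ = Q ⊔ Ideal.span (Set.range f)) : RegMod u F Q := by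
  intro i a ha
  rcases h with rfl | ⟨f, hf, he⟩
  · simp
  let A := X.presheaf.stalk x₀
  by_cases hQ : Q = ⊤
  · subst hQ; simp
  haveI : Nontrivial (A ⧸ Q) := Ideal.Quotient.nontrivial_iff.2 hQ
  haveI : IsLocalRing (A ⧸ Q) := IsLocalRing.of_surjective' (Ideal.Quotient.mk Q) Ideal.Quotient.mk_surjective
  let c : Fin r → A := fun j => F.coC u (Fin.rev j)
  have hrange : Ideal.span (Set.range c) = coIdeal u x₀ := by
    rw [← F.coIdl_zero hE u, Frame.coIdl]
    refine congrArg Ideal.span ?_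
    ext v
    exact ⟨fun ⟨j, e⟩ => ⟨Fin.rev j, Nat.zero_le _, e⟩, fun ⟨l, _, e⟩ => ⟨Fin.rev l, by simpa [c] using e⟩⟩
  have hb : RingTheory.Sequence.IsRegular (A ⧸ Q) (List.ofFn fun j => Ideal.Quotient.mk Q (c j)) := by
    refine S0611.result (fun l => Ideal.Quotient.mk Q (f l)) _ hf ?_
    have h1 := congrArg (Ideal.map (Ideal.Quotient.mk Q)) he
    rw [← hrange, Ideal.map_sup, Ideal.map_sup, Ideal.map_quotient_self, bot_sup_eq, bot_sup_eq, Ideal.map_span,
      Ideal.map_span, ← Set.range_comp, ← Set.range_comp] at h1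
    exact h1.symm
  have hi := (RingTheory.Sequence.isWeaklyRegular_iff _ _).1 hb.toIsWeaklyRegular ((Fin.rev i : Fin r) : ℕ)
    (by rw [List.length_ofFn]; exact (Fin.rev i).2)
  rw [List.getElem_ofFn] at hi
  have hci : c ⟨((Fin.rev i : Fin r) : ℕ), (Fin.rev i).2⟩ = F.coC u i := congrArg (F.coC u) (Fin.rev_rev i)
  rw [hci] at hi
  have hI : (Ideal.ofList ((List.ofFn fun j => Ideal.Quotient.mk Q (c j)).take (Fin.rev i : Fin r)) •
      (⊤ : Submodule (A ⧸ Q) (A ⧸ Q))) = (F.coIdl u ((i : ℕ) + 1)).map (Ideal.Quotient.mk Q) := by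
    rw [Ideal.smul_eq_mul, Ideal.mul_top, Ideal.ofList, Frame.coIdl, Ideal.map_span]
    refine congrArg Ideal.span ?_
    ext v
    simp only [Set.mem_setOf_eq, List.mem_take_iff_getElem, List.getElem_ofFn, Set.mem_image]
    constructor
    · rintro ⟨j, hj, rfl⟩
      rw [List.length_ofFn] at hj
      exact ⟨_, ⟨Fin.rev ⟨j, by omega⟩, by simp [Fin.val_rev] at hj ⊢; omega, rfl⟩, rfl⟩
    · rintro ⟨_, ⟨l, hl, rfl⟩, rfl⟩
      refine ⟨((Fin.rev l : Fin r) : ℕ), ?_, ?_⟩
      · rw [List.length_ofFn]; simp [Fin.val_rev]; omega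
      · exact congrArg (fun j => Ideal.Quotient.mk Q (F.coC u j)) (Fin.rev_rev l)
  have key : (Submodule.Quotient.mk (Ideal.Quotient.mk Q a) :
      (A ⧸ Q) ⧸ (Ideal.ofList ((List.ofFn fun j => Ideal.Quotient.mk Q (c j)).take (Fin.rev i : Fin r)) •
        (⊤ : Submodule (A ⧸ Q) (A ⧸ Q)))) = 0 := by
    refine hi.right_eq_zero_of_smul ?_
    rw [← Submodule.Quotient.mk_smul, Submodule.Quotient.mk_eq_zero, hI, smul_eq_mul, ← map_mul,
      Ideal.mem_quotient_iff_mem_sup, sup_comm]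
    exact ha
  rw [Submodule.Quotient.mk_eq_zero, hI, Ideal.mem_quotient_iff_mem_sup, sup_comm] at key
  exact key

end Groth.Agent.H23.Chern

end
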