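import Groth.Agent.H23.Chern.CoFrame
import Groth.Agent.H23.Chern.Formulas
import Groth.Agent.H23.TensorDesc
import Groth.Agent.RefX.Lift
import Groth.Agent.RefX.Reflexive
import Groth.Agent.RefX.Dual
import Groth.Agent.KFlatLib.Scheme.PullTensor

/-! The dual on stalks, and its compatibility with pull-backs. -/

set_option autoImplicit false
set_option backward.isDefEq.respectTransparency false
set_option backward.isDefEq.respectTransparency.types false

universe u

open CategoryTheory CategoryTheory.Limits AlgebraicGeometry TopologicalSpace Opposite MonoidalCategory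
open scoped TensorProduct

noncomputable section

namespace Groth.Agent.H23.Chern

open Groth.Agent Groth.Agent.SheafHomX C1Pull

variable {X : Scheme.{u}} {A B C : X.Modules}

/-- A map out of a tensor product as a pairing of stalks. -/
def stPair (φ : (DCoh.tensorBi.obj A).obj B ⟶ C) (x : X) :
    A.presheaf.stalk x →ₗ[X.presheaf.stalk x] B.presheaf.stalk x →ₗ[X.presheaf.stalk x] C.presheaf.stalk x :=
  TensorProduct.curry ((KFlatLib.stalkTensorIso x A B).hom ≫ (DerSch.stalkFunctor X x).map φ).hom

theorem stPair_germ (φ : (DCoh.tensorBi.obj A).obj B ⟶ C) {U : X.Opens} {x : X} (hx : x ∈ U) (a : Γ(A, U))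
    (b : Γ(B, U)) :
    stPair φ x (A.presheaf.germ U x hx a) (B.presheaf.germ U x hx b) =
      C.presheaf.germ U x hx (φ.app U (KFlatLib.tmSh A B a b)) := by
  refine Eq.trans ?_ (DerSch.stalkFunctor_map_germ x φ U hx (KFlatLib.tmSh A B a b))
  exact congrArg ((DerSch.stalkFunctor X x).map φ) (KFlatLib.stalkTensorIso_gm A B U hx a b)

theorem tensor_hom_ext {φ ψ : (DCoh.tensorBi.obj A).obj B ⟶ C} (h : ∀ x a b, stPair φ x a b = stPair ψ x a b) :
    φ = ψ := by
  refine Scheme.Modules.hom_ext _ _ fun U => ?_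
  ext s
  refine ZClosLib.section_ext C _ _ fun x hx => ?_
  have he : (DerSch.stalkFunctor X x).map φ = (DerSch.stalkFunctor X x).map ψ := by
    rw [← cancel_epi (KFlatLib.stalkTensorIso x A B).hom]
    exact ModuleCat.MonoidalCategory.tensor_ext fun a b => h x a b
  have h1 := DerSch.stalkFunctor_map_germ x φ U hx s
  rw [he, DerSch.stalkFunctor_map_germ x ψ U hx s] at h1
  exact h1.symm

theorem stPair_comp_left {A' : X.Modules} (g : A' ⟶ A) (φ : (DCoh.tensorBi.obj A).obj B ⟶ C) (x : X)
    (a : A'.presheaf.stalk x) (b : B.presheaf.stalk x) :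
    stPair ((DCoh.tensorBi.map g).app B ≫ φ) x a b = stPair φ x (Algz.stalkMapₗ g x a) b := by
  have h := congrArg (fun q => q (a ⊗ₜ[X.presheaf.stalk x] b))
    (KFlatLib.stalkTensorIso_naturality (x := x) g (𝟙 B))
  rw [CategoryTheory.Functor.map_id (DCoh.tensorBi.obj A) B, Category.comp_id] at h
  show (DerSch.stalkFunctor X x).map ((DCoh.tensorBi.map g).app B ≫ φ)
    ((KFlatLib.stalkTensorIso x A' B).hom (a ⊗ₜ b)) = _
  rw [Functor.map_comp]
  refine (congrArg ((DerSch.stalkFunctor X x).map φ) h.symm).trans ?_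
  show stPair φ x (Algz.stalkMapₗ g x a) ((DerSch.stalkFunctor X x).map (𝟙 B) b) = _
  rw [CategoryTheory.Functor.map_id]
  rfl

variable (E : X.Modules)

/-- The evaluation. -/
def counitDual : (DCoh.tensorBi.obj (dual E)).obj E ⟶ Coh.structureModule X :=
  (adj E).counit.app (Coh.structureModule X)

theorem homEquiv_symm_dual {Z : X.Modules} (g : Z ⟶ dual E) :
    ((adj E).homEquiv Z (Coh.structureModule X)).symm g = (DCoh.tensorBi.map g).app E ≫ counitDual E :=
  Adjunction.homEquiv_counit ..

/-- The value of a germ of the dual on a germ. -/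
def pairAt (x : X) : (dual E).presheaf.stalk x →ₗ[X.presheaf.stalk x]
    E.presheaf.stalk x →ₗ[X.presheaf.stalk x] (Coh.structureModule X).presheaf.stalk x :=
  stPair (counitDual E) x

/-- The evaluation of the concrete dual on sections. -/
def evBilin : TensorDesc.Bilin (RefHull.dual E) E (Coh.structureModule X) where
  b U θ m := RefX.app le_rfl θ m
  add_left U θ θ' m := ZClosLib.section_ext _ _ _ fun y hy => by
    rw [RefX.germ_app, map_add, RefX.germ_app, RefX.germ_app]
    rfl
  smul_left U r θ m := ZClosLib.section_ext _ _ _ fun y hy => by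
    rw [RefX.germ_app, QCoh.germ_smul', RefX.germ_app]
    rfl
  add_right U θ m m' := RefX.app_add le_rfl θ m m'
  smul_right U r θ m := RefX.app_smul le_rfl θ r m
  res {U V} h θ m := ZClosLib.section_ext _ _ _ fun y hy => by
    rw [TopCat.Presheaf.germ_res_apply, RefX.germ_app, RefX.germ_app, TopCat.Presheaf.germ_res_apply]
    rfl

/-- The evaluation of the concrete dual. -/
def evHull : (DCoh.tensorBi.obj (RefHull.dual E)).obj E ⟶ Coh.structureModule X :=
  TensorDesc.desc (evBilin E)

theorem evHull_pair (x : X) (θ : (RefHull.dual E).presheaf.stalk x) (e : E.presheaf.stalk x) :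
    stPair (evHull E) x θ e = RefHull.evalStalk E (Coh.structureModule X) x θ e := by
  obtain ⟨U, hU, g, rfl⟩ := (RefHull.dual E).presheaf.germ_exist θ
  obtain ⟨V, hV, m, rfl⟩ := E.presheaf.germ_exist e
  have hW : x ∈ U ⊓ V := ⟨hU, hV⟩
  rw [← (RefHull.dual E).presheaf.germ_res_apply (homOfLE inf_le_left : U ⊓ V ⟶ U) x hW g,
    ← E.presheaf.germ_res_apply (homOfLE inf_le_right : U ⊓ V ⟶ V) x hW m, stPair_germ, RefHull.evalStalk_germ]
  refine (congrArg ((Coh.structureModule X).presheaf.germ (U ⊓ V) x hW)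
    (TensorDesc.desc_tmul (evBilin E) (U ⊓ V) _ _)).trans ?_
  exact RefX.germ_app le_rfl _ _ hW

/-- The comparison with the concrete dual. -/
def fromHull : RefHull.dual E ⟶ dual E := (adj E).homEquiv _ _ (evHull E)

theorem pairAt_fromHull (x : X) (θ : (RefHull.dual E).presheaf.stalk x) :
    pairAt E x (Algz.stalkMapₗ (fromHull E) x θ) = RefHull.evalStalk E (Coh.structureModule X) x θ := by
  refine LinearMap.ext fun e => ?_
  rw [← evHull_pair, pairAt, ← stPair_comp_left, ← homEquiv_symm_dual, fromHull, Equiv.symm_apply_apply]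

/-- A section of the dual as a family of functionals. -/
def toHullFun (U : X.Opens) (z : Γ(dual E, U)) : Γ(RefHull.dual E, U) :=
  ⟨fun y => pairAt E y.1 ((dual E).presheaf.germ U y.1 y.2 z), fun V i m x =>
    ⟨V, x.2, 𝟙 V, (counitDual E).app V (KFlatLib.tmSh (dual E) E ((dual E).presheaf.map i.op z) m), fun y => by
      refine Eq.trans ?_ (stPair_germ (counitDual E) y.2 ((dual E).presheaf.map i.op z) m)
      rw [TopCat.Presheaf.germ_res_apply]
      rfl⟩⟩

/-- The comparison of the dual with the concrete dual. -/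
def toHull : dual E ⟶ RefHull.dual E :=
  ⟨PresheafOfModules.homMk
    { app := fun U => AddCommGrpCat.ofHom (AddMonoidHom.mk' (toHullFun E U.unop) fun z z' =>
        RefX.sect_ext fun y => by
          show pairAt E y.1 _ = pairAt E y.1 _ + pairAt E y.1 _
          rw [map_add, map_add])
      naturality := fun U V i => by
        ext z
        refine RefX.sect_ext fun y => ?_
        show pairAt E y.1 ((dual E).presheaf.germ V.unop y.1 y.2 ((dual E).presheaf.map i.unop.op z)) = _
        rw [TopCat.Presheaf.germ_res_apply]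
        rfl }
    fun U r z => RefX.sect_ext fun y => by
      show pairAt E y.1 ((dual E).presheaf.germ U.unop y.1 y.2 (r • z)) = _
      rw [QCoh.germ_smul', map_smul]
      rfl⟩

theorem evalStalk_toHull (x : X) (d : (dual E).presheaf.stalk x) :
    RefHull.evalStalk E (Coh.structureModule X) x (Algz.stalkMapₗ (toHull E) x d) = pairAt E x d := by
  obtain ⟨U, hU, z, rfl⟩ := (dual E).presheaf.germ_exist d
  rw [stalk_germ, RefHull.evalStalk_germ]
  rfl

theorem toHull_fromHull : toHull E ≫ fromHull E = 𝟙 (dual E) := by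
  refine SheafHomX.hom_ext (tensor_hom_ext fun x d e => ?_)
  rw [homEquiv_symm_dual, homEquiv_symm_dual, stPair_comp_left, stPair_comp_left, Algz7.Canon2.stalk_comp]
  show pairAt E x _ e = pairAt E x _ e
  rw [pairAt_fromHull, evalStalk_toHull, show Algz.stalkMapₗ (𝟙 (dual E)) x d = d from
    congr($((DerSch.stalkFunctor X x).map_id _) d)]

theorem pairAt_injective (hE : CohB1.IsFP E) (x : X) : Function.Injective (pairAt E x) := by
  intro d d' h
  have h' := (RefX.evalStalk_bijective (G := Coh.structureModule X) hE x).1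
    ((evalStalk_toHull E x d).trans (h.trans (evalStalk_toHull E x d').symm))
  have key : ∀ e, Algz.stalkMapₗ (fromHull E) x (Algz.stalkMapₗ (toHull E) x e) = e := fun e => by
    rw [← Algz7.Canon2.stalk_comp, toHull_fromHull]
    exact congr($((DerSch.stalkFunctor X x).map_id _) e)
  rw [← key d, h', key]

theorem pairAt_surjective (hE : CohB1.IsFP E) (x : X) : Function.Surjective (pairAt E x) := fun f => by
  obtain ⟨θ, hθ⟩ := (RefX.evalStalk_bijective (G := Coh.structureModule X) hE x).2 f
  exact ⟨Algz.stalkMapₗ (fromHull E) x θ, (pairAt_fromHull E x θ).trans hθ⟩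

section Pull

variable {P : Scheme.{u}} (π : P ⟶ X)

/-- The pull-back of the dual to the dual of the pull-back. -/
def pullDual : (Scheme.Modules.pullback π).obj (dual E) ⟶ dual ((Scheme.Modules.pullback π).obj E) :=
  (adj ((Scheme.Modules.pullback π).obj E)).homEquiv _ _
    (inv (KFlatLib.pullTensorHom π (dual E) E) ≫ (Scheme.Modules.pullback π).map (counitDual E) ≫ (pullUnit π).hom)

theorem pairAt_pullDual (y : P) (d : (dual E).presheaf.stalk (π y)) (e : E.presheaf.stalk (π y)) :
    pairAt ((Scheme.Modules.pullback π).obj E) y (Algz.stalkMapₗ (pullDual E π) y (pm π (dual E) y d))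
      (pm π E y e) =
      Algz.stalkMapₗ (pullUnit π).hom y (pm π (Coh.structureModule X) y (pairAt E (π y) d e)) := by
  obtain ⟨U, hU, z, rfl⟩ := (dual E).presheaf.germ_exist d
  obtain ⟨V, hV, m, rfl⟩ := E.presheaf.germ_exist e
  have hW : π y ∈ U ⊓ V := ⟨hU, hV⟩
  rw [← (dual E).presheaf.germ_res_apply (homOfLE inf_le_left : U ⊓ V ⟶ U) (π y) hW z,
    ← E.presheaf.germ_res_apply (homOfLE inf_le_right : U ⊓ V ⟶ V) (π y) hW m, pairAt, pairAt, ← stPair_comp_left,
    ← homEquiv_symm_dual, pullDual, Equiv.symm_apply_apply, pm_germ, pm_germ]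
  refine (stPair_germ _ (show y ∈ π ⁻¹ᵁ (U ⊓ V) from hW) _ _).trans ?_
  rw [stPair_germ, pm_germ, stalk_germ]
  refine congrArg _ ?_
  show (pullUnit π).hom.app _ (((Scheme.Modules.pullback π).map (counitDual E)).app _
    ((inv (KFlatLib.pullTensorHom π (dual E) E)).app _ _)) = _
  refine congrArg ((pullUnit π).hom.app _) ?_
  refine (congrArg (((Scheme.Modules.pullback π).map (counitDual E)).app _) ?_).trans
    (KFlatLib.pb_naturality π (counitDual E) _).symm
  refine (congrArg ((inv (KFlatLib.pullTensorHom π (dual E) E)).app _)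
    (KFlatLib.pullTensorHom_pb π (dual E) E _ _).symm).trans ?_
  exact congrArg (fun g : (Scheme.Modules.pullback π).obj ((DCoh.tensorBi.obj (dual E)).obj E) ⟶ _ =>
    g.app (π ⁻¹ᵁ (U ⊓ V)) (KFlatLib.pb π (KFlatLib.tmSh (dual E) E _ _)))
    (IsIso.hom_inv_id (KFlatLib.pullTensorHom π (dual E) E))

end Pull

end Groth.Agent.H23.Chern

end
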