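import Groth.Agent.H23.Chern.Basic
import Groth.Agent.H23.ProjBd.BaseChange
import Groth.Agent.H23.C1Push
import Groth.Agent.H23.FlatPushPull
import Groth.Agent.H23.ChowDesc
import Groth.Agent.FibDim.RelDim

/-! Chern classes commute with proper push-forward and flat pull-back. -/

set_option autoImplicit false
set_option backward.isDefEq.respectTransparency false
set_option backward.isDefEq.respectTransparency.types false

universe u

open CategoryTheory CategoryTheory.Limits AlgebraicGeometry TopologicalSpace Opposite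

noncomputable section

namespace Groth.Agent.H23.Chern

open Groth.Agent Groth.Agent.H23.ProjBd RatSec

/-- The map on top of a cartesian square is compatible with the induced dimension functions. -/
theorem deltaCompat_top {X Y P P' : Scheme.{u}} {f : X ⟶ Y} {π : P ⟶ Y} {π' : P' ⟶ X} {f' : P' ⟶ P}
    (hsq : IsPullback f' π' π f) [LocallyOfFiniteType f] [LocallyOfFiniteType π] [LocallyOfFiniteType π']
    [LocallyOfFiniteType f'] {δY : Y → ℤ} {δX : X → ℤ} {δP : P → ℤ} {δP' : P' → ℤ}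
    (hπ : Cyc.DeltaCompat π δP δY) (hπ' : Cyc.DeltaCompat π' δP' δX) (hf : Cyc.DeltaCompat f δX δY) :
    Cyc.DeltaCompat f' δP' δP := by
  have h1 := Bivar.deltaCompat_comp f' π _ _ _ (ChowDesc.deltaCompat_rd f' δP) hπ
  have h2 := Bivar.deltaCompat_comp π' f _ _ _ hπ' hf
  rw [hsq.w] at h1
  rw [ChowDesc.deltaCompat_unique (π' ≫ f) h2 h1]
  exact ChowDesc.deltaCompat_rd f' δP

section Iter

variable {P P' : Scheme.{u}} [IsLocallyNoetherian P] [IsLocallyNoetherian P'] {δ : P → ℤ} {δ' : P' → ℤ}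
  {L : P.Modules} (f' : P' ⟶ P) (hL : PicF.IsInvertible L) (hd : Cyc.IsDimFun P δ) (hd' : Cyc.IsDimFun P' δ')
  (t : ℕ → (ξ : P) → Cyc.secFibre L ξ) (ht : ∀ i ξ, t i ξ ≠ 0)

/-- The pulled back sections. -/
abbrev tPull (i : ℕ) (ξ : P') : Cyc.secFibre ((Scheme.Modules.pullback f').obj L) ξ := C1Pull.vPull f' L (t i) ξ

include hL ht in
theorem tPull_ne_zero (i : ℕ) (ξ : P') : tPull f' t i ξ ≠ 0 := C1Pull.vPull_ne_zero hL (ht i) ξ

theorem map_capIter [IsProper f'] (hδ : Cyc.DeltaCompat f' δ' δ) (β : AlgebraicCycle P' ℤ) : ∀ i,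
    AlgebraicCycle.map f' δ' δ
        (capIter (PicClLib.isInvertible_pullback f' hL) hd' β (tPull f' t) (tPull_ne_zero f' hL t ht) i) =
      capIter hL hd (AlgebraicCycle.map f' δ' δ β) t ht i
  | 0 => rfl
  | i + 1 => Function.locallyFinsuppWithin.ext fun z =>
      (congrFun (C1Push.map_c1Cap hL hd' hd hδ _ (ht i)) z).trans
        (congrArg (fun b : AlgebraicCycle P ℤ => Cyc.c1CapFun δ L (⇑b) (t i) z) (map_capIter hδ β i))

theorem pullFun_capIter [Flat f'] {c : ℤ} (hc : FlatShift.HasShift f' δ' δ c) (β : AlgebraicCycle P ℤ)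
    (β' : AlgebraicCycle P' ℤ) (hβ' : ⇑β' = Cyc.pullFun f' δ' δ c ⇑β) : ∀ i,
    ⇑(capIter (PicClLib.isInvertible_pullback f' hL) hd' β' (tPull f' t) (tPull_ne_zero f' hL t ht) i) =
      Cyc.pullFun f' δ' δ c ⇑(capIter hL hd β t ht i)
  | 0 => hβ'
  | i + 1 => by
    show Cyc.c1CapFun δ' _ _ _ = Cyc.pullFun f' δ' δ c (Cyc.c1CapFun δ L ⇑(capIter hL hd β t ht i) (t i))
    rw [pullFun_capIter hc β β' hβ' i, C1Pull.pullFun_c1CapFun hL (PicClLib.isInvertible_pullback f' hL) hc hd hd'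
      (fun z => by
        obtain ⟨U, hU, hf⟩ := (capIter hL hd β t ht i).supportLocallyFiniteWithinDomain' z (Set.mem_univ z)
        exact ⟨U, hU, hf⟩) (ht i)]

end Iter

/-- The defining relation for pulled back sections. -/
theorem mem_relSum_sections {X P : Scheme.{u}} {p : P ⟶ X} {O1 : P.Modules} [IsLocallyNoetherian P] {δP : P → ℤ}
    {δ : X → ℤ} (hd : Cyc.IsDimFun P δP) (hL : PicF.IsInvertible O1) {n : ℕ} {k : ℤ} {α : AlgebraicCycle X ℤ}
    {γ : Fin (n + 2) → AlgebraicCycle X ℤ} (hγ : Cyc.IsChernCap p δ δP O1 (n + 1) k α γ)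
    (t : ℕ → (ξ : P) → Cyc.secFibre O1 ξ) (ht : ∀ i ξ, t i ξ ≠ 0) (β : Fin (n + 2) → AlgebraicCycle P ℤ)
    (hβ : ∀ i, ⇑(β i) = Cyc.pullFun p δP δ (n : ℤ) ⇑(γ (Fin.rev i))) :
    (∑ i : Fin (n + 2), (-1 : ℤ) ^ (i : ℕ) • capIter hL hd (β i) t ht i) ∈ ratZero hd (k - 1) := by
  refine hγ.2.2 t ht _ fun y => ?_
  rw [Function.locallyFinsuppWithin.coe_sum, Finset.sum_apply]
  refine Finset.sum_congr rfl fun i _ => ?_
  have e : ((n + 1 : ℕ) : ℤ) - 1 = (n : ℤ) := by push_cast; ring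
  rw [Function.locallyFinsuppWithin.coe_zsmul, Pi.smul_apply, smul_eq_mul, e, ← hβ i, c1PowFun_eq hL hd (β i) t ht]

variable {X Y P P' : Scheme.{u}} {f : X ⟶ Y} {π : P ⟶ Y} {π' : P' ⟶ X} {f' : P' ⟶ P} (hsq : IsPullback f' π' π f)
  {O1 : P.Modules} {n : ℕ} (hP : HasCoords π O1 n) [IsProper π] [IsProper π'] {δX : X → ℤ} {δY : Y → ℤ} {δP : P → ℤ}
  {δP' : P' → ℤ} (hX : Cyc.IsSetup X δX) (hY : Cyc.IsSetup Y δY) (hPs : Cyc.IsSetup P δP)
  (hPs' : Cyc.IsSetup P' δP') (hπ : Cyc.DeltaCompat π δP δY) (hπ' : Cyc.DeltaCompat π' δP' δX)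

include hsq hP hX hPs' hπ hπ' in
theorem relSum_map [IsLocallyNoetherian Y] [IsLocallyNoetherian P] [IsProper f] (hf : Cyc.DeltaCompat f δX δY)
    (hPs : Cyc.IsSetup P δP) {k : ℤ} {α : AlgebraicCycle X ℤ} {γ : Fin (n + 2) → AlgebraicCycle X ℤ}
    (hγ : Cyc.IsChernCap π' δX δP' ((Scheme.Modules.pullback f').obj O1) (n + 1) k α γ) :
    relSum hP hPs.2.2 hπ (fun i => AlgebraicCycle.map f δX δY (γ i)) ∈ ratZero hPs.2.2 (k - 1) := by
  haveI := hX.1
  haveI := hPs'.1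
  haveI : IsProper f' := MorphismProperty.of_isPullback (P := @IsProper) hsq.flip inferInstance
  have hP' := hP.baseChange hsq
  have hδ' := deltaCompat_top hsq hπ hπ' hf
  let t : ℕ → (ξ : P) → Cyc.secFibre O1 ξ := fun _ => hP.sec 0
  have ht : ∀ i ξ, t i ξ ≠ 0 := fun _ => hP.sec_ne_zero 0
  let β : Fin (n + 2) → AlgebraicCycle P' ℤ := fun i => hP'.pullCycle hPs'.2.2 hπ' (γ (Fin.rev i))
  have h := mem_relSum_sections hPs'.2.2 (PicClLib.isInvertible_pullback f' hP.invertible) hγ (tPull f' t)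
    (tPull_ne_zero f' hP.invertible t ht) β (fun _ => rfl)
  have h2 := CycLib.ratEquivZero_map f' hPs' hPs hδ' h
  let M : AlgebraicCycle P' ℤ →+ AlgebraicCycle P ℤ :=
    AddMonoidHom.ofMapSub (AlgebraicCycle.map f' δP' δP) fun a b => CycLib.map_sub' f' δP' δP a b
  show Cyc.RatEquivZero δP (k - 1) _
  convert h2 using 1
  show _ = M _
  rw [map_sum, relSum]
  refine Finset.sum_congr rfl fun i _ => ?_
  rw [map_zsmul, hP.cl_eq]
  congr 1
  refine Eq.trans ?_ (map_capIter f' hP.invertible hPs.2.2 hPs'.2.2 t ht hδ' (β i) i).symm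
  refine congrArg (fun b => capIter hP.invertible hPs.2.2 b t ht (i : ℕ)) (Function.locallyFinsuppWithin.ext fun z => ?_)
  exact congrFun (FlatShift.map_pullFun_baseChange hsq.flip (hP.hasShift hPs.2.2 hπ) hPs.2.2 hf hδ'
    (γ (Fin.rev i)) (β i) rfl) z

include hsq hP hX hY hPs' hπ hπ' in
theorem relSum_pull [IsLocallyNoetherian X] [IsLocallyNoetherian P'] [Flat f] [LocallyOfFiniteType f] {c : ℕ}
    (hc : Cyc.HasRelDim f c) (hf : Cyc.DeltaCompat f δX δY) (hPs : Cyc.IsSetup P δP) {k : ℤ}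
    {α : AlgebraicCycle Y ℤ} {γ : Fin (n + 2) → AlgebraicCycle Y ℤ}
    (hγ : Cyc.IsChernCap π δY δP O1 (n + 1) k α γ) {β : Fin (n + 2) → AlgebraicCycle X ℤ}
    (hβ : ∀ j, ⇑(β j) = Cyc.pullFun f δX δY c ⇑(γ j)) :
    relSum (hP.baseChange hsq) hPs'.2.2 hπ' β ∈ ratZero hPs'.2.2 (k + c - 1) := by
  haveI := hY.1
  haveI := hPs.1
  haveI : Flat f' := MorphismProperty.of_isPullback (P := @Flat) hsq.flip inferInstance
  haveI : LocallyOfFiniteType f' := MorphismProperty.of_isPullback (P := @LocallyOfFiniteType) hsq.flip inferInstance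
  have hP' := hP.baseChange hsq
  haveI := hP'.flat
  haveI := hP.flat
  have hd := hPs.2.2
  have hd' := hPs'.2.2
  have hδ' := deltaCompat_top hsq hπ hπ' hf
  have hc' := FlatShift.hasShift_of_hasRelDim f' (FibDim.hasRelDim_baseChange hsq.flip hc) hδ'
  have hcf := FlatShift.hasShift_of_hasRelDim f hc hf
  let t : ℕ → (ξ : P) → Cyc.secFibre O1 ξ := fun _ => hP.sec 0
  have ht : ∀ i ξ, t i ξ ≠ 0 := fun _ => hP.sec_ne_zero 0
  let B : AlgebraicCycle P ℤ :=
    ∑ i : Fin (n + 2), (-1 : ℤ) ^ (i : ℕ) • capIter hP.invertible hd (hP.pullCycle hd hπ (γ (Fin.rev i))) t ht i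
  have hB : Cyc.RatEquivZero δP (k - 1) B := mem_relSum_sections hd hP.invertible hγ t ht _ fun _ => rfl
  let t' := tPull f' t
  let ht' := tPull_ne_zero f' hP.invertible t ht
  let B' : AlgebraicCycle P' ℤ := ∑ i : Fin (n + 2), (-1 : ℤ) ^ (i : ℕ) •
    capIter hP'.invertible hd' (hP'.pullCycle hd' hπ' (β (Fin.rev i))) t' ht' i
  have hcoe : ∀ i : Fin (n + 2), ⇑(capIter hP'.invertible hd' (hP'.pullCycle hd' hπ' (β (Fin.rev i))) t' ht' i) =
      Cyc.pullFun f' δP' δP c ⇑(capIter hP.invertible hd (hP.pullCycle hd hπ (γ (Fin.rev i))) t ht i) := fun i => by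
    refine pullFun_capIter f' hP.invertible hd hd' t ht hc' (hP.pullCycle hd hπ (γ (Fin.rev i))) _ ?_ i
    show Cyc.pullFun π' δP' δX n ⇑(β (Fin.rev i)) = Cyc.pullFun f' δP' δP c (Cyc.pullFun π δP δY n ⇑(γ (Fin.rev i)))
    rw [hβ, FlatShift.pullFun_comp_of_le π' f δP' δX δY (fun x => (hP'.hasShift hd' hπ').le hd' x)
      (fun x => FlatShift.le_of_hasRelDim f hc hf x),
      FlatShift.pullFun_comp_of_le f' π δP' δP δY (fun x => hc'.le hd' x) (fun x => (hP.hasShift hd hπ).le hd x),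
      add_comm (n : ℤ)]
    simp only [hsq.w]
  have hB' : ⇑B' = Cyc.pullFun f' δP' δP c ⇑B := by
    funext z
    simp only [B', B, Function.locallyFinsuppWithin.coe_sum, Finset.sum_apply, Cyc.pullFun,
      Function.locallyFinsuppWithin.coe_zsmul, Pi.smul_apply, smul_eq_mul, hcoe]
    split_ifs
    · rw [Finset.sum_mul]
      exact Finset.sum_congr rfl fun i _ => by ring
    · simp
  have h1 := DivPull.ratEquivZero_pull f' hc' hd hd' hB B' hB'
  rw [show k - 1 + (c : ℤ) = k + c - 1 by ring] at h1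
  -- change of sections
  have h2 : relSum (hP.baseChange hsq) hd' hπ' β - B' ∈ ratZero hd' (k + c - 1) := by
    rw [relSum, ← Finset.sum_sub_distrib]
    refine (ratZero hd' _).sum_mem fun i _ => ?_
    rw [← smul_sub]
    refine (ratZero hd' _).zsmul_mem ?_ _
    rw [HasCoords.cl_eq]
    have hβk : β (Fin.rev i) ∈ Cyc.Zk X δX (k - ((Fin.rev i : Fin (n + 2)) : ℕ) + c) := fun x hx => by
      rw [hβ, C1Pull.pullFun_eq hcf hX.2.2]
      split_ifs with hm
      · rw [hγ.2.1 (Fin.rev i) (f x) fun e => hx (by rw [hcf.eq_of_fibMax hm, e]), zero_mul]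
      · rfl
    have h := ratEquiv_capIter hP'.invertible hd' (hP'.pullCycle_mem_Zk hd' hπ' hβk)
      (β' := hP'.pullCycle hd' hπ' (β (Fin.rev i)))
      (RatOn.ratEquiv (T := Set.univ) (RatOn.congr (RatOn.zero _) fun x => sub_self _))
      (fun _ => hP'.sec 0) t' (fun _ => hP'.sec_ne_zero 0) ht' i
    rw [show k - ((Fin.rev i : Fin (n + 2)) : ℕ) + (c : ℤ) + n - (i : ℕ) = k + c - 1 by
      rw [Fin.val_rev]; have := i.2; omega] at h
    exact h
  have h3 := (ratZero hd' (k + c - 1)).add_mem h2 (show B' ∈ ratZero hd' (k + c - 1) from h1)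
  rwa [sub_add_cancel] at h3

end Groth.Agent.H23.Chern

end
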