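import Groth.Agent.H23.PicMul
import Groth.Agent.H23.Chern.Funct
import Groth.Agent.H23.ProjBd.Span
import Groth.Agent.H23.SecIso
import Groth.Agent.H23.ProjBd.Proper
import Groth.Agent.H23.ProjBd.BcBundle
import Groth.Agent.H23.SetupLFT
import Groth.Agent.H28.PBMake

/-! Existence of Chern class caps, and their independence of the projective bundle. -/

set_option autoImplicit false
set_option backward.isDefEq.respectTransparency false
set_option backward.isDefEq.respectTransparency.types false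

universe u

open CategoryTheory CategoryTheory.Limits AlgebraicGeometry TopologicalSpace Opposite

noncomputable section

namespace Groth.Agent.H23.Chern

open Groth.Agent Groth.Agent.H23.ProjBd RatSec

section

variable {X P : Scheme.{u}} {p : P ⟶ X} {O1 : P.Modules} {n : ℕ} {δP : P → ℤ} {δ : X → ℤ}
  (hP : HasCoords p O1 n) [IsProper p] [IsLocallyNoetherian X] [IsLocallyNoetherian P]
  (hd : Cyc.IsDimFun P δP) (hδ : Cyc.DeltaCompat p δP δ)

/-- The relation for one choice of sections gives it for all. -/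
theorem isChernCap_of_relSum {k : ℤ} {α : AlgebraicCycle X ℤ} {γ : Fin (n + 2) → AlgebraicCycle X ℤ} (h0 : γ 0 = α)
    (hγ : ∀ j : Fin (n + 2), γ j ∈ Cyc.Zk X δ (k - ((j : ℕ) : ℤ)))
    (h : relSum hP hd hδ γ ∈ ratZero hd (k - 1)) : Cyc.IsChernCap p δ δP O1 (n + 1) k α γ := by
  refine ⟨h0, hγ, fun t ht β hβ => ?_⟩
  let B : AlgebraicCycle P ℤ := ∑ i : Fin (n + 2),
    (-1 : ℤ) ^ (i : ℕ) • capIter hP.invertible hd (hP.pullCycle hd hδ (γ (Fin.rev i))) t ht i
  have hB : β = B := Function.locallyFinsuppWithin.ext fun y => by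
    rw [hβ y]
    simp only [B, Function.locallyFinsuppWithin.coe_sum, Finset.sum_apply]
    refine Finset.sum_congr rfl fun i _ => ?_
    have e : ((n + 1 : ℕ) : ℤ) - 1 = (n : ℤ) := by push_cast; ring
    rw [Function.locallyFinsuppWithin.coe_zsmul, Pi.smul_apply, smul_eq_mul, e,
      ← c1PowFun_eq hP.invertible hd (hP.pullCycle hd hδ (γ (Fin.rev i))) t ht]
    rfl
  have hdiff : B - relSum hP hd hδ γ ∈ ratZero hd (k - 1) := by
    rw [relSum, ← Finset.sum_sub_distrib]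
    refine (ratZero hd _).sum_mem fun i _ => ?_
    rw [← smul_sub, HasCoords.cl_eq]
    refine (ratZero hd _).zsmul_mem ?_ _
    have h1 := ratEquiv_capIter hP.invertible hd (hP.pullCycle_mem_Zk hd hδ (hγ (Fin.rev i)))
      (β' := hP.pullCycle hd hδ (γ (Fin.rev i)))
      (RatOn.ratEquiv (T := Set.univ) (RatOn.congr (RatOn.zero _) fun x => sub_self _))
      t (fun _ => hP.sec 0) ht (fun _ => hP.sec_ne_zero 0) i
    rw [show k - ((Fin.rev i : Fin (n + 2)) : ℕ) + (n : ℤ) - (i : ℕ) = k - 1 by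
      rw [Fin.val_rev]; have := i.2; omega] at h1
    exact h1
  rw [hB]
  have := (ratZero hd (k - 1)).add_mem hdiff h
  rwa [sub_add_cancel] at this

include hP hd hδ in
/-- Chern class caps exist. -/
theorem exists_chernCap (hdX : Cyc.IsDimFun X δ) {k : ℤ} {α : AlgebraicCycle X ℤ} (hα : α ∈ Cyc.Zk X δ k) :
    ∃ γ : Fin (n + 2) → AlgebraicCycle X ℤ, Cyc.IsChernCap p δ δP O1 (n + 1) k α γ := by
  have hβ : hP.cl hd hδ (n + 1) α ∈ Cyc.Zk P δP (k - (n + 1 : ℕ) + n) := by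
    have := hP.cl_mem_Zk hd hδ hα (n + 1)
    rwa [show k - ((n + 1 : ℕ) : ℤ) + n = k + n - ((n + 1 : ℕ) : ℤ) by ring]
  obtain ⟨a, ha, he⟩ := hP.span hd hdX hδ (k := k - (n + 1 : ℕ)) (n + 1) le_rfl _ hβ fun x hx => by
    have h1 := CycLib.le_of_deltaCompat p hδ x
    have h2 : δP x = k - (n + 1 : ℕ) + n := by_contra fun h => hx (hβ x h)
    omega
  let γ' : Fin (n + 2) → AlgebraicCycle X ℤ :=
    Fin.lastCases α fun i : Fin (n + 1) => ((-1 : ℤ) ^ n * (-1 : ℤ) ^ (i : ℕ)) • a i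
  refine ⟨fun j => γ' (Fin.rev j), isChernCap_of_relSum hP hd hδ (by simp [γ']) (fun j => ?_) ?_⟩
  · obtain ⟨i, rfl⟩ := Fin.rev_surjective j
    simp only [Fin.rev_rev]
    refine Fin.lastCases (motive := fun i => γ' i ∈ Cyc.Zk X δ (k - ((Fin.rev i : Fin (n + 2)) : ℕ))) ?_ (fun i => ?_) i
    · simpa [γ'] using hα
    · intro x hx
      simp only [γ', Fin.lastCases_castSucc, Function.locallyFinsuppWithin.coe_zsmul, Pi.smul_apply]
      rw [ha i x (by rw [Fin.val_rev, Fin.val_castSucc] at hx; have := i.2; omega), smul_zero]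
  · have e : relSum hP hd hδ (fun j => γ' (Fin.rev j)) =
        (-1 : ℤ) ^ (n + 1) • (hP.cl hd hδ (n + 1) α - ∑ i : Fin (n + 1), hP.cl hd hδ i (a i)) := by
      rw [relSum, Fin.sum_univ_castSucc, smul_sub, Finset.smul_sum, sub_eq_add_neg, ← Finset.sum_neg_distrib, add_comm]
      simp only [Fin.rev_rev, γ', Fin.lastCases_last, Fin.lastCases_castSucc, Fin.val_last, Fin.val_castSucc]
      congr 1
      refine Finset.sum_congr rfl fun i _ => ?_
      rw [map_zsmul, smul_smul, ← neg_smul]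
      congr 1
      rw [← mul_assoc, mul_comm ((-1 : ℤ) ^ (i : ℕ)), mul_assoc, ← mul_pow, neg_mul_neg, one_mul, one_pow, pow_succ]
      ring
    rw [e]
    refine (ratZero hd _).zsmul_mem ?_ _
    rw [show k - ((n + 1 : ℕ) : ℤ) + (n : ℤ) = k - 1 by push_cast; ring] at he
    exact he

end

variable {X P : Scheme.{u}} {p : P ⟶ X} {O1 : P.Modules} {δ : X → ℤ} {δP : P → ℤ}

theorem isChernCap_zero {E : X.Modules} {q : (Scheme.Modules.pullback p).obj E ⟶ O1}
    (hP : KRR.IsProjBundle p E O1 q) (hE : FlatMod.IsFinLocFreeOfRank 0 E) [IsLocallyNoetherian P]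
    (hd : Cyc.IsDimFun P δP) {k : ℤ} {α : AlgebraicCycle X ℤ} (hα : α ∈ Cyc.Zk X δ k)
    (γ : Fin 1 → AlgebraicCycle X ℤ) (h0 : γ 0 = α) : Cyc.IsChernCap p δ δP O1 0 k α γ := by
  haveI := isEmpty_of_projBundle_zero hP hE
  refine ⟨h0, fun j => ?_, fun t ht β _ => ?_⟩
  · obtain rfl : j = 0 := Fin.fin_one_eq_zero j
    simpa [h0] using hα
  · rw [show β = 0 from Function.locallyFinsuppWithin.ext fun y => isEmptyElim y]
    exact (ratZero hd (k - 1)).zero_mem

/-- Chern class caps only depend on `O(1)` up to isomorphism. -/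
theorem isChernCap_iso [IsLocallyNoetherian X] [IsLocallyNoetherian P] [IsProper p] {O1' : P.Modules} {n : ℕ}
    (hP : HasCoords p O1 n) (hd : Cyc.IsDimFun P δP) (i : O1 ≅ O1') {k : ℤ}
    {α : AlgebraicCycle X ℤ} {γ : Fin (n + 2) → AlgebraicCycle X ℤ}
    (h : Cyc.IsChernCap p δ δP O1 (n + 1) k α γ) : Cyc.IsChernCap p δ δP O1' (n + 1) k α γ := by
  have hL := hP.invertible
  have hL' : PicF.IsInvertible O1' := PicMul.isInvertible_of_iso i hL
  refine ⟨h.1, h.2.1, fun t ht β hβ => h.2.2 (fun m ξ => mapSec i.symm ξ (t m ξ))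
    (fun m => mapSec_ne_zero i.symm (ht m)) β fun y => ?_⟩
  rw [hβ y]
  refine Finset.sum_congr rfl fun j _ => ?_
  congr 1
  refine congrFun ?_ y
  generalize Cyc.pullFun p δP δ _ _ = F
  induction (j : ℕ) with
  | zero => rfl
  | succ m ih =>
    show Cyc.c1CapFun δP O1' (Cyc.c1PowFun δP O1' t m F) (t m) = Cyc.c1CapFun δP O1 (Cyc.c1PowFun δP O1 _ m F) _
    rw [ih, c1CapFun_mapSec i.symm hL' hL hd _ (ht m)]

variable {Y Q : Scheme.{u}} {f : X ⟶ Y} {πQ : Q ⟶ Y} {δY : Y → ℤ} {δQ : Q → ℤ} {F : Y.Modules} {E : X.Modules}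
  {Oq : Q.Modules} {n : ℕ} {qQ : (Scheme.Modules.pullback πQ).obj F ⟶ Oq}
  {q : (Scheme.Modules.pullback p).obj E ⟶ O1}
  (hQ : KRR.IsProjBundle πQ F Oq qQ) (hF : FlatMod.IsFinLocFreeOfRank (n + 1) F)
  (hP : KRR.IsProjBundle p E O1 q) (hE : FlatMod.IsFinLocFreeOfRank (n + 1) E)
  (hX : Cyc.IsSetup X δ) (hY : Cyc.IsSetup Y δY) (hPs : Cyc.IsSetup P δP) (hQs : Cyc.IsSetup Q δQ)
  (hp : Cyc.DeltaCompat p δP δ) (hπ : Cyc.DeltaCompat πQ δQ δY)
  (e : (Scheme.Modules.pullback f).obj F ≅ E) (hf : Cyc.DeltaCompat f δ δY)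

include hQ hF hP hE hX hY hPs hQs hp hπ e hf in
theorem isChernCap_map [IsProper f] {k : ℤ} {α : AlgebraicCycle X ℤ} {γ : Fin (n + 2) → AlgebraicCycle X ℤ}
    (hγ : Cyc.IsChernCap p δ δP O1 (n + 1) k α γ) :
    Cyc.IsChernCap πQ δY δQ Oq (n + 1) k (AlgebraicCycle.map f δ δY α)
      (fun j => AlgebraicCycle.map f δ δY (γ j)) := by
  haveI := hY.1
  haveI := hQs.1
  haveI := hX.1
  haveI := hPs.1
  haveI := isProper_of_projBundle hQ hF
  haveI := isProper_of_projBundle hP hE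
  have hc := hasCoords_of_projBundle hQ hF
  obtain ⟨f', hsq, ⟨i⟩⟩ := exists_square hQ hP e
  refine isChernCap_of_relSum hc hQs.2.2 hπ (by show _ = _; rw [hγ.1])
    (fun j => Bivar.cycMap_mem_Zk f δ δY _ (hγ.2.1 j)) ?_
  exact relSum_map hsq hc hX hPs hπ hp hf hQs (isChernCap_iso (hasCoords_of_projBundle hP hE) hPs.2.2 i.symm hγ)

include hQ hF hP hE hX hY hPs hQs hp hπ e hf in
theorem isChernCap_pull [Flat f] [LocallyOfFiniteType f] {c : ℕ} (hc' : Cyc.HasRelDim f c) {k : ℤ}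
    {α : AlgebraicCycle Y ℤ} {γ : Fin (n + 2) → AlgebraicCycle Y ℤ}
    (hγ : Cyc.IsChernCap πQ δY δQ Oq (n + 1) k α γ) {β : Fin (n + 2) → AlgebraicCycle X ℤ}
    (hβ : ∀ j, ⇑(β j) = Cyc.pullFun f δ δY c ⇑(γ j)) :
    Cyc.IsChernCap p δ δP O1 (n + 1) (k + c) (β 0) β := by
  haveI := hY.1
  haveI := hQs.1
  haveI := hX.1
  haveI := hPs.1
  haveI := isProper_of_projBundle hQ hF
  haveI := isProper_of_projBundle hP hE
  obtain ⟨f', hsq, ⟨i⟩⟩ := exists_square hQ hP e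
  have hQc := hasCoords_of_projBundle hQ hF
  refine isChernCap_iso (hQc.baseChange hsq) hPs.2.2 i
    (isChernCap_of_relSum (hQc.baseChange hsq) hPs.2.2 hp rfl (fun j x hx => ?_)
      (relSum_pull hsq hQc hX hY hPs hπ hp hc' hf hQs hγ hβ))
  have hcf := FlatShift.hasShift_of_hasRelDim f hc' hf
  rw [hβ, C1Pull.pullFun_eq hcf hX.2.2]
  split_ifs with hm
  · rw [hγ.2.1 j (f x) fun e => hx (by rw [hcf.eq_of_fibMax hm, e]; ring), zero_mul]
  · rfl

end Groth.Agent.H23.Chern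

end
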