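import Groth.Agent.H23.Chern.Det
import Groth.Agent.H23.FlatClass
import Mathlib.Algebra.Ring.Subring.Basic
import Mathlib.Algebra.Polynomial.Coeff

/-! Chern classes as commuting endomorphisms of the total Chow group. -/

set_option autoImplicit false
set_option backward.isDefEq.respectTransparency false
set_option backward.isDefEq.respectTransparency.types false

universe u

open CategoryTheory CategoryTheory.Limits AlgebraicGeometry TopologicalSpace Opposite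

noncomputable section

namespace Groth.Agent.H23.Chern

open Groth.Agent Groth.Agent.H23.ProjBd RatSec ChowDesc

variable {X Y : Scheme.{u}} {δ : X → ℤ} {δY : Y → ℤ}

/-- The total Chow group. -/
abbrev ChT (X : Scheme.{u}) (δ : X → ℤ) : Type u := ∀ k : ℤ, ChowOps.CH X δ k

/-- A class in one degree. -/
def em (k : ℤ) : ChowOps.CH X δ k →+ ChT X δ := AddMonoidHom.single (fun k => ChowOps.CH X δ k) k

theorem em_self (k : ℤ) (x : ChowOps.CH X δ k) : em k x k = x := by simp [em]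

open Classical in
/-- The class of a cycle in one degree. -/
def emc (δ : X → ℤ) (k : ℤ) (a : AlgebraicCycle X ℤ) : ChT X δ :=
  if h : a ∈ Cyc.Zk X δ k then em k (ChowOps.cl a h) else 0

theorem emc_eq {k : ℤ} {a : AlgebraicCycle X ℤ} (ha : a ∈ Cyc.Zk X δ k) : emc δ k a = em k (ChowOps.cl a ha) := by
  classical
  rw [emc, dif_pos ha]

theorem emc_congr {k : ℤ} {a b : AlgebraicCycle X ℤ} (ha : a ∈ Cyc.Zk X δ k) (hb : b ∈ Cyc.Zk X δ k)
    (h : Cyc.RatEquiv δ k a b) : emc δ k a = emc δ k b := by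
  rw [emc_eq ha, emc_eq hb, cl_eq_of_ratEquiv ha hb h]

theorem ratEquiv_of_emc (hX : Cyc.IsSetup X δ) {k : ℤ} {a b : AlgebraicCycle X ℤ} (ha : a ∈ Cyc.Zk X δ k)
    (hb : b ∈ Cyc.Zk X δ k) (h : emc δ k a = emc δ k b) : Cyc.RatEquiv δ k a b := by
  haveI := hX.1
  rw [emc_eq ha, emc_eq hb] at h
  have h' := congrFun h k
  rw [em_self, em_self] at h'
  exact ClEq.ratEquiv_of_cl_eq hX.2.2 h'

theorem emc_zero (k : ℤ) : emc δ k 0 = 0 := by
  have h : (0 : AlgebraicCycle X ℤ) ∈ Cyc.Zk X δ k := (ChowOps.zk X δ k).zero_mem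
  rw [emc_eq h, Bivar.cl_zero, map_zero]

theorem emc_add {k : ℤ} {a b : AlgebraicCycle X ℤ} (ha : a ∈ Cyc.Zk X δ k) (hb : b ∈ Cyc.Zk X δ k) :
    emc δ k (a + b) = emc δ k a + emc δ k b := by
  rw [emc_eq ha, emc_eq hb, emc_eq ((ChowOps.zk X δ k).add_mem ha hb), ← map_add, ← Bivar.cl_add _ _ ha hb]

theorem emc_sum {k : ℤ} {ι : Type*} (s : Finset ι) (a : ι → AlgebraicCycle X ℤ)
    (ha : ∀ i ∈ s, a i ∈ Cyc.Zk X δ k) : emc δ k (∑ i ∈ s, a i) = ∑ i ∈ s, emc δ k (a i) := by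
  classical
  induction s using Finset.induction_on with
  | empty => simp [emc_zero]
  | insert i s hi ih =>
    rw [Finset.sum_insert hi, Finset.sum_insert hi, emc_add (ha i (Finset.mem_insert_self _ _))
      ((ChowOps.zk X δ k).sum_mem fun l hl => ha l (Finset.mem_insert_of_mem hl)),
      ih fun l hl => ha l (Finset.mem_insert_of_mem hl)]

theorem emc_zsmul {k : ℤ} (m : ℤ) {a : AlgebraicCycle X ℤ} (ha : a ∈ Cyc.Zk X δ k) :
    emc δ k (m • a) = m • emc δ k a := by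
  rw [emc_eq ha, emc_eq ((ChowOps.zk X δ k).zsmul_mem ha m), ← map_zsmul]
  exact congrArg (em k) (map_zsmul (ChowOps.clHom X δ k) m ⟨a, ha⟩)

/-- A graded map assembled from its components. -/
def sh (e : ℤ) (f : ∀ k, ChowOps.CH X δ k →+ ChowOps.CH Y δY (k - e)) : ChT X δ →+ ChT Y δY :=
  AddMonoidHom.mk' (fun g l => Bivar.chCast Y δY (add_sub_cancel_right l e) (f (l + e) (g (l + e)))) fun g g' => by
    funext l
    show Bivar.chCast Y δY _ (f (l + e) ((g + g') (l + e))) = _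
    rw [Pi.add_apply, map_add, map_add]
    rfl

/-- Being homogeneous of some degree. -/
def Loc (e : ℤ) (A : ChT X δ →+ ChT Y δY) : Prop := ∀ g g' l, g (l + e) = g' (l + e) → A g l = A g' l

theorem sh_loc (e : ℤ) (f : ∀ k, ChowOps.CH X δ k →+ ChowOps.CH Y δY (k - e)) : Loc e (sh e f) := fun g g' l h => by
  show Bivar.chCast Y δY _ _ = Bivar.chCast Y δY _ _
  rw [h]

theorem sh_emc {e : ℤ} {f : ∀ k, ChowOps.CH X δ k →+ ChowOps.CH Y δY (k - e)} {k : ℤ} {a : AlgebraicCycle X ℤ}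
    (ha : a ∈ Cyc.Zk X δ k) {b : AlgebraicCycle Y ℤ} (hb : b ∈ Cyc.Zk Y δY (k - e))
    (h : f k (ChowOps.cl a ha) = ChowOps.cl b hb) : sh e f (emc δ k a) = emc δY (k - e) b := by
  rw [emc_eq ha, emc_eq hb, ← h]
  generalize ChowOps.cl a ha = x
  funext l
  show Bivar.chCast Y δY _ (f (l + e) (em k x (l + e))) = _
  by_cases hl : l = k - e
  · subst hl
    have key : ∀ (m : ℤ) (hm : m = k) (hm' : m - e = k - e),
        Bivar.chCast Y δY hm' (f m (em k x m)) = em (k - e) (f k x) (k - e) := by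
      rintro m rfl hm'
      rw [em_self, em_self]
      rfl
    exact key _ (sub_add_cancel k e) _
  · simp [em, Pi.single_eq_of_ne hl, Pi.single_eq_of_ne (show l + e ≠ k by omega)]

theorem Loc.add {e : ℤ} {A B : ChT X δ →+ ChT Y δY} (hA : Loc e A) (hB : Loc e B) : Loc e (A + B) :=
  fun g g' l h => by show A g l + B g l = A g' l + B g' l; rw [hA g g' l h, hB g g' l h]

theorem Loc.zero {e : ℤ} : Loc e (0 : ChT X δ →+ ChT Y δY) := fun _ _ _ _ => rfl

theorem Loc.sum {e : ℤ} {ι : Type*} (s : Finset ι) {A : ι → ChT X δ →+ ChT Y δY} (hA : ∀ i ∈ s, Loc e (A i)) :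
    Loc e (∑ i ∈ s, A i) := by
  classical
  induction s using Finset.induction_on with
  | empty => simpa using Loc.zero
  | insert i s hi ih =>
    rw [Finset.sum_insert hi]
    exact (hA i (Finset.mem_insert_self _ _)).add (ih fun l hl => hA l (Finset.mem_insert_of_mem hl))

theorem Loc.comp {Z : Scheme.{u}} {δZ : Z → ℤ} {e e' : ℤ} {A : ChT Y δY →+ ChT Z δZ} {B : ChT X δ →+ ChT Y δY}
    (hA : Loc e A) (hB : Loc e' B) : Loc (e + e') (A.comp B) := fun g g' l h =>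
  hA (B g) (B g') l (hB g g' (l + e) (by rwa [add_assoc]))

theorem Loc.of_eq {e e' : ℤ} {A : ChT X δ →+ ChT Y δY} (h : Loc e A) (he : e = e') : Loc e' A := he ▸ h

theorem Loc.one : Loc 0 (1 : AddMonoid.End (ChT X δ)) := fun g g' l h => by
  show g l = g' l
  have key : ∀ m, l = m → g m = g' m → g l = g' l := by rintro m rfl h'; exact h'
  exact key _ (add_zero l).symm h

/-- Homogeneous maps agree when they agree on cycles. -/
theorem Loc.ext {e : ℤ} {A B : ChT X δ →+ ChT Y δY} (hA : Loc e A) (hB : Loc e B)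
    (h : ∀ k a, a ∈ Cyc.Zk X δ k → A (emc δ k a) = B (emc δ k a)) : A = B := by
  refine AddMonoidHom.ext fun g => funext fun l => ?_
  obtain ⟨a, ha, he⟩ := Bivar.exists_rep (g (l + e))
  have hg : g (l + e) = emc δ (l + e) a (l + e) := by rw [emc_eq ha, em_self]; exact he.symm
  rw [hA g _ l hg, hB g _ l hg, h _ a ha]

variable {E E₁ E₂ : X.Modules}

/-- A Chern class on one Chow group, in every rank. -/
def chR (hX : Cyc.IsSetup X δ) : ∀ (r : ℕ) (_ : FlatMod.IsFinLocFreeOfRank r E) (j : ℕ) (k : ℤ),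
    ChowOps.CH X δ k →+ ChowOps.CH X δ (k - (j : ℤ))
  | 0, _, j, k => if h : j = 0 then (Bivar.chCast X δ (show k = k - (j : ℤ) by simp [h])).toAddMonoidHom else 0
  | n + 1, hE, j, k => if h : j < n + 2 then chCH hX hE ⟨j, h⟩ k else 0

variable (hX : Cyc.IsSetup X δ) {r r₁ r₂ : ℕ} (hE : FlatMod.IsFinLocFreeOfRank r E)
  (hE₁ : FlatMod.IsFinLocFreeOfRank r₁ E₁) (hE₂ : FlatMod.IsFinLocFreeOfRank r₂ E₂)

theorem chR_cl {k : ℤ} {α : AlgebraicCycle X ℤ} (hα : α ∈ Cyc.Zk X δ k) {γ : Fin (r + 1) → AlgebraicCycle X ℤ}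
    (hγ : IsC δ E r k α γ) (j : Fin (r + 1)) :
    chR hX r hE j k (ChowOps.cl α hα) = ChowOps.cl (γ j) (hγ.mem hX hE j) := by
  cases r with
  | zero =>
    obtain rfl : j = 0 := Fin.fin_one_eq_zero j
    show (dite _ _ _ : ChowOps.CH X δ k →+ _) (ChowOps.cl α hα) = _
    rw [dif_pos (show ((0 : Fin (0 + 1)) : ℕ) = 0 from rfl)]
    show Bivar.chCast X δ _ (ChowOps.cl α hα) = _
    rw [Bivar.chCast_cl]
    exact Bivar.cl_congr hγ.1.symm _ _
  | succ n =>
    show (dite _ _ _ : ChowOps.CH X δ k →+ _) (ChowOps.cl α hα) = _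
    rw [dif_pos j.2]
    exact chCH_cl hX hE j k hα hγ _

/-- A Chern class on the total Chow group. -/
def cOp (hX : Cyc.IsSetup X δ) (hE : FlatMod.IsFinLocFreeOfRank r E) (j : ℕ) : AddMonoid.End (ChT X δ) :=
  sh (j : ℤ) (chR hX r hE j)

theorem cOp_loc (j : ℕ) : Loc (j : ℤ) (cOp hX hE j : ChT X δ →+ ChT X δ) := sh_loc _ _

theorem cOp_emc {k : ℤ} {α : AlgebraicCycle X ℤ} (hα : α ∈ Cyc.Zk X δ k) {γ : Fin (r + 1) → AlgebraicCycle X ℤ}
    (hγ : IsC δ E r k α γ) (j : Fin (r + 1)) :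
    cOp hX hE j (emc δ k α) = emc δ (k - ((j : ℕ) : ℤ)) (γ j) :=
  sh_emc hα (hγ.mem hX hE j) (chR_cl hX hE hα hγ j)

theorem cOp_of_gt {j : ℕ} (hj : r < j) : cOp hX hE j = 0 := by
  refine AddMonoidHom.ext fun g => funext fun l => ?_
  show Bivar.chCast X δ _ (chR hX r hE j (l + j) (g (l + j))) = 0
  cases r with
  | zero => simp [chR, show j ≠ 0 by omega]
  | succ n => simp [chR, show ¬ j < n + 2 by omega]

theorem cOp_zero : cOp hX hE 0 = 1 := by
  refine Loc.ext ((cOp_loc hX hE 0).of_eq (Nat.cast_zero : ((0 : ℕ) : ℤ) = 0)) Loc.one fun k a ha => ?_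
  obtain ⟨γ, hγ⟩ := exists_isC hX hE ha
  show cOp hX hE ((0 : Fin (r + 1)) : ℕ) (emc δ k a) = emc δ k a
  rw [cOp_emc hX hE ha hγ, hγ.zero hX hE]
  simp

include hX in
theorem IsC.congr {F : X.Modules} (hE : FlatMod.IsFinLocFreeOfRank r E) (hF : FlatMod.IsFinLocFreeOfRank r F)
    (e : E ≅ F) {k : ℤ} {α : AlgebraicCycle X ℤ} {γ : Fin (r + 1) → AlgebraicCycle X ℤ} (h : IsC δ E r k α γ) :
    IsC δ F r k α γ := by
  cases r with
  | zero => exact h
  | succ n =>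
    intro B'
    obtain ⟨B⟩ := nonempty_bdl δ hE
    exact isChernCap_congr hX hE hF B B' e (h B)

theorem cOp_iso {F : X.Modules} (hF : FlatMod.IsFinLocFreeOfRank r F) (e : E ≅ F) (j : ℕ) :
    cOp hX hF j = cOp hX hE j := by
  by_cases hj : r < j
  · rw [cOp_of_gt hX hF hj, cOp_of_gt hX hE hj]
  refine Loc.ext (cOp_loc hX hF j) (cOp_loc hX hE j) fun k a ha => ?_
  obtain ⟨γ, hγ⟩ := exists_isC hX hE ha
  show cOp hX hF ((⟨j, by omega⟩ : Fin (r + 1)) : ℕ) _ = cOp hX hE ((⟨j, by omega⟩ : Fin (r + 1)) : ℕ) _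
  rw [cOp_emc hX hE ha hγ, cOp_emc hX hF ha (hγ.congr hX hE hF e)]

/-- The Chern classes of all bundles. -/
def gens (hX : Cyc.IsSetup X δ) : Set (AddMonoid.End (ChT X δ)) :=
  {A | ∃ (r : ℕ) (E : X.Modules) (hE : FlatMod.IsFinLocFreeOfRank r E) (j : ℕ), A = cOp hX hE j}

theorem cOp_comm (i j : ℕ) : cOp hX hE₁ i * cOp hX hE₂ j = cOp hX hE₂ j * cOp hX hE₁ i := by
  by_cases hi : r₁ < i
  · rw [cOp_of_gt hX hE₁ hi, zero_mul, mul_zero]
  by_cases hj : r₂ < j
  · rw [cOp_of_gt hX hE₂ hj, zero_mul, mul_zero]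
  refine Loc.ext ((cOp_loc hX hE₁ i).comp (cOp_loc hX hE₂ j))
    (((cOp_loc hX hE₂ j).comp (cOp_loc hX hE₁ i)).of_eq (add_comm _ _)) fun k a ha => ?_
  obtain ⟨γ, hγ⟩ := exists_isC hX hE₁ ha
  obtain ⟨φ, hφ⟩ := exists_isC hX hE₂ ha
  let i' : Fin (r₁ + 1) := ⟨i, by omega⟩
  let j' : Fin (r₂ + 1) := ⟨j, by omega⟩
  obtain ⟨ε, hε⟩ := exists_isC hX hE₂ (hγ.mem hX hE₁ i')
  obtain ⟨ψ, hψ⟩ := exists_isC hX hE₁ (hφ.mem hX hE₂ j')
  show cOp hX hE₁ i' (cOp hX hE₂ j' (emc δ k a)) = cOp hX hE₂ j' (cOp hX hE₁ i' (emc δ k a))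
  rw [cOp_emc hX hE₂ ha hφ, cOp_emc hX hE₁ ha hγ, cOp_emc hX hE₁ (hφ.mem hX hE₂ j') hψ,
    cOp_emc hX hE₂ (hγ.mem hX hE₁ i') hε, sub_right_comm k ((j' : ℕ) : ℤ)]
  have hm := hψ.mem hX hE₁ i'
  rw [sub_right_comm k ((j' : ℕ) : ℤ)] at hm
  exact (emc_congr (hε.mem hX hE₂ j') hm (IsC.comm hX hE₁ hE₂ ha hγ hε hφ hψ)).symm

/-- The ring generated by the Chern classes. -/
def CR (hX : Cyc.IsSetup X δ) : Subring (AddMonoid.End (ChT X δ)) := Subring.closure (gens hX)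

instance instCommRingCR : CommRing (CR hX) :=
  { (inferInstance : Ring (CR hX)) with
    mul_comm := fun a b => by
      have h : IsMulCommutative (Subring.closure (gens hX)) := Subring.isMulCommutative_closure (by
        rintro x ⟨r, E, hE, i, rfl⟩ y ⟨s, F, hF, j, rfl⟩
        exact cOp_comm hX hE hF i j)
      exact h.is_comm.comm a b }

/-- A Chern class in the ring. -/
def cR (hX : Cyc.IsSetup X δ) (hE : FlatMod.IsFinLocFreeOfRank r E) (j : ℕ) : CR hX :=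
  ⟨cOp hX hE j, Subring.subset_closure ⟨r, E, hE, j, rfl⟩⟩

theorem cR_zero : cR hX hE 0 = 1 := Subtype.ext (cOp_zero hX hE)
theorem cR_of_gt {j : ℕ} (hj : r < j) : cR hX hE j = 0 := Subtype.ext (cOp_of_gt hX hE hj)
theorem cR_iso {F : X.Modules} (hF : FlatMod.IsFinLocFreeOfRank r F) (e : E ≅ F) (j : ℕ) :
    cR hX hF j = cR hX hE j := Subtype.ext (cOp_iso hX hE hF e j)

/-- The first class of an invertible module. -/
def lR (hX : Cyc.IsSetup X δ) {L : X.Modules} (hL : PicF.IsInvertible L) : CR hX :=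
  cR hX (InvEnd.isFinLocFreeOfRank_one hL) 1

theorem lR_emc {L : X.Modules} (hL : PicF.IsInvertible L) {k : ℤ} {a : AlgebraicCycle X ℤ}
    (ha : a ∈ Cyc.Zk X δ k) : (lR hX hL).1 (emc δ k a) = emc δ (k - 1) (c1v hX hL a) := by
  have h := cOp_emc hX (InvEnd.isFinLocFreeOfRank_one hL) ha
    (isC_line hX hL ha (exists_sections hL).choose_spec (coe_c1v hX hL a)) 1
  show (cOp hX (InvEnd.isFinLocFreeOfRank_one hL) 1) (emc δ k a) = _
  simpa using h

theorem lR_tensor {L N : X.Modules} (hL : PicF.IsInvertible L) (hN : PicF.IsInvertible N) :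
    lR hX (InvX.isInvertible_tensorMod hL hN) = lR hX hL + lR hX hN := by
  refine Subtype.ext (Loc.ext (cOp_loc hX _ 1) ((cOp_loc hX _ 1).add (cOp_loc hX _ 1)) fun k a ha => ?_)
  show (lR hX (InvX.isInvertible_tensorMod hL hN)).1 (emc δ k a) =
    (lR hX hL).1 (emc δ k a) + (lR hX hN).1 (emc δ k a)
  rw [lR_emc hX _ ha, lR_emc hX _ ha, lR_emc hX _ ha, ← emc_add (c1v_mem hX hL ha) (c1v_mem hX hN ha)]
  exact emc_congr (c1v_mem hX _ ha) ((ChowOps.zk X δ _).add_mem (c1v_mem hX hL ha) (c1v_mem hX hN ha))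
    (c1v_tensor hX hL hN ha)

theorem whitney_cR {E : X.Modules} {a : E₁ ⟶ E} {b : E ⟶ E₂} {hab : a ≫ b = 0}
    (hex : (ShortComplex.mk a b hab).ShortExact) (hr : r = r₁ + r₂) (hE : FlatMod.IsFinLocFreeOfRank r E) (j : ℕ) :
    cR hX hE j = ∑ i ∈ Finset.range (j + 1), cR hX hE₁ i * cR hX hE₂ (j - i) := by
  subst hr
  rw [sum_conv (fun i m => cR hX hE₁ i * cR hX hE₂ m) r₁ r₂ j (fun i m hi => by simp [cR_of_gt hX hE₁ hi])
    (fun i m hm => by simp [cR_of_gt hX hE₂ hm])]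
  refine Subtype.ext ?_
  simp only [AddSubmonoidClass.coe_finsetSum, apply_ite Subtype.val, ZeroMemClass.coe_zero, MulMemClass.coe_mul]
  refine Loc.ext (cOp_loc hX hE j) (Loc.sum _ fun i _ => Loc.sum _ fun m _ => ?_) fun k α hα => ?_
  · split_ifs with h
    · exact ((cOp_loc hX hE₁ i).comp (cOp_loc hX hE₂ m)).of_eq (by rw [← h]; push_cast; rfl)
    · exact Loc.zero
  obtain ⟨γ₂, hγ₂⟩ := exists_isC hX hE₂ hα
  choose ε hε using fun m : Fin (r₂ + 1) => exists_isC hX hE₁ (hγ₂.mem hX hE₂ m)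
  have hmem : ∀ (i : Fin (r₁ + 1)) (m : Fin (r₂ + 1)), (i : ℕ) + (m : ℕ) = j → ε m i ∈ Cyc.Zk X δ (k - (j : ℤ)) :=
    fun i m h => by
      have := (hε m).mem hX hE₁ i
      rwa [show k - ((m : ℕ) : ℤ) - ((i : ℕ) : ℤ) = k - (j : ℤ) by omega] at this
  have hterm : ∀ (i : Fin (r₁ + 1)) (m : Fin (r₂ + 1)),
      (if (i : ℕ) + (m : ℕ) = j then cOp hX hE₁ i * cOp hX hE₂ m else 0 : AddMonoid.End (ChT X δ)) (emc δ k α) =
        emc δ (k - (j : ℤ)) (if (i : ℕ) + (m : ℕ) = j then ε m i else 0) := fun i m => by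
    split_ifs with h
    · show cOp hX hE₁ i (cOp hX hE₂ m (emc δ k α)) = _
      rw [cOp_emc hX hE₂ hα hγ₂, cOp_emc hX hE₁ (hγ₂.mem hX hE₂ m) (hε m),
        show k - ((m : ℕ) : ℤ) - ((i : ℕ) : ℤ) = k - (j : ℤ) by omega]
    · exact (emc_zero _).symm
  have hsum : (∑ i : Fin (r₁ + 1), ∑ m : Fin (r₂ + 1),
      (if (i : ℕ) + (m : ℕ) = j then cOp hX hE₁ i * cOp hX hE₂ m else 0) : AddMonoid.End (ChT X δ)) (emc δ k α) =
      emc δ (k - (j : ℤ)) (∑ i : Fin (r₁ + 1), ∑ m : Fin (r₂ + 1), if (i : ℕ) + (m : ℕ) = j then ε m i else 0) := by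
    rw [emc_sum _ _ fun i _ => (ChowOps.zk X δ _).sum_mem fun m _ => ?_, AddMonoidHom.finsetSum_apply]
    · refine Finset.sum_congr rfl fun i _ => ?_
      rw [emc_sum _ _ fun m _ => ?_, AddMonoidHom.finsetSum_apply]
      · exact Finset.sum_congr rfl fun m _ => hterm i m
      · split_ifs with h
        · exact hmem i m h
        · exact (ChowOps.zk X δ _).zero_mem
    · split_ifs with h
      · exact hmem i m h
      · exact (ChowOps.zk X δ _).zero_mem
  refine Eq.trans ?_ hsum.symm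
  obtain ⟨γ, hγ⟩ := exists_isC hX hE hα
  by_cases hj : r₁ + r₂ < j
  · show cOp hX hE j _ = _
    rw [cOp_of_gt hX hE hj, Finset.sum_eq_zero fun i _ => Finset.sum_eq_zero fun m _ => if_neg (by omega), emc_zero]
    rfl
  let j' : Fin (r₁ + r₂ + 1) := ⟨j, by omega⟩
  show cOp hX hE j' _ = _
  rw [cOp_emc hX hE hα hγ]
  refine emc_congr (hγ.mem hX hE j') ((ChowOps.zk X δ _).sum_mem fun i _ => (ChowOps.zk X δ _).sum_mem fun m _ => ?_)
    (whitney hX hex hE₁ hE₂ hE hα hγ₂ hε hγ j')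
  split_ifs with h
  · exact hmem i m h
  · exact (ChowOps.zk X δ _).zero_mem

/-- The Chern polynomial. -/
def cP (hX : Cyc.IsSetup X δ) (hE : FlatMod.IsFinLocFreeOfRank r E) : Polynomial (CR hX) :=
  ∑ j ∈ Finset.range (r + 1), Polynomial.monomial j (cR hX hE j)

theorem coeff_cP (j : ℕ) : (cP hX hE).coeff j = cR hX hE j := by
  rw [cP, Polynomial.finset_sum_coeff]
  simp only [Polynomial.coeff_monomial, Finset.sum_ite_eq', Finset.mem_range]
  split_ifs with h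
  · rfl
  · exact (cR_of_gt hX hE (by omega)).symm

theorem cP_iso {F : X.Modules} (hF : FlatMod.IsFinLocFreeOfRank r F) (e : E ≅ F) : cP hX hF = cP hX hE :=
  Polynomial.ext fun j => by rw [coeff_cP, coeff_cP, cR_iso hX hE hF e]

theorem cP_mul {E : X.Modules} {a : E₁ ⟶ E} {b : E ⟶ E₂} {hab : a ≫ b = 0}
    (hex : (ShortComplex.mk a b hab).ShortExact) (hr : r = r₁ + r₂) (hE : FlatMod.IsFinLocFreeOfRank r E) :
    cP hX hE = cP hX hE₁ * cP hX hE₂ := Polynomial.ext fun j => by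
  rw [coeff_cP, Polynomial.coeff_mul, Finset.Nat.sum_antidiagonal_eq_sum_range_succ_mk,
    whitney_cR hX hE₁ hE₂ hex hr hE j]
  exact Finset.sum_congr rfl fun i _ => by rw [coeff_cP, coeff_cP]

theorem cP_line {L : X.Modules} (hL : PicF.IsInvertible L) :
    cP hX (InvEnd.isFinLocFreeOfRank_one hL) = 1 + Polynomial.C (lR hX hL) * Polynomial.X := by
  rw [cP, Finset.sum_range_succ, Finset.sum_range_one, cR_zero, Polynomial.monomial_zero_left, map_one,
    ← Polynomial.C_mul_X_eq_monomial]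
  rfl

theorem cP_zero (h : FlatMod.IsFinLocFreeOfRank 0 E) : cP hX h = 1 := by
  rw [cP, Finset.sum_range_one, cR_zero, Polynomial.monomial_zero_left, map_one]

section Pull

variable {P : Scheme.{u}} {π : P ⟶ X} {d : ℕ} (hT : Tower π d) [LocallyOfFiniteType π]

/-- Pull-back along a tower on the total Chow groups. -/
def plT (hX : Cyc.IsSetup X δ) (hT : Tower π d) : ChT X δ →+ ChT P (fun z => δ (π z) + FibDim.rd π z) :=
  haveI := hT.flat
  haveI := hX.1
  sh (-(d : ℤ)) fun k => FlatClass.pullCH (FlatShift.hasShift_of_hasRelDim π (hT.hasRelDim hX) (deltaCompat_rd π δ)) hX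
    (isSetup_rd π hX) k (k - -(d : ℤ)) (sub_neg_eq_add k _)

theorem plT_emc {k : ℤ} {a : AlgebraicCycle X ℤ} (ha : a ∈ Cyc.Zk X δ k) :
    plT hX hT (emc δ k a) = emc (fun z => δ (π z) + FibDim.rd π z) (k + d) (pullT hT hX a) := by
  haveI := hT.flat
  haveI := hX.1
  have hm := pullT_mem hX hT ha
  rw [← sub_neg_eq_add k (d : ℤ)] at hm ⊢
  exact sh_emc ha hm (FlatClass.pullCH_cl _ hX (isSetup_rd π hX) _ ha (pullT_coe hX hT a) hm)

theorem plT_injective : Function.Injective (plT hX hT) := by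
  haveI := hX.1
  refine (injective_iff_map_eq_zero _).2 fun g hg => funext fun k => ?_
  obtain ⟨a, ha, he⟩ := Bivar.exists_rep (g k)
  have h : plT hX hT (emc δ k a) (k + d) = 0 := by
    have h1 : Loc (-(d : ℤ)) (plT hX hT) := sh_loc _ _
    rw [h1 (emc δ k a) g (k + d) (by rw [add_neg_cancel_right, emc_eq ha, em_self]; exact he), hg]
    rfl
  rw [plT_emc hX hT ha, emc_eq (pullT_mem hX hT ha), em_self] at h
  haveI := (isSetup_rd π hX).1
  have hr : Cyc.RatEquiv δ k a 0 := by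
    refine ratEquiv_of_pullT hX hT ha (ChowOps.zk X δ k).zero_mem (ClEq.ratEquiv_of_cl_eq (isSetup_rd π hX).2.2
      (hβ := by rw [map_zero]; exact (ChowOps.zk P _ _).zero_mem) ?_ (hα := pullT_mem hX hT ha))
    rw [h]
    exact ((Bivar.cl_congr (map_zero (pullT hT hX)) _ (ChowOps.zk P _ _).zero_mem).trans Bivar.cl_zero).symm
  show g k = 0
  rw [← he, cl_eq_of_ratEquiv ha (ChowOps.zk X δ k).zero_mem hr]
  exact Bivar.cl_zero

/-- Pairs of compatible operations. -/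
def Intw (hX : Cyc.IsSetup X δ) (hT : Tower π d) :
    Subring (AddMonoid.End (ChT X δ) × AddMonoid.End (ChT P (fun z => δ (π z) + FibDim.rd π z))) where
  carrier := {p | ∀ g, plT hX hT (p.1 g) = p.2 (plT hX hT g)}
  one_mem' _ := rfl
  mul_mem' {p q} hp hq g := (hp (q.1 g)).trans (congrArg p.2 (hq g))
  zero_mem' _ := map_zero _
  add_mem' {p q} hp hq g := by
    show plT hX hT (p.1 g + q.1 g) = p.2 _ + q.2 _
    rw [map_add, hp g, hq g]
  neg_mem' {p} hp g := by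
    show plT hX hT (-(p.1 g)) = -(p.2 _)
    rw [map_neg, hp g]

theorem cOp_intw (j : ℕ) :
    ((cOp hX hE j, cOp (isSetup_rd π hX) (GrassFlag.rank_pullback π hE) j) :
      AddMonoid.End (ChT X δ) × AddMonoid.End (ChT P (fun z => δ (π z) + FibDim.rd π z))) ∈ Intw hX hT := by
  intro g
  refine congrFun (congrArg DFunLike.coe (a₁ := (plT hX hT).comp (cOp hX hE j))
    (a₂ := (cOp (isSetup_rd π hX) (GrassFlag.rank_pullback π hE) j).comp (plT hX hT)) ?_) g
  refine Loc.ext ((sh_loc (-(d : ℤ)) _).comp (cOp_loc hX hE j))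
    (((cOp_loc (isSetup_rd π hX) _ j).comp (sh_loc (-(d : ℤ)) _)).of_eq (add_comm _ _)) fun k a ha => ?_
  show plT hX hT (cOp hX hE j (emc δ k a)) = cOp (isSetup_rd π hX) _ j (plT hX hT (emc δ k a))
  by_cases hj : r < j
  · rw [cOp_of_gt hX hE hj, cOp_of_gt (isSetup_rd π hX) _ hj]
    exact map_zero _
  obtain ⟨γ, hγ⟩ := exists_isC hX hE ha
  let j' : Fin (r + 1) := ⟨j, by omega⟩
  show plT hX hT (cOp hX hE j' (emc δ k a)) = cOp (isSetup_rd π hX) _ j' (plT hX hT (emc δ k a))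
  rw [cOp_emc hX hE ha hγ, plT_emc hX hT (hγ.mem hX hE j'), plT_emc hX hT ha,
    cOp_emc (isSetup_rd π hX) _ (pullT_mem hX hT ha) (hγ.pullT hX hE hT), sub_add_eq_add_sub]

theorem eq_of_intw {A B : AddMonoid.End (ChT X δ)} {A' B' : AddMonoid.End (ChT P (fun z => δ (π z) + FibDim.rd π z))}
    (hA : ((A, A') : AddMonoid.End (ChT X δ) × _) ∈ Intw hX hT)
    (hB : ((B, B') : AddMonoid.End (ChT X δ) × _) ∈ Intw hX hT) (h : A' = B') : A = B :=
  AddMonoidHom.ext fun g => plT_injective hX hT ((hA g).trans (((congrArg (fun T => T (plT hX hT g)) h)).trans (hB g).symm))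

end Pull

end Groth.Agent.H23.Chern

end
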