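import Groth.Agent.H23.Chern.Comm
import Groth.Agent.Algz7.Canon2.Stalk

/-!
Chern classes of a module with invertible pieces: at each point the images of the pieces exhaust the stalk, and
each piece is, modulo the earlier ones, a quotient of an invertible module.
-/

set_option autoImplicit false
set_option backward.isDefEq.respectTransparency false
set_option backward.isDefEq.respectTransparency.types false

universe u

open CategoryTheory CategoryTheory.Limits AlgebraicGeometry TopologicalSpace Opposite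

noncomputable section

namespace Groth.Agent.H23.Chern

open Groth.Agent Groth.Agent.H23.ProjBd RatSec ChowDesc C1Pull

/-- Invertible pieces of a module. -/
structure Pieces {X : Scheme.{u}} (E : X.Modules) (r : ℕ) where
  M : Fin r → X.Modules
  L : Fin r → X.Modules
  inv : ∀ i, PicF.IsInvertible (L i)
  f : ∀ i, M i ⟶ E
  g : ∀ i, M i ⟶ L i
  surj : ∀ i (y : X), Function.Surjective (Algz.stalkMapₗ (g i) y)
  ker : ∀ i (y : X) (m : (M i).presheaf.stalk y), Algz.stalkMapₗ (g i) y m = 0 →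
    Algz.stalkMapₗ (f i) y m ∈ ⨆ l : {l : Fin r // l < i}, LinearMap.range (Algz.stalkMapₗ (f l) y)
  top : ∀ y : X, (⨆ l : Fin r, LinearMap.range (Algz.stalkMapₗ (f l) y)) = ⊤

variable {X P : Scheme.{u}} {p : P ⟶ X} {E : X.Modules} {O1 : P.Modules}
  (q : (Scheme.Modules.pullback p).obj E ⟶ O1)

theorem stalk_germ {Y : Scheme.{u}} {M N : Y.Modules} (φ : M ⟶ N) {U : Y.Opens} (x : Y) (hx : x ∈ U) (m : Γ(M, U)) :
    Algz.stalkMapₗ φ x (M.presheaf.germ U x hx m) = N.presheaf.germ U x hx (φ.app U m) :=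
  TopCat.Presheaf.stalkFunctor_map_germ_apply U x hx φ.mapPresheaf m

theorem pm_add {Y : Scheme.{u}} (h : P ⟶ Y) (L : Y.Modules) (z : P) (a b : L.presheaf.stalk (h z)) :
    pm h L z (a + b) = pm h L z a + pm h L z b := by
  refine Eq.trans (congrArg ((KFlatLib.stalkPullbackIso h z).inv.app L) ?_)
    (((KFlatLib.stalkPullbackIso h z).inv.app L).hom.map_add _ _)
  exact ((ModuleCat.extendRestrictScalarsAdj (h.stalkMap z).hom).unit.app
    ((DerSch.stalkFunctor Y (h z)).obj L)).hom.map_add a b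

theorem stalkMapₗ_spec {Y : Scheme.{u}} {M N : Y.Modules} (φ : M ⟶ N) {z x : Y} (h : z ⤳ x) (m : M.presheaf.stalk x) :
    Algz.stalkMapₗ φ z (M.presheaf.stalkSpecializes h m) =
      N.presheaf.stalkSpecializes h (Algz.stalkMapₗ φ x m) := by
  obtain ⟨U, hx, s, rfl⟩ := M.presheaf.germ_exist m
  rw [TopCat.Presheaf.germ_stalkSpecializes_apply, stalk_germ, stalk_germ,
    TopCat.Presheaf.germ_stalkSpecializes_apply]

/-- The value in `O(1)` of a stalk element of `E`. -/
def val (z : P) (m : E.presheaf.stalk (p z)) : O1.presheaf.stalk z := Algz.stalkMapₗ q z (pm p E z m)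

theorem val_add (z : P) (m m' : E.presheaf.stalk (p z)) : val q z (m + m') = val q z m + val q z m' := by
  rw [val, pm_add, map_add]
  rfl

theorem val_smul (z : P) (a : X.presheaf.stalk (p z)) (m : E.presheaf.stalk (p z)) :
    val q z (a • m) = (p.stalkMap z).hom a • val q z m := by
  rw [val, pm_smul, map_smul]
  rfl

theorem val_spec {z x : P} (h : z ⤳ x) (m : E.presheaf.stalk (p x)) :
    val q z (E.presheaf.stalkSpecializes (h.map p.continuous) m) = O1.presheaf.stalkSpecializes h (val q x m) := by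
  rw [val, pm_stalkSpecializes, stalkMapₗ_spec]
  rfl

/-- The fibre value. -/
def ev (z : P) : E.presheaf.stalk (p z) →+ Cyc.secFibre O1 z :=
  AddMonoidHom.mk' (fun m => cls O1 z (val q z m)) fun m m' => by rw [val_add]; rfl

theorem ev_smul (z : P) (a : X.presheaf.stalk (p z)) (m : E.presheaf.stalk (p z)) :
    ev q z (a • m) = (p.stalkMap z).hom a • ev q z m := by
  show cls O1 z _ = _
  rw [val_smul]
  rfl

theorem isGen_of_cls_ne_zero (hO : PicF.IsInvertible O1) {z : P} {G : O1.presheaf.stalk z} (h : cls O1 z G ≠ 0) :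
    IsGen G ∧ ∀ (ζ : P) (hs : ζ ⤳ z), IsGen (O1.presheaf.stalkSpecializes hs G) := by
  obtain ⟨t, ht, ht'⟩ := exists_gen hO z
  obtain ⟨φ, hφ⟩ := Submodule.mem_span_singleton.1 (ht.1.ge (Submodule.mem_top : G ∈ ⊤))
  subst hφ
  rw [cls_smul] at h
  have hu : IsUnit φ := (IsLocalRing.residue_ne_zero_iff_isUnit φ).1 ((residue_ne_zero ht).2 h)
  refine ⟨ht.smul_unit hu, fun ζ hs => ?_⟩
  rw [ZeroSec.stalkSpecializes_smul]
  exact (ht' ζ hs).smul_unit (hu.map (P.presheaf.stalkSpecializes hs).hom)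

theorem ev_spec_ne_zero (hO : PicF.IsInvertible O1) {z x : P} (h : z ⤳ x) {m : E.presheaf.stalk (p x)}
    (hm : ev q x m ≠ 0) : ev q z (E.presheaf.stalkSpecializes (h.map p.continuous) m) ≠ 0 := by
  show cls O1 z _ ≠ 0
  rw [val_spec q h, ← one_smul (P.presheaf.stalk z) (cls O1 z _)]
  exact (residue_ne_zero ((isGen_of_cls_ne_zero hO hm).2 z h)).1 (by rw [map_one]; exact one_ne_zero)

variable {r : ℕ} (D : Pieces E r)

/-- Where the first `j` pieces map to zero. -/
def T (j : ℕ) : Set P := {z | ∀ l : Fin r, (l : ℕ) < j → ∀ m, ev q z (Algz.stalkMapₗ (D.f l) (p z) m) = 0}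

variable {q D}

theorem T.mem_of_specializes (hO : PicF.IsInvertible O1) {j : ℕ} {z x : P} (hz : z ∈ T q D j) (h : z ⤳ x) :
    x ∈ T q D j := fun l hl m => by
  by_contra hne
  refine ev_spec_ne_zero q hO h hne ?_
  rw [← stalkMapₗ_spec]
  exact hz l hl _

theorem T.eq_zero {j : ℕ} {z : P} (hz : z ∈ T q D j) {i : Fin r} (hi : (i : ℕ) ≤ j) {e : E.presheaf.stalk (p z)}
    (he : e ∈ ⨆ l : {l : Fin r // l < i}, LinearMap.range (Algz.stalkMapₗ (D.f l) (p z))) : ev q z e = 0 := by
  refine Submodule.iSup_induction (motive := fun e => ev q z e = 0) _ he ?_ (map_zero _)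
    fun a b ha hb => by rw [map_add, ha, hb, add_zero]
  rintro ⟨l, hl⟩ _ ⟨m, rfl⟩
  exact hz l (lt_of_lt_of_le hl hi) m

theorem T.empty (hP : KRR.IsProjBundle p E O1 q) {n : ℕ} (hE : FlatMod.IsFinLocFreeOfRank (n + 1) E) (z : P) :
    z ∉ T q D r := by
  intro hz
  obtain ⟨U, b, hxU, hb⟩ := H28.KvbModel.frameAt_of_rank hE (p z)
  obtain ⟨k, hk⟩ := PBlow.exists_mem_locus q b hb hP (show z ∈ p ⁻¹ᵁ U from hxU)
  have h0 : ev q z (E.presheaf.germ U (p z) hxU (b k)) = 0 := by
    have htop : E.presheaf.germ U (p z) hxU (b k) ∈ ⨆ l : Fin r, LinearMap.range (Algz.stalkMapₗ (D.f l) (p z)) := by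
      rw [D.top]; exact Submodule.mem_top
    refine Submodule.iSup_induction (motive := fun e => ev q z e = 0) _ htop ?_ (map_zero _)
      fun a c ha hc => by rw [map_add, ha, hc, add_zero]
    rintro l _ ⟨m, rfl⟩
    exact hz l l.2 m
  have hg := isGen_germ (PBlow.isFrame_sig q b k) z hk
  have hne := (residue_ne_zero hg (φ := 1)).1 (by rw [map_one]; exact one_ne_zero)
  rw [one_smul] at hne
  refine hne (Eq.trans ?_ h0)
  show cls O1 z _ = cls O1 z (val q z _)
  congr 1
  rw [val, pm_germ, stalk_germ]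
  exact (O1.presheaf.germ_res_apply _ z hk (PBlow.sig q b k))

variable (q D)

/-- A lift of a rational section of a piece. -/
def lift (i : Fin r) (t : (ξ : X) → Cyc.secFibre (D.L i) ξ) (y : X) : (D.M i).presheaf.stalk y :=
  (D.surj i y (Submodule.Quotient.mk_surjective _ (t y)).choose).choose

theorem lift_spec (i : Fin r) (t : (ξ : X) → Cyc.secFibre (D.L i) ξ) (y : X) :
    cls (D.L i) y (Algz.stalkMapₗ (D.g i) y (lift D i t y)) = t y := by
  rw [lift, (D.surj i y _).choose_spec]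
  exact (Submodule.Quotient.mk_surjective _ (t y)).choose_spec

open Classical in
/-- The sections of `O(1)` given by a piece. -/
def uSec (hO : PicF.IsInvertible O1) (i : Fin r) (t : (ξ : X) → Cyc.secFibre (D.L i) ξ) (z : P) : Cyc.secFibre O1 z :=
  if ev q z (Algz.stalkMapₗ (D.f i) (p z) (lift D i t (p z))) ≠ 0 then
    ev q z (Algz.stalkMapₗ (D.f i) (p z) (lift D i t (p z)))
  else (exists_sec_ne_zero hO z).choose

theorem uSec_ne_zero (hO : PicF.IsInvertible O1) (i : Fin r) (t : (ξ : X) → Cyc.secFibre (D.L i) ξ) (z : P) :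
    uSec q D hO i t z ≠ 0 := by
  rw [uSec]
  split_ifs with h
  · exact h
  · exact (exists_sec_ne_zero hO z).choose_spec

variable {q D}

/-- Where the piece does not vanish the two divisors agree. -/
theorem secDivFun_uSec [IsLocallyNoetherian P] (hO : PicF.IsInvertible O1) {δP : P → ℤ} (hd : Cyc.IsDimFun P δP)
    (i : Fin r) (t : (ξ : X) → Cyc.secFibre (D.L i) ξ) (ht : ∀ ξ, t ξ ≠ 0) {z x : P} (hz : z ∈ T q D i)
    (hzx : z ⤳ x) (hx : x ∉ T q D ((i : ℕ) + 1)) :
    Cyc.secDivFun δP O1 z (uSec q D hO i t z) x =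
      Cyc.secDivFun δP ((Scheme.Modules.pullback p).obj (D.L i)) z (vPull p (D.L i) t z) x := by
  have hL := D.inv i
  have hxi := T.mem_of_specializes hO hz hzx
  obtain ⟨g, hg, hg'⟩ := exists_gen hL (p x)
  obtain ⟨m₀, hm₀⟩ := D.surj i (p x) g
  have hE0 : ev q x (Algz.stalkMapₗ (D.f i) (p x) m₀) ≠ 0 := by
    intro h0
    refine hx fun l hl m => ?_
    rcases Nat.lt_or_ge (l : ℕ) i with hlt | hge
    · exact hxi l hlt m
    obtain rfl : l = i := Fin.ext (by omega)
    obtain ⟨a, ha⟩ := Submodule.mem_span_singleton.1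
      (hg.1.ge (Submodule.mem_top : Algz.stalkMapₗ (D.g l) (p x) m ∈ ⊤))
    have hk := T.eq_zero hxi le_rfl (D.ker l (p x) (m - a • m₀) (by rw [map_sub, map_smul, hm₀, ha, sub_self]))
    rw [map_sub, map_smul, map_sub, ev_smul, h0, smul_zero, sub_zero] at hk
    exact hk
  have hG := isGen_of_cls_ne_zero hO (show cls O1 x (val q x (Algz.stalkMapₗ (D.f i) (p x) m₀)) ≠ 0 from hE0)
  let hy := hzx.map p.continuous
  let g' := (D.L i).presheaf.stalkSpecializes hy g
  let m' := (D.M i).presheaf.stalkSpecializes hy m₀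
  have hg'' : IsGen g' := hg' _ hy
  have hgm : Algz.stalkMapₗ (D.g i) (p z) m' = g' := by rw [stalkMapₗ_spec, hm₀]
  let G := O1.presheaf.stalkSpecializes hzx (val q x (Algz.stalkMapₗ (D.f i) (p x) m₀))
  have hGz : val q z (Algz.stalkMapₗ (D.f i) (p z) m') = G := by rw [stalkMapₗ_spec, val_spec]
  obtain ⟨φ, hφ⟩ := Submodule.mem_span_singleton.1
    (hg''.1.ge (Submodule.mem_top : Algz.stalkMapₗ (D.g i) (p z) (lift D i t (p z)) ∈ ⊤))
  have htφ : t (p z) = φ • cls (D.L i) (p z) g' := by rw [← lift_spec D i t, ← hφ]; rfl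
  have hφ0 : X.residue (p z) φ ≠ 0 := (residue_ne_zero hg'').2 (htφ ▸ ht _)
  have hev : ev q z (Algz.stalkMapₗ (D.f i) (p z) (lift D i t (p z))) = (p.stalkMap z).hom φ • cls O1 z G := by
    have hk := T.eq_zero hz le_rfl (D.ker i (p z) (lift D i t (p z) - φ • m')
      (by rw [map_sub, map_smul, hgm, hφ, sub_self]))
    rw [map_sub, map_smul, map_sub, ev_smul, sub_eq_zero] at hk
    rw [hk]
    show _ • cls O1 z _ = _
    rw [hGz]
  have hr0 : P.residue z ((p.stalkMap z).hom φ) ≠ 0 := by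
    rw [residue_stalkMap]; exact (map_ne_zero _).2 hφ0
  have hu : uSec q D hO i t z = (p.stalkMap z).hom φ • cls O1 z G := by
    have h0 : (p.stalkMap z).hom φ • cls O1 z G ≠ 0 := (residue_ne_zero (hG.2 z hzx)).1 hr0
    rw [uSec, if_pos (by rw [hev]; exact h0), hev]
  have hv : vPull p (D.L i) t z = (p.stalkMap z).hom φ •
      cls ((Scheme.Modules.pullback p).obj (D.L i)) z
        (((Scheme.Modules.pullback p).obj (D.L i)).presheaf.stalkSpecializes hzx (pm p (D.L i) x g)) := by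
    rw [vPull_eq hg'' htφ, ← pm_stalkSpecializes]
  rw [secDivFun_eq hO hd hzx hG.1.1 hu hr0,
    secDivFun_eq (PicClLib.isInvertible_pullback p hL) hd hzx (isGen_pm hg).1 hv hr0]

/-- The two caps differ by a cycle supported where the piece vanishes. -/
theorem mem_T_of_sub_ne_zero [IsLocallyNoetherian P] (hO : PicF.IsInvertible O1) {δP : P → ℤ}
    (hd : Cyc.IsDimFun P δP) (i : Fin r) (t : (ξ : X) → Cyc.secFibre (D.L i) ξ) (ht : ∀ ξ, t ξ ≠ 0)
    {B : AlgebraicCycle P ℤ} (hB : ∀ z, B z ≠ 0 → z ∈ T q D i) {x : P}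
    (hx : Cyc.c1CapFun δP O1 ⇑B (uSec q D hO i t) x -
      Cyc.c1CapFun δP ((Scheme.Modules.pullback p).obj (D.L i)) ⇑B (vPull p (D.L i) t) x ≠ 0) :
    x ∈ T q D ((i : ℕ) + 1) := by
  by_contra hxT
  refine hx (sub_eq_zero.2 (finsum_congr fun z => ?_))
  by_cases hz : B z = 0
  · rw [hz, zero_mul, zero_mul]
  by_cases hzx : z ⤳ x
  · rw [secDivFun_uSec hO hd i t ht (hB z hz) hzx hxT]
  · simp [Cyc.secDivFun, hzx]

variable [IsLocallyNoetherian X] {δ : X → ℤ} (hdX : Cyc.IsDimFun X δ)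
  (t : (i : Fin r) → (ξ : X) → Cyc.secFibre (D.L i) ξ) (ht : ∀ i ξ, t i ξ ≠ 0) (α : AlgebraicCycle X ℤ)

/-- The elementary symmetric caps of the first `j` pieces. -/
def esym : ℕ → ℕ → AlgebraicCycle X ℤ
  | 0, 0 => α
  | 0, _ + 1 => 0
  | j + 1, 0 => esym j 0
  | j + 1, i + 1 => esym j (i + 1) +
      (if h : j < r then c1CapCycle (D.inv ⟨j, h⟩) hdX (esym j i) (t ⟨j, h⟩) (ht ⟨j, h⟩) else 0)

theorem esym_zero : ∀ j, esym hdX t ht α j 0 = α
  | 0 => by simp [esym]
  | j + 1 => by simpa [esym] using esym_zero j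

theorem esym_gt : ∀ j i, j < i → esym hdX t ht α j i = 0 := by
  intro j
  induction j with
  | zero => rintro (_ | i) h
            · omega
            · simp [esym]
  | succ j ih =>
    rintro (_ | i) h
    · omega
    simp only [esym]
    rw [ih (i + 1) (by omega), ih i (by omega), zero_add]
    split_ifs
    · exact Function.locallyFinsuppWithin.ext fun x => by
        rw [coe_c1CapCycle, Function.locallyFinsuppWithin.coe_zero, Bivar.c1CapFun_zero]
    · rfl

theorem esym_mem {k : ℤ} (hα : α ∈ Cyc.Zk X δ k) : ∀ (j i : ℕ), esym hdX t ht α j i ∈ Cyc.Zk X δ (k - i)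
  | 0, 0 => by simpa [esym] using hα
  | 0, _ + 1 => fun x _ => by simp [esym]
  | j + 1, 0 => by simpa [esym] using esym_mem hα j 0
  | j + 1, i + 1 => fun x hx => by
    simp only [esym, Function.locallyFinsuppWithin.coe_add, Pi.add_apply]
    rw [esym_mem hα j (i + 1) x hx, zero_add]
    split_ifs with h
    · exact C1Class.capCycle_mem (D.inv ⟨j, h⟩) hdX (esym_mem hα j i) _ _ x (by push_cast at hx; omega)
    · rfl

variable {n : ℕ} (hc : HasCoords p O1 n) [IsProper p] [IsLocallyNoetherian P] {δP : P → ℤ}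
  (hX : Cyc.IsSetup X δ) (hPs : Cyc.IsSetup P δP) (hδ : Cyc.DeltaCompat p δP δ)

/-- The partial products. -/
def part (j : ℕ) : AlgebraicCycle P ℤ :=
  ∑ i ∈ Finset.range (j + 1), (-1 : ℤ) ^ i • hc.cl hPs.2.2 hδ (j - i) (esym hdX t ht α j i)

include hX in
theorem ratEquiv_cap_pull {L : X.Modules} (hL : PicF.IsInvertible L) {v : (ξ : X) → Cyc.secFibre L ξ}
    (hv : ∀ ξ, v ξ ≠ 0) {k : ℤ} {e : AlgebraicCycle X ℤ} (he : e ∈ Cyc.Zk X δ k) (m : ℕ) :
    Cyc.RatEquiv δP (k + n - m - 1)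
      (c1CapCycle (PicClLib.isInvertible_pullback p hL) hPs.2.2 (hc.cl hPs.2.2 hδ m e) (vPull p L v)
        (vPull_ne_zero hL hv))
      (hc.cl hPs.2.2 hδ m (c1CapCycle hL hdX e v hv)) := by
  have hd := hPs.2.2
  have hce := C1Class.capCycle_mem hL hdX he v hv
  let d := C1Class.c1 hX hL
  let ι : ∀ {A : Scheme.{u}} (g : A ⟶ X), (Scheme.Modules.pullback g).obj L ≅
      (Scheme.Modules.pullback (𝟙 A ≫ g)).obj L := fun g =>
    eqToIso (congrArg (fun φ => (Scheme.Modules.pullback φ).obj L) (Category.id_comp g).symm)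
  have h0 : d.op (Bivar.OSq.self X δ) k (ChowOps.cl e he) = ChowOps.cl (c1CapCycle hL hdX e v hv) hce :=
    (C1Class.isC1Class hX hL).2 (Bivar.OSq.self X δ) k e he
      (fun y => mapSec ((Scheme.Modules.pullbackId X).app L).symm y (v y)) (mapSec_ne_zero _ hv) _
      ((coe_c1CapCycle hL hdX e v hv).trans
        (c1CapFun_mapSec _ hL (PicClLib.isInvertible_pullback (𝟙 X) hL) hdX _ hv).symm) hce
  have hm := hc.cl_mem_Zk hd hδ hce m
  rw [show k - 1 + (n : ℤ) - m = k + n - m - 1 by ring] at hm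
  have h1 := op_cl_cl hc hX hPs hδ d he hce h0 m hm
  have hLp := PicClLib.isInvertible_pullback p hL
  have hmem := C1Class.capCycle_mem hLp hd (hc.cl_mem_Zk hd hδ he m) (vPull p L v) (vPull_ne_zero hL hv)
  have h2 : d.op ((Bivar.OSq.self P δP).along p hδ) (k + n - m) (ChowOps.cl _ (hc.cl_mem_Zk hd hδ he m)) =
      ChowOps.cl _ hmem :=
    (C1Class.isC1Class hX hL).2 ((Bivar.OSq.self P δP).along p hδ) (k + n - m) _ (hc.cl_mem_Zk hd hδ he m)
      (fun y => mapSec (ι p) y (vPull p L v y)) (mapSec_ne_zero _ (vPull_ne_zero hL hv)) _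
      ((coe_c1CapCycle hLp hd _ _ _).trans
        (c1CapFun_mapSec _ hLp (PicClLib.isInvertible_pullback _ hL) hd _ (vPull_ne_zero hL hv)).symm) hmem
  exact ClEq.ratEquiv_of_cl_eq hd (h2.symm.trans h1)

variable (hP : KRR.IsProjBundle p E O1 q)

include hX in
theorem exists_supported {k : ℤ} (hα : α ∈ Cyc.Zk X δ k) : ∀ j, j ≤ r →
    ∃ B : AlgebraicCycle P ℤ, B ∈ Cyc.Zk P δP (k + n - j) ∧ (∀ z, B z ≠ 0 → z ∈ T q D j) ∧
      B - part hdX t ht α hc hPs hδ j ∈ ratZero hPs.2.2 (k + n - j)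
  | 0 => fun _ => by
    refine ⟨hc.cl hPs.2.2 hδ 0 α, by simpa using hc.cl_mem_Zk hPs.2.2 hδ hα 0,
      fun z _ l hl => absurd hl (Nat.not_lt_zero _), ?_⟩
    have : part hdX t ht α hc hPs hδ 0 = hc.cl hPs.2.2 hδ 0 α := by simp [part, esym]
    rw [this, sub_self]
    exact (ratZero hPs.2.2 _).zero_mem
  | j + 1 => fun hj => by
    have hd := hPs.2.2
    obtain ⟨B, hB, hBT, hBR⟩ := exists_supported hα j (by omega)
    let i : Fin r := ⟨j, by omega⟩
    have hO := hc.invertible
    have hLp := PicClLib.isInvertible_pullback p (D.inv i)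
    let v := vPull p (D.L i) (t i)
    have hv := vPull_ne_zero (p := p) (D.inv i) (ht i)
    let u := uSec q D hO i (t i)
    have hu := uSec_ne_zero q D hO i (t i)
    let B' := c1CapCycle hO hd B u hu - c1CapCycle hLp hd B v hv
    have ek : k + (n : ℤ) - ((j + 1 : ℕ) : ℤ) = k + n - j - 1 := by push_cast; ring
    refine ⟨B', ?_, fun x hx => ?_, ?_⟩
    · rw [ek]
      exact (ChowOps.zk P δP _).sub_mem (C1Class.capCycle_mem hO hd hB u hu) (C1Class.capCycle_mem hLp hd hB v hv)
    · refine mem_T_of_sub_ne_zero (q := q) hO hd i (t i) (ht i) hBT ?_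
      simpa only [B', Function.locallyFinsuppWithin.coe_sub, Pi.sub_apply, coe_c1CapCycle] using hx
    rw [ek]
    let cL : AlgebraicCycle P ℤ →+ AlgebraicCycle P ℤ :=
      AddMonoidHom.mk' (fun a => c1CapCycle hLp hd a v hv) fun a b => DFunLike.coe_injective (by
        rw [Function.locallyFinsuppWithin.coe_add, coe_c1CapCycle, coe_c1CapCycle, coe_c1CapCycle,
          ← Bivar.c1CapFun_add]
        rfl)
    let Pt := part hdX t ht α hc hPs hδ j
    have hPt : Pt ∈ Cyc.Zk P δP (k + n - j) := by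
      refine (ChowOps.zk P δP _).sum_mem fun l hl => (ChowOps.zk P δP _).zsmul_mem ?_ _
      have := hc.cl_mem_Zk hd hδ (esym_mem hdX t ht α hα j l) (j - l)
      rw [show k - (l : ℤ) + n - ((j - l : ℕ) : ℤ) = k + n - j by
        have := Finset.mem_range.1 hl; omega] at this
      exact this
    have hrefl : ∀ a : AlgebraicCycle P ℤ, a - a ∈ ratZero hd (k + n - j) := fun a => by
      rw [sub_self]; exact (ratZero hd _).zero_mem
    have e1 : c1CapCycle hO hd B u hu - hc.capHom hd Pt ∈ ratZero hd (k + n - j - 1) := by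
      have h := ratEquiv_capIter hO hd hB hBR (fun _ => u) (fun _ => hc.sec 0) (fun _ => hu)
        (fun _ => hc.sec_ne_zero 0) 1
      rw [show k + (n : ℤ) - j - ((1 : ℕ) : ℤ) = k + n - j - 1 by push_cast; ring] at h
      exact h
    have e2 : c1CapCycle hLp hd B v hv - cL Pt ∈ ratZero hd (k + n - j - 1) := by
      have h := ratEquiv_capIter hLp hd hB hBR (fun _ => v) (fun _ => v) (fun _ => hv) (fun _ => hv) 1
      rw [show k + (n : ℤ) - j - ((1 : ℕ) : ℤ) = k + n - j - 1 by push_cast; ring] at h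
      exact h
    let e' := fun l => esym hdX t ht α j l
    let c := fun l => c1CapCycle (D.inv i) hdX (e' l) (t i) (ht i)
    have e3 : (∑ l ∈ Finset.range (j + 1), (-1 : ℤ) ^ l • hc.cl hd hδ (j - l) (c l)) - cL Pt ∈
        ratZero hd (k + n - j - 1) := by
      rw [show cL Pt = ∑ l ∈ Finset.range (j + 1), cL ((-1 : ℤ) ^ l • hc.cl hd hδ (j - l) (e' l)) from map_sum _ _ _,
        ← Finset.sum_sub_distrib]
      refine (ratZero hd _).sum_mem fun l hl => ?_
      rw [map_zsmul, ← smul_sub]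
      refine (ratZero hd _).zsmul_mem ?_ _
      have h := ratEquiv_cap_pull hdX hc hX hPs hδ (D.inv i) (ht i) (esym_mem hdX t ht α hα j l) (j - l)
      rw [show k - (l : ℤ) + n - ((j - l : ℕ) : ℤ) - 1 = k + n - j - 1 by
        have := Finset.mem_range.1 hl; omega] at h
      have h' := (ratZero hd _).neg_mem (show _ ∈ ratZero hd _ from h)
      rw [neg_sub] at h'
      exact h'
    have hsplit : part hdX t ht α hc hPs hδ (j + 1) =
        hc.capHom hd Pt - ∑ l ∈ Finset.range (j + 1), (-1 : ℤ) ^ l • hc.cl hd hδ (j - l) (c l) := by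
      have es : ∀ (m : ℕ) (a : AlgebraicCycle X ℤ), hc.capHom hd (hc.cl hd hδ m a) = hc.cl hd hδ (m + 1) a :=
        fun m a => (Function.iterate_succ_apply' _ _ _).symm
      have hC : hc.capHom hd Pt = ∑ l ∈ Finset.range (j + 1), (-1 : ℤ) ^ l • hc.cl hd hδ (j + 1 - l) (e' l) := by
        show hc.capHom hd (∑ l ∈ Finset.range (j + 1), (-1 : ℤ) ^ l • hc.cl hd hδ (j - l) (e' l)) = _
        rw [map_sum]
        refine Finset.sum_congr rfl fun l hl => ?_
        rw [map_zsmul, es, show j - l + 1 = j + 1 - l by have := Finset.mem_range.1 hl; omega]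
      have h0 : e' (j + 1) = 0 := esym_gt hdX t ht α j (j + 1) (Nat.lt_succ_self j)
      rw [hC, part, Finset.sum_range_succ' _ (j + 1)]
      simp only [esym, dif_pos (show j < r by omega), Nat.add_sub_add_right, map_add, smul_add,
        Finset.sum_add_distrib]
      rw [Finset.sum_range_succ' (fun l => (-1 : ℤ) ^ l • hc.cl hd hδ (j + 1 - l) (e' l)) j,
        Finset.sum_range_succ (fun l => (-1 : ℤ) ^ (l + 1) • hc.cl hd hδ (j - l) (esym hdX t ht α j (l + 1))) j,
        show esym hdX t ht α j (j + 1) = 0 from h0, map_zero, smul_zero, add_zero]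
      simp only [Nat.add_sub_add_right, pow_succ, mul_neg, mul_one, neg_smul, Finset.sum_neg_distrib]
      simp only [e', c, i, pow_zero, Nat.sub_zero]
      abel
    have key := (ratZero hd _).add_mem ((ratZero hd _).sub_mem e1 e2) e3
    rw [show B' - part hdX t ht α hc hPs hδ (j + 1) =
      c1CapCycle hO hd B u hu - hc.capHom hd Pt - (c1CapCycle hLp hd B v hv - cL Pt) +
        ((∑ l ∈ Finset.range (j + 1), (-1 : ℤ) ^ l • hc.cl hd hδ (j - l) (c l)) - cL Pt) by
      rw [hsplit]; simp only [B']; abel]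
    exact key

omit hc in
include hX hPs hδ hP in
/-- The Chern classes are the elementary symmetric caps of the pieces. -/
theorem isChernCap_esym (hr : r = n + 1) (hE : FlatMod.IsFinLocFreeOfRank (n + 1) E) {k : ℤ}
    (hα : α ∈ Cyc.Zk X δ k) :
    Cyc.IsChernCap p δ δP O1 (n + 1) k α fun i : Fin (n + 2) => esym hdX t ht α r i := by
  subst hr
  have hd := hPs.2.2
  have hc := hasCoords_of_projBundle hP hE
  obtain ⟨B, hB, hBT, hBR⟩ := exists_supported (q := q) hdX t ht α hc hX hPs hδ hα (n + 1) le_rfl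
  have hB0 : B = 0 := Function.locallyFinsuppWithin.ext fun z => by
    by_contra h
    exact T.empty hP hE z (hBT z h)
  refine isChernCap_of_relSum hc hd hδ (esym_zero hdX t ht α _) (fun i => esym_mem hdX t ht α hα _ _) ?_
  have h1 : part hdX t ht α hc hPs hδ (n + 1) ∈ ratZero hd (k - 1) := by
    rw [hB0, zero_sub, show k + (n : ℤ) - ((n + 1 : ℕ) : ℤ) = k - 1 by push_cast; ring] at hBR
    simpa using (ratZero hd _).neg_mem hBR
  have h2 : relSum hc hd hδ (fun i : Fin (n + 2) => esym hdX t ht α (n + 1) i) =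
      (-1 : ℤ) ^ (n + 1) • part hdX t ht α hc hPs hδ (n + 1) := by
    rw [part, Finset.smul_sum, Finset.sum_range, relSum]
    refine Fintype.sum_equiv Fin.revPerm _ _ fun i => ?_
    simp only [Fin.revPerm_apply, Fin.val_rev, smul_smul, ← pow_add]
    have hi := i.2
    rw [show n + 1 - (n + 2 - ((i : ℕ) + 1)) = (i : ℕ) by omega]
    congr 1
    rw [show n + 1 + (n + 2 - ((i : ℕ) + 1)) = (i : ℕ) + 2 * (n + 1 - (i : ℕ)) by omega, pow_add, pow_mul, neg_one_sq,
      one_pow, mul_one]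
  rw [h2]
  exact (ratZero hd _).zsmul_mem h1 _

end Groth.Agent.H23.Chern

end
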