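import Groth.Agent.H23.Chern.Split
import Groth.Agent.S12662

/-! Chern class caps in every rank, and descent along towers of projective bundles. -/

set_option autoImplicit false
set_option backward.isDefEq.respectTransparency false
set_option backward.isDefEq.respectTransparency.types false

universe u

open CategoryTheory CategoryTheory.Limits AlgebraicGeometry TopologicalSpace Opposite

noncomputable section

namespace Groth.Agent.H23.Chern

open Groth.Agent Groth.Agent.H23.ProjBd RatSec ChowDesc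

variable {X : Scheme.{u}} {δ : X → ℤ} {E : X.Modules}

variable (δ) in
/-- Chern class caps, in every rank. -/
def IsC (E : X.Modules) : (r : ℕ) → ℤ → AlgebraicCycle X ℤ → (Fin (r + 1) → AlgebraicCycle X ℤ) → Prop
  | 0, k, α, γ => γ 0 = α ∧ α ∈ Cyc.Zk X δ k
  | n + 1, k, α, γ => IsCh δ E n k α γ

theorem ratEquiv_rfl {k : ℤ} (a : AlgebraicCycle X ℤ) : Cyc.RatEquiv δ k a a :=
  RatOn.ratEquiv (T := Set.univ) (RatOn.congr (RatOn.zero _) fun _ => sub_self _)

theorem ratEquiv_of_eq {k : ℤ} {a b : AlgebraicCycle X ℤ} (h : a = b) : Cyc.RatEquiv δ k a b := h ▸ ratEquiv_rfl a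

variable (hX : Cyc.IsSetup X δ) {r : ℕ} (hE : FlatMod.IsFinLocFreeOfRank r E) {k : ℤ} {α : AlgebraicCycle X ℤ}
  {γ : Fin (r + 1) → AlgebraicCycle X ℤ}

include hX hE in
theorem isC_of {P : Scheme.{u}} {p : P ⟶ X} {O1 : P.Modules} {q : (Scheme.Modules.pullback p).obj E ⟶ O1}
    (hP : KRR.IsProjBundle p E O1 q) {δP : P → ℤ} (hδ : Cyc.DeltaCompat p δP δ)
    (h : Cyc.IsChernCap p δ δP O1 r k α γ) : IsC δ E r k α γ := by
  cases r with
  | zero => exact ⟨h.1, by simpa [h.1] using h.2.1 0⟩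
  | succ n => exact isCh_of hX hE ⟨P, p, O1, q, hP, δP, hδ⟩ h

include hX hE in
theorem IsC.cap {P : Scheme.{u}} {p : P ⟶ X} {O1 : P.Modules} {q : (Scheme.Modules.pullback p).obj E ⟶ O1}
    (hP : KRR.IsProjBundle p E O1 q) [IsProper p] {δP : P → ℤ} (hδ : Cyc.DeltaCompat p δP δ)
    (h : IsC δ E r k α γ) : Cyc.IsChernCap p δ δP O1 r k α γ := by
  cases r with
  | zero =>
    have hPs := SetupLFT.isSetup p hX hδ
    haveI := hPs.1
    exact isChernCap_zero hP hE hPs.2.2 h.2 γ h.1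
  | succ n => exact h ⟨P, p, O1, q, hP, δP, hδ⟩

include hX hE in
theorem IsC.zero (h : IsC δ E r k α γ) : γ 0 = α := by
  cases r with
  | zero => exact h.1
  | succ n => exact (h (nonempty_bdl δ hE).some).1

include hX hE in
theorem IsC.mem (h : IsC δ E r k α γ) (j : Fin (r + 1)) : γ j ∈ Cyc.Zk X δ (k - ((j : ℕ) : ℤ)) := by
  cases r with
  | zero =>
    obtain rfl : j = 0 := Fin.fin_one_eq_zero j
    simpa [h.1] using h.2
  | succ n => exact (h (nonempty_bdl δ hE).some).2.1 j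

include hX hE in
theorem IsC.ratEquiv {α' : AlgebraicCycle X ℤ} {γ' : Fin (r + 1) → AlgebraicCycle X ℤ} (h : IsC δ E r k α γ)
    (h' : IsC δ E r k α' γ') (hαα : Cyc.RatEquiv δ k α α') (j : Fin (r + 1)) :
    Cyc.RatEquiv δ (k - ((j : ℕ) : ℤ)) (γ j) (γ' j) := by
  cases r with
  | zero =>
    obtain rfl : j = 0 := Fin.fin_one_eq_zero j
    rw [h.1, h'.1]
    simpa using hαα
  | succ n => exact IsCh.ratEquiv hX hE h h' hαα j

include hX hE in
theorem exists_isC (hα : α ∈ Cyc.Zk X δ k) : ∃ γ, IsC δ E r k α γ := by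
  cases r with
  | zero => exact ⟨fun _ => α, rfl, hα⟩
  | succ n => exact exists_isCh hX hE hα

include hX hE in
/-- Caps with the classes of two modules commute. -/
theorem IsC.comm {s : ℕ} {F : X.Modules} (hF : FlatMod.IsFinLocFreeOfRank s F) {i : Fin (r + 1)} {j : Fin (s + 1)}
    {ε φ : Fin (s + 1) → AlgebraicCycle X ℤ} {ψ : Fin (r + 1) → AlgebraicCycle X ℤ} (hα : α ∈ Cyc.Zk X δ k)
    (hγ : IsC δ E r k α γ) (hε : IsC δ F s (k - ((i : ℕ) : ℤ)) (γ i) ε) (hφ : IsC δ F s k α φ)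
    (hψ : IsC δ E r (k - ((j : ℕ) : ℤ)) (φ j) ψ) :
    Cyc.RatEquiv δ (k - ((i : ℕ) : ℤ) - ((j : ℕ) : ℤ)) (ε j) (ψ i) := by
  cases r with
  | zero =>
    obtain rfl : i = 0 := Fin.fin_one_eq_zero i
    rw [hψ.1]
    have h0 : k - (((0 : Fin (0 + 1)) : ℕ) : ℤ) = k := by simp
    rw [h0] at hε ⊢
    exact hε.ratEquiv hX hF hφ (ratEquiv_of_eq hγ.1) j
  | succ n =>
    cases s with
    | zero =>
      obtain rfl : j = 0 := Fin.fin_one_eq_zero j
      rw [hε.1]
      have h0 : k - (((0 : Fin (0 + 1)) : ℕ) : ℤ) = k := by simp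
      rw [h0] at hψ
      rw [show k - ((i : ℕ) : ℤ) - (((0 : Fin (0 + 1)) : ℕ) : ℤ) = k - ((i : ℕ) : ℤ) by simp]
      exact hγ.ratEquiv hX hE hψ (ratEquiv_of_eq hφ.1.symm) i
    | succ m =>
      obtain ⟨⟨P, p, O1, q, hP, δP, hδ⟩⟩ := nonempty_bdl δ hE
      obtain ⟨⟨Q, p', O1', q', hQ, δQ, hδ'⟩⟩ := nonempty_bdl δ hF
      haveI := isProper_of_projBundle hP hE
      haveI := isProper_of_projBundle hQ hF
      exact S12662.result X δ hX _ _ E hE P p O1 q hP δP (SetupLFT.isSetup p hX hδ) hδ F hF Q p' O1' q' hQ δQ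
        (SetupLFT.isSetup p' hX hδ') hδ' k α hα i j γ (hγ.cap hX hE hP hδ) ε (hε.cap hX hF hQ hδ') φ
        (hφ.cap hX hF hQ hδ') ψ (hψ.cap hX hE hP hδ)

include hX hE in
/-- Pull-back of Chern class caps. -/
theorem IsC.pull {Y : Scheme.{u}} {f : Y ⟶ X} [Flat f] [LocallyOfFiniteType f] {δY : Y → ℤ}
    (hY : Cyc.IsSetup Y δY) (hf : Cyc.DeltaCompat f δY δ) {c : ℕ} (hc : Cyc.HasRelDim f c) {F : Y.Modules}
    (e : (Scheme.Modules.pullback f).obj E ≅ F) (hγ : IsC δ E r k α γ) {β : Fin (r + 1) → AlgebraicCycle Y ℤ}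
    (hβ : ∀ j, ⇑(β j) = Cyc.pullFun f δY δ c ⇑(γ j)) : IsC δY F r (k + c) (β 0) β := by
  cases r with
  | zero =>
    refine ⟨rfl, Bivar.pullFun_mem_Zk f δY δ c k hγ.2 (β 0) ?_⟩
    rw [hβ, hγ.1]
  | succ n =>
    have hF : FlatMod.IsFinLocFreeOfRank (n + 1) F :=
      fun y => let ⟨U, hy, ⟨i⟩⟩ := GrassFlag.rank_pullback f hE y
        ⟨U, hy, ⟨(Scheme.Modules.restrictFunctor U.ι).mapIso e.symm ≪≫ i⟩⟩
    obtain ⟨⟨Q, πQ, Oq, qQ, hQ, δQ, hπ⟩⟩ := nonempty_bdl δ hE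
    haveI := isProper_of_projBundle hQ hE
    intro B
    exact isChernCap_pull hQ hE B.isBundle hF hY hX (B.isSetup hY hF) (SetupLFT.isSetup πQ hX hπ) B.compat hπ e hf hc
      (hγ ⟨Q, πQ, Oq, qQ, hQ, δQ, hπ⟩) hβ

include hX hE in
theorem isC_esym [IsLocallyNoetherian X] (hd : Cyc.IsDimFun X δ) (D : Pieces E r)
    (t : (i : Fin r) → (ξ : X) → Cyc.secFibre (D.L i) ξ) (ht : ∀ i ξ, t i ξ ≠ 0) (hα : α ∈ Cyc.Zk X δ k) :
    IsC δ E r k α fun i : Fin (r + 1) => esym hd t ht α r i := by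
  cases r with
  | zero => exact ⟨by simp [esym], hα⟩
  | succ n =>
    intro B
    haveI := isProper_of_projBundle B.isBundle hE
    haveI := (B.isSetup hX hE).1
    exact isChernCap_esym hd t ht α hX (B.isSetup hX hE) B.compat
      B.isBundle rfl hE hα

section Tower

variable {P : Scheme.{u}} {π : P ⟶ X} {d : ℕ} (hT : Tower π d)

/-- The dimension function upstairs. -/
def dimUp [LocallyOfFiniteType π] (δ : X → ℤ) : P → ℤ := fun z => δ (π z) + FibDim.rd π z

/-- Pull-back of cycles along a tower. -/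
def pullT (hT : Tower π d) (hX : Cyc.IsSetup X δ) : AlgebraicCycle X ℤ →+ AlgebraicCycle P ℤ :=
  haveI := hT.proper
  haveI := hT.flat
  haveI := hX.1
  haveI := (isSetup_rd π hX).1
  AddMonoidHom.mk' (FlatClass.pullCycle
      (FlatShift.hasShift_of_hasRelDim π (hT.hasRelDim hX) (deltaCompat_rd π δ)) (isSetup_rd π hX).2.2) fun a b => by
    refine DFunLike.coe_injective ?_
    rw [Function.locallyFinsuppWithin.coe_add]
    exact (congrArg (Cyc.pullFun π _ δ (d : ℤ)) (Function.locallyFinsuppWithin.coe_add a b)).trans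
      (Bivar.pullFun_add π _ δ d ⇑a ⇑b)

theorem pullT_coe [LocallyOfFiniteType π] (a : AlgebraicCycle X ℤ) :
    ⇑(pullT hT hX a) = Cyc.pullFun π (fun z => δ (π z) + FibDim.rd π z) δ d ⇑a := rfl

include hX in
theorem pullT_mem [LocallyOfFiniteType π] {a : AlgebraicCycle X ℤ} (ha : a ∈ Cyc.Zk X δ k) :
    pullT hT hX a ∈ Cyc.Zk P (fun z => δ (π z) + FibDim.rd π z) (k + d) :=
  Bivar.pullFun_mem_Zk π _ δ d k ha _ rfl

include hX hT in
/-- Equalities of classes can be checked on a tower. -/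
theorem ratEquiv_of_pullT [LocallyOfFiniteType π] {a b : AlgebraicCycle X ℤ} (ha : a ∈ Cyc.Zk X δ k)
    (hb : b ∈ Cyc.Zk X δ k)
    (h : Cyc.RatEquiv (fun z => δ (π z) + FibDim.rd π z) (k + d) (pullT hT hX a) (pullT hT hX b)) :
    Cyc.RatEquiv δ k a b := by
  haveI := hX.1
  refine hT.injective hX (deltaCompat_rd π δ) ((ChowOps.zk X δ k).sub_mem ha hb) (pullT hT hX (a - b)) rfl ?_
  rw [map_sub]
  exact h

include hX hE in
theorem IsC.pullT [LocallyOfFiniteType π] (hT : Tower π d) (hγ : IsC δ E r k α γ) :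
    IsC (fun z => δ (π z) + FibDim.rd π z) ((Scheme.Modules.pullback π).obj E) r (k + d) (Chern.pullT hT hX α)
      fun j => Chern.pullT hT hX (γ j) := by
  haveI := hT.flat
  have h := hγ.pull hX hE (f := π) (isSetup_rd π hX) (deltaCompat_rd π δ) (hT.hasRelDim hX) (Iso.refl _)
    (β := fun j => Chern.pullT hT hX (γ j)) fun j => rfl
  rwa [hγ.zero hX hE] at h

end Tower

end Groth.Agent.H23.Chern

end
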