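import Groth.Agent.H23.Chern.CoRegQ

/-! Cycles near a point as combinations of ideals. -/

set_option autoImplicit false
set_option backward.isDefEq.respectTransparency false
set_option backward.isDefEq.respectTransparency.types false

universe u

open CategoryTheory CategoryTheory.Limits AlgebraicGeometry TopologicalSpace Opposite IsLocalRing
open scoped TensorProduct

noncomputable section

namespace Groth.Agent.H23.Chern

open Groth.Agent RatSec CDiv6 StalkPrimes

variable {X : Scheme.{u}}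

/-- A cycle near a point as a combination of ideals whose loci have dimension at most `n`. -/
def IsFam (δ : X → ℤ) (n : ℤ) (α : X → ℤ) {x : X} {N : ℕ} (a : Fin N → ℤ)
    (Q : Fin N → Ideal (X.presheaf.stalk x)) : Prop :=
  (∀ (y : X) (h : y ⤳ x), δ y = n → α y = ∑ t, a t * ((Module.length (X.presheaf.stalk y)
    (X.presheaf.stalk y ⧸ (Q t).map (X.presheaf.stalkSpecializes h).hom)).toNat : ℤ)) ∧
  ∀ (t : Fin N) (y : X) (h : y ⤳ x), (Q t).map (X.presheaf.stalkSpecializes h).hom ≠ ⊤ → δ y ≤ n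

/-- A cosection is given by a regular sequence modulo an ideal. -/
def RegSec {E : X.Modules} (r : ℕ) (u : E ⟶ Coh.structureModule X) {x : X}
    (Q : Ideal (X.presheaf.stalk x)) : Prop :=
  Q = ⊤ ∨ ∃ f : Fin r → X.presheaf.stalk x,
    RingTheory.Sequence.IsRegular (X.presheaf.stalk x ⧸ Q) (List.ofFn fun l => Ideal.Quotient.mk Q (f l)) ∧
      Q ⊔ coIdeal u x = Q ⊔ Ideal.span (Set.range f)

theorem RegSec.regMod [IsLocallyNoetherian X] {E : X.Modules} {r : ℕ} {D : Pieces E r} {x : X}
    (hE : FlatMod.IsFinLocFreeOfRank r E) {u : E ⟶ Coh.structureModule X} (F : Frame D x)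
    {Q : Ideal (X.presheaf.stalk x)} (h : RegSec r u Q) : RegMod u F Q :=
  regMod_of_regular hE h

/-- The prime cycles through a point. -/
theorem exists_fam_primes [IsLocallyNoetherian X] {δ : X → ℤ} (hd : Cyc.IsDimFun X δ) {n : ℤ}
    {α : AlgebraicCycle X ℤ} (hα : α ∈ Cyc.Zk X δ n) (x : X) :
    ∃ (N : ℕ) (η : Fin N → X) (h : ∀ t, η t ⤳ x), (∀ t, δ (η t) = n ∧ α (η t) ≠ 0) ∧
      IsFam δ n ⇑α (fun t => α (η t)) fun t => (primeOf (h t)).asIdeal := by
  classical
  obtain ⟨U, hU, hf⟩ := α.supportLocallyFiniteWithinDomain' x (Set.mem_univ x)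
  obtain ⟨V, hVU, hV, hxV⟩ := mem_nhds_iff.1 hU
  have hS : {η : X | η ⤳ x ∧ α η ≠ 0}.Finite := hf.subset fun η hη => ⟨hVU (hη.1.mem_open hV hxV), hη.2⟩
  let e := hS.toFinset.equivFin.symm
  have he : ∀ t, (e t : X) ⤳ x ∧ α (e t : X) ≠ 0 := fun t => hS.mem_toFinset.1 (e t).2
  have hη : ∀ t, δ (e t : X) = n := fun t => by_contra fun h => (he t).2 (hα _ h)
  have hiff : ∀ (t : Fin hS.toFinset.card) (y : X) (h : y ⤳ x),
      (primeOf (he t).1).asIdeal.map (X.presheaf.stalkSpecializes h).hom ≠ ⊤ → (e t : X) ⤳ y := by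
    intro t y h hne
    letI : Algebra (X.presheaf.stalk x) (X.presheaf.stalk y) := (X.presheaf.stalkSpecializes h).hom.toAlgebra
    haveI := isLocalization_primeOf h
    refine (primeOf_le_iff h (he t).1).1 fun a ha => ?_
    have h1 : algebraMap _ (X.presheaf.stalk y) a ∈ maximalIdeal (X.presheaf.stalk y) :=
      IsLocalRing.le_maximalIdeal hne (Ideal.mem_map_of_mem _ ha)
    exact (IsLocalization.AtPrime.to_map_mem_maximal_iff (X.presheaf.stalk y) (primeOf h).asIdeal a).1 h1
  refine ⟨_, fun t => e t, fun t => (he t).1, fun t => ⟨hη t, (he t).2⟩, fun y h hy => ?_, fun t y h hne => ?_⟩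
  · have hlen : ∀ t : Fin hS.toFinset.card, (e t : X) ≠ y →
        Module.length (X.presheaf.stalk y) (X.presheaf.stalk y ⧸
          (primeOf (he t).1).asIdeal.map (X.presheaf.stalkSpecializes h).hom) = 0 := by
      intro t ht
      rw [Module.length_eq_zero_iff, Ideal.Quotient.subsingleton_iff]
      by_contra hne
      exact ht (CycLib.eq_of_delta_le hd (hiff t y h hne) (by rw [hη t, hy]))
    have hone : ∀ t : Fin hS.toFinset.card, (e t : X) = y →
        Module.length (X.presheaf.stalk y) (X.presheaf.stalk y ⧸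
          (primeOf (he t).1).asIdeal.map (X.presheaf.stalkSpecializes h).hom) = 1 := by
      intro t ht
      subst ht
      letI : Algebra (X.presheaf.stalk x) (X.presheaf.stalk (e t : X)) := (X.presheaf.stalkSpecializes h).hom.toAlgebra
      haveI := isLocalization_primeOf h
      rw [show (primeOf (he t).1).asIdeal.map (X.presheaf.stalkSpecializes h).hom =
        maximalIdeal (X.presheaf.stalk (e t : X)) from
          IsLocalization.AtPrime.map_eq_maximalIdeal (primeOf h).asIdeal _]
      haveI : IsSimpleModule (X.presheaf.stalk (e t : X))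
          (X.presheaf.stalk (e t : X) ⧸ maximalIdeal (X.presheaf.stalk (e t : X))) :=
        isSimpleModule_iff_isCoatom.2 (maximalIdeal.isMaximal _).out
      exact Module.length_eq_one _ _
    by_cases h0 : α y = 0
    · rw [h0, Finset.sum_eq_zero]
      intro t _
      rw [hlen t fun hh => (he t).2 (hh ▸ h0)]
      simp
    obtain ⟨t, ht⟩ := e.surjective ⟨y, hS.mem_toFinset.2 ⟨h, h0⟩⟩
    have ht' : (e t : X) = y := congrArg Subtype.val ht
    rw [Finset.sum_eq_single t (fun s _ hs => by
        rw [hlen s fun hh => hs (e.injective (Subtype.ext (hh.trans ht'.symm)))]; simp)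
      (fun hh => absurd (Finset.mem_univ t) hh), hone t ht']
    simp [ht']
  · have h1 := CycLib.delta_le hd (hiff t y h hne)
    rw [← hη t]
    exact h1

/-- A regular sequence of length `r` on an ideal of dimension at most `n` needs a point of dimension at most `n - r`. -/
theorem RegSec.delta_le [IsLocallyNoetherian X] {δ : X → ℤ} (hd : Cyc.IsDimFun X δ) {n : ℤ} {E : X.Modules} {r : ℕ}
    {u : E ⟶ Coh.structureModule X} {x : X} {Q : Ideal (X.presheaf.stalk x)} (hQ : Q ≠ ⊤) (h : RegSec r u Q)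
    (hn : ∀ (y : X) (h : y ⤳ x), Q.map (X.presheaf.stalkSpecializes h).hom ≠ ⊤ → δ y ≤ n) : δ x ≤ n - r := by
  obtain ⟨f, hf, -⟩ := h.resolve_left hQ
  haveI : Nontrivial (X.presheaf.stalk x ⧸ Q) := Ideal.Quotient.nontrivial_iff.2 hQ
  haveI : IsLocalRing (X.presheaf.stalk x ⧸ Q) :=
    IsLocalRing.of_surjective' (Ideal.Quotient.mk Q) Ideal.Quotient.mk_surjective
  let L := List.ofFn fun l => Ideal.Quotient.mk Q (f l)
  have hdim : (r : WithBot ℕ∞) ≤ ringKrullDim (X.presheaf.stalk x ⧸ Q) := by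
    have h1 := ringKrullDim_add_length_eq_ringKrullDim_of_isRegular L hf
    rw [← h1, show L.length = r from List.length_ofFn]
    haveI : Nontrivial ((X.presheaf.stalk x ⧸ Q) ⧸ Ideal.ofList L) := Ideal.Quotient.nontrivial_iff.2 fun e =>
      hf.top_ne_smul (by rw [e, Submodule.top_smul])
    exact le_add_of_nonneg_left ringKrullDim_nonneg_of_nontrivial
  obtain ⟨p, hp⟩ := Order.le_krullDim_iff.1 hdim
  have hpt : ∀ k, ∃ (y : X) (h : y ⤳ x), (primeOf h).asIdeal = (p k).asIdeal.comap (Ideal.Quotient.mk Q) :=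
    fun k => exists_point _
  choose y hy e using hpt
  have hstep : ∀ k : Fin p.length, δ (y k.succ) + 1 ≤ δ (y k.castSucc) := fun k => by
    have hlt : (p k.castSucc).asIdeal < (p k.succ).asIdeal := p.step k
    have hsp := (primeOf_le_iff (hy k.succ) (hy k.castSucc)).1 (by rw [e, e]; exact Ideal.comap_mono hlt.le)
    have hne : y k.castSucc ≠ y k.succ := fun he => hlt.ne (Ideal.comap_injective_of_surjective _
      Ideal.Quotient.mk_surjective (by
        rw [← e, ← e]
        have key : ∀ (a b : X) (ha : a ⤳ x) (hb : b ⤳ x), a = b → (primeOf ha).asIdeal = (primeOf hb).asIdeal := by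
          rintro a _ ha hb rfl; rfl
        exact key _ _ _ _ he))
    have := CycLib.delta_lt hd hsp hne
    omega
  have h0 : δ (y 0) ≤ n := hn _ (hy 0) (ne_top_of_le_ne_top
    (IsLocalRing.maximalIdeal.isMaximal (X.presheaf.stalk (y 0))).ne_top (Ideal.map_le_iff_le_comap.2 fun b hb => by
      have hm : b ∈ (primeOf (hy 0)).asIdeal := by
        rw [e, Ideal.mem_comap, Ideal.Quotient.eq_zero_iff_mem.2 hb]
        exact Ideal.zero_mem _
      rwa [mem_primeOf] at hm))
  have hind : ∀ k : Fin (p.length + 1), δ (y k) + (k : ℕ) ≤ δ (y 0) := by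
    intro k
    induction k using Fin.induction with
    | zero => simp
    | succ k ih =>
      have := hstep k
      simp only [Fin.val_castSucc, Fin.val_succ] at ih ⊢
      push_cast
      omega
  have h1 := hind (Fin.last _)
  have h2 := CycLib.delta_le hd (hy (Fin.last _))
  simp only [Fin.val_last, hp] at h1
  omega

variable {P : Scheme.{u}} (π : P ⟶ X) [Flat π]

theorem map_spec_stalkMap {y y' : P} (h : y' ⤳ y) (I : Ideal (X.presheaf.stalk (π y))) :
    (I.map (π.stalkMap y).hom).map (P.presheaf.stalkSpecializes h).hom =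
      (I.map (X.presheaf.stalkSpecializes (π.base.hom.map_specializes h)).hom).map (π.stalkMap y').hom := by
  rw [Ideal.map_map, Ideal.map_map, ← CommRingCat.hom_comp, ← CommRingCat.hom_comp,
    Scheme.Hom.stalkSpecializes_stalkMap]

theorem IsFam.pull' {δ : X → ℤ} {δ' : P → ℤ} {d : ℤ} {n : ℤ}
    {α : X → ℤ} {y : P} (hd : ∀ y', y' ⤳ y → δ' y' ≤ δ (π y') + d) {N : ℕ} {a : Fin N → ℤ} {Q : Fin N → Ideal (X.presheaf.stalk (π y))}
    (hα : ∀ x, δ x ≠ n → α x = 0) (hF : IsFam δ n α a Q) :
    IsFam δ' (n + d)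
      (Cyc.pullFun π δ' δ d α) a fun t => (Q t).map (π.stalkMap y).hom := by
  have hne : ∀ (t : Fin N) (y' : P) (h : y' ⤳ y),
      ((Q t).map (π.stalkMap y).hom).map (P.presheaf.stalkSpecializes h).hom ≠ ⊤ → δ (π y') ≤ n := by
    intro t y' h hne
    rw [map_spec_stalkMap π h] at hne
    exact hF.2 t _ _ fun e => hne (by rw [e, Ideal.map_top])
  refine ⟨fun y' h hy' => ?_, fun t y' h hne' => ?_⟩
  · have h1 := hd y' h
    simp only [Cyc.pullFun]
    by_cases hn : δ (π y') = n
    · rw [if_pos (show δ' y' = δ (π y') + d by omega),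
        hF.1 _ (π.base.hom.map_specializes h) hn, Finset.sum_mul]
      refine Finset.sum_congr rfl fun t _ => ?_
      conv_rhs => rw [map_spec_stalkMap π h, length_quot_pull, ENat.toNat_mul]
      push_cast
      exact mul_assoc (a t) _ _
    · simp only [hα _ hn, zero_mul, ite_self]
      rw [Finset.sum_eq_zero]
      intro t _
      by_cases ht : ((Q t).map (π.stalkMap y).hom).map (P.presheaf.stalkSpecializes h).hom = ⊤
      · rw [ht, Module.length_eq_zero]
        simp
      · have := hne t y' h ht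
        omega
  · have := hne t y' h hne'
    have := hd y' h
    omega

theorem IsFam.pull [LocallyOfFiniteType π] {δ : X → ℤ} {d : ℕ} (hd : ∀ y, FibDim.rd π y ≤ d) {n : ℤ}
    {α : X → ℤ} {y : P} {N : ℕ} {a : Fin N → ℤ} {Q : Fin N → Ideal (X.presheaf.stalk (π y))}
    (hα : ∀ x, δ x ≠ n → α x = 0) (hF : IsFam δ n α a Q) :
    IsFam (fun z => δ (π z) + FibDim.rd π z) (n + d)
      (Cyc.pullFun π (fun z => δ (π z) + FibDim.rd π z) δ d α) a fun t => (Q t).map (π.stalkMap y).hom :=
  IsFam.pull' π (fun y' _ => by have := hd y'; dsimp only; omega) hα hF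

theorem weaklyRegular_quot_pull {A B : Type u} [CommRing A] [CommRing B] [Algebra A B] [Module.Flat A B]
    (Q : Ideal A) {l : List A} (h : RingTheory.Sequence.IsWeaklyRegular (A ⧸ Q) (l.map (Ideal.Quotient.mk Q))) :
    RingTheory.Sequence.IsWeaklyRegular (B ⧸ Q.map (algebraMap A B))
      ((l.map (algebraMap A B)).map (Ideal.Quotient.mk (Q.map (algebraMap A B)))) := by
  have h1 : RingTheory.Sequence.IsWeaklyRegular (A ⧸ Q) l :=
    (RingTheory.Sequence.isWeaklyRegular_map_algebraMap_iff (A ⧸ Q) (A ⧸ Q) l).1 h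
  have h2 : RingTheory.Sequence.IsWeaklyRegular (B ⊗[A] (A ⧸ Q)) (l.map (algebraMap A B)) :=
    h1.of_flat_of_isBaseChange (TensorProduct.isBaseChange A (A ⧸ Q) B)
  exact (RingTheory.Sequence.isWeaklyRegular_map_algebraMap_iff (B ⧸ Q.map (algebraMap A B))
    (B ⧸ Q.map (algebraMap A B)) _).2 ((LinearEquiv.isWeaklyRegular_congr
      (Algebra.TensorProduct.quotIdealMapEquivTensorQuot B Q).toLinearEquiv _).2 h2)

theorem RegSec.pull {E : X.Modules} {r : ℕ} (hE : FlatMod.IsFinLocFreeOfRank r E) {u : E ⟶ Coh.structureModule X}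
    {y : P} {Q : Ideal (X.presheaf.stalk (π y))} (h : RegSec r u Q) (hy : coIdeal u (π y) ≠ ⊤) :
    RegSec r (pullCo u π) (Q.map (π.stalkMap y).hom) := by
  by_cases hQ : Q = ⊤
  · exact Or.inl (by rw [hQ, Ideal.map_top])
  obtain ⟨f, hf, he⟩ := h.resolve_left hQ
  refine Or.inr ⟨fun l => (π.stalkMap y).hom (f l), ?_, ?_⟩
  · have hflat : (π.stalkMap y).hom.Flat := Flat.stalkMap π y
    algebraize [(π.stalkMap y).hom]
    have hw := weaklyRegular_quot_pull (B := P.presheaf.stalk y) Q (l := List.ofFn f)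
      (by rw [List.map_ofFn]; exact hf.toIsWeaklyRegular)
    rw [List.map_ofFn, List.map_ofFn] at hw
    have hne : Q.map (π.stalkMap y).hom ≠ ⊤ :=
      ne_top_of_le_ne_top (IsLocalRing.maximalIdeal.isMaximal _).ne_top
        ((Ideal.map_mono (IsLocalRing.le_maximalIdeal hQ)).trans
          (Ideal.map_le_iff_le_comap.2 (IsLocalRing.maximalIdeal_comap (π.stalkMap y).hom).ge))
    haveI : Nontrivial (P.presheaf.stalk y ⧸ Q.map (π.stalkMap y).hom) := Ideal.Quotient.nontrivial_iff.2 hne
    haveI : IsLocalRing (P.presheaf.stalk y ⧸ Q.map (π.stalkMap y).hom) :=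
      IsLocalRing.of_surjective' (Ideal.Quotient.mk _) Ideal.Quotient.mk_surjective
    refine RingTheory.Sequence.IsRegular.of_isWeaklyRegular_of_mem_maximalIdeal
      (L := P.presheaf.stalk y ⧸ Q.map (π.stalkMap y).hom) (mem := fun c hc => ?_) (reg := hw)
    obtain ⟨l, rfl⟩ := List.mem_ofFn.1 hc
    haveI : IsLocalHom (Ideal.Quotient.mk (Q.map (π.stalkMap y).hom)) :=
      .of_surjective _ Ideal.Quotient.mk_surjective
    refine map_nonunit _ _ (map_nonunit (π.stalkMap y).hom _ ?_)
    have hle : Q ⊔ coIdeal u (π y) ≤ maximalIdeal (X.presheaf.stalk (π y)) :=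
      sup_le (IsLocalRing.le_maximalIdeal hQ) (IsLocalRing.le_maximalIdeal hy)
    exact hle (he ▸ Submodule.mem_sup_right (Ideal.subset_span ⟨l, rfl⟩))
  · rw [coIdeal_pull u π hE, ← Ideal.map_sup, he, Ideal.map_sup, Ideal.map_span, ← Set.range_comp]
    rfl

end Groth.Agent.H23.Chern

end
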