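import Groth.Agent.H23.Chern.Pieces
import Groth.Agent.Lib.CurveTensor

/-! Stalk bases adapted to invertible pieces, and the coordinates of a section. -/

set_option autoImplicit false
set_option backward.isDefEq.respectTransparency false
set_option backward.isDefEq.respectTransparency.types false

universe u

open CategoryTheory CategoryTheory.Limits AlgebraicGeometry TopologicalSpace Opposite IsLocalRing

noncomputable section

namespace Groth.Agent.H23.Chern

open Groth.Agent RatSec

variable {X : Scheme.{u}} {E : X.Modules} {r : ℕ} (D : Pieces E r)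

/-- Lifts of generators of the invertible pieces. -/
structure Frame (y : X) where
  m : ∀ l : Fin r, (D.M l).presheaf.stalk y
  gen : ∀ (l : Fin r) (ξ : X) (h : ξ ⤳ y),
    IsGen ((D.L l).presheaf.stalkSpecializes h (Algz.stalkMapₗ (D.g l) y (m l)))

theorem nonempty_frame (y : X) : Nonempty (Frame D y) := by
  choose g hg hg' using fun l => exists_gen (D.inv l) y
  choose m hm using fun l => D.surj l y (g l)
  exact ⟨⟨m, fun l ξ h => by rw [hm]; exact hg' l ξ h⟩⟩

variable {D}

theorem Frame.gen_self {y : X} (F : Frame D y) (l : Fin r) : IsGen (Algz.stalkMapₗ (D.g l) y (F.m l)) := by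
  have h := F.gen l y (specializes_refl y)
  rw [TopCat.Presheaf.stalkSpecializes_refl] at h
  exact h

/-- The frame at a generization. -/
def Frame.spec {y ξ : X} (F : Frame D y) (h : ξ ⤳ y) : Frame D ξ where
  m l := (D.M l).presheaf.stalkSpecializes h (F.m l)
  gen l ζ h' := by
    rw [stalkMapₗ_spec, TopCat.Presheaf.stalkSpecializes_comp_apply]
    exact F.gen l ζ (h'.trans h)

/-- The adapted generators of the stalk. -/
def Frame.vec {y : X} (F : Frame D y) (l : Fin r) : E.presheaf.stalk y := Algz.stalkMapₗ (D.f l) y (F.m l)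

theorem Frame.vec_spec {y ξ : X} (F : Frame D y) (h : ξ ⤳ y) (l : Fin r) :
    (F.spec h).vec l = E.presheaf.stalkSpecializes h (F.vec l) := stalkMapₗ_spec _ h _

variable (D) in
/-- The span of the images of the first pieces. -/
def phi (i : ℕ) (y : X) : Submodule (X.presheaf.stalk y) (E.presheaf.stalk y) :=
  ⨆ l : {l : Fin r // (l : ℕ) < i}, LinearMap.range (Algz.stalkMapₗ (D.f l.1) y)

theorem Frame.phi_le {y : X} (F : Frame D y) :
    ∀ i : ℕ, phi D i y ≤ Submodule.span (X.presheaf.stalk y) (F.vec '' {l | (l : ℕ) < i}) := by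
  intro i
  induction i with
  | zero => exact iSup_le fun l => absurd l.2 (Nat.not_lt_zero _)
  | succ i ih =>
    refine iSup_le fun ⟨l, hl⟩ => ?_
    rintro _ ⟨m, rfl⟩
    have hmono : Submodule.span (X.presheaf.stalk y) (F.vec '' {l | (l : ℕ) < i}) ≤
        Submodule.span (X.presheaf.stalk y) (F.vec '' {l | (l : ℕ) < i + 1}) :=
      Submodule.span_mono (Set.image_mono fun a (ha : (a : ℕ) < i) => Nat.lt_succ_of_lt ha)
    rcases Nat.lt_or_ge (l : ℕ) i with hli | hli
    · exact hmono (ih (le_iSup (fun l : {l : Fin r // (l : ℕ) < i} =>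
        LinearMap.range (Algz.stalkMapₗ (D.f l.1) y)) ⟨l, hli⟩ ⟨m, rfl⟩))
    obtain ⟨a, ha⟩ := Submodule.mem_span_singleton.1
      ((F.gen_self l).1.ge (Submodule.mem_top : Algz.stalkMapₗ (D.g l) y m ∈ ⊤))
    have hk := D.ker l y (m - a • F.m l) (by rw [map_sub, map_smul, ha, sub_self])
    have hk' : Algz.stalkMapₗ (D.f l) y (m - a • F.m l) ∈ phi D i y :=
      (iSup_le fun c => le_iSup_of_le (⟨c.1, by have := Fin.lt_def.1 c.2; omega⟩ : {c : Fin r // (c : ℕ) < i}) le_rfl :
        (⨆ c : {c : Fin r // c < l}, LinearMap.range (Algz.stalkMapₗ (D.f c.1) y)) ≤ phi D i y) hk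
    rw [map_sub, map_smul] at hk'
    rw [← sub_add_cancel (Algz.stalkMapₗ (D.f l) y m) (a • F.vec l)]
    exact add_mem (hmono (ih hk')) (Submodule.smul_mem _ _ (Submodule.subset_span ⟨l, hl, rfl⟩))

theorem Frame.phi_eq {y : X} (F : Frame D y) (i : ℕ) :
    phi D i y = Submodule.span (X.presheaf.stalk y) (F.vec '' {l | (l : ℕ) < i}) := by
  refine le_antisymm (F.phi_le i) (Submodule.span_le.2 ?_)
  rintro _ ⟨l, hl, rfl⟩
  exact le_iSup (fun l : {l : Fin r // (l : ℕ) < i} => LinearMap.range (Algz.stalkMapₗ (D.f l.1) y)) ⟨l, hl⟩ ⟨_, rfl⟩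

variable (hE : FlatMod.IsFinLocFreeOfRank r E)

theorem Frame.span_eq {y : X} (F : Frame D y) : Submodule.span (X.presheaf.stalk y) (Set.range F.vec) = ⊤ := by
  refine eq_top_iff.2 ((D.top y).ge.trans ?_)
  refine le_trans (le_trans ?_ (F.phi_le r)) (Submodule.span_mono (Set.image_subset_range _ _))
  exact iSup_le fun l => le_iSup_of_le (⟨l, l.2⟩ : {l : Fin r // (l : ℕ) < r}) le_rfl

include hE in
theorem Frame.linearIndependent {y : X} (F : Frame D y) : LinearIndependent (X.presheaf.stalk y) F.vec := by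
  obtain ⟨b⟩ := CurveTensor.exists_basis_stalk hE y
  let φ : E.presheaf.stalk y →ₗ[X.presheaf.stalk y] E.presheaf.stalk y := b.constr (X.presheaf.stalk y) F.vec
  have hs : Function.Surjective φ := LinearMap.range_eq_top.1 (by rw [b.constr_range, F.span_eq])
  haveI := Module.Finite.of_basis b
  have hi := OrzechProperty.injective_of_surjective_endomorphism φ hs
  have := b.linearIndependent.map' φ (LinearMap.ker_eq_bot.2 hi)
  rwa [show φ ∘ b = F.vec from funext fun l => b.constr_basis _ _ l] at this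

/-- The adapted basis. -/
def Frame.basis {y : X} (F : Frame D y) : Module.Basis (Fin r) (X.presheaf.stalk y) (E.presheaf.stalk y) :=
  Module.Basis.mk (F.linearIndependent hE) F.span_eq.ge

theorem Frame.basis_apply {y : X} (F : Frame D y) (l : Fin r) : F.basis hE l = F.vec l :=
  Module.Basis.mk_apply _ _ _

theorem mem_smul_top_iff {y : X} (b : Module.Basis (Fin r) (X.presheaf.stalk y) (E.presheaf.stalk y))
    (I : Ideal (X.presheaf.stalk y)) (m : E.presheaf.stalk y) :
    m ∈ I • (⊤ : Submodule (X.presheaf.stalk y) (E.presheaf.stalk y)) ↔ ∀ l, b.repr m l ∈ I := by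
  refine ⟨fun h => ?_, fun h => ?_⟩
  · refine Submodule.smul_induction_on h (fun a ha n _ l => ?_) (fun a c ha hc l => ?_)
    · rw [map_smul, Finsupp.smul_apply, smul_eq_mul]
      exact I.mul_mem_right _ ha
    · rw [map_add, Finsupp.add_apply]
      exact I.add_mem (ha l) (hc l)
  · rw [← b.sum_repr m]
    exact Submodule.sum_mem _ fun l _ => Submodule.smul_mem_smul (h l) Submodule.mem_top

theorem Frame.repr_eq_zero {y : X} (F : Frame D y) {i : ℕ} {e : E.presheaf.stalk y} (he : e ∈ phi D i y)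
    {l : Fin r} (hl : i ≤ (l : ℕ)) : (F.basis hE).repr e l = 0 := by
  have h := F.phi_le i he
  rw [show F.vec = ⇑(F.basis hE) from funext fun l => (F.basis_apply hE l).symm, Module.Basis.mem_span_image] at h
  by_contra hne
  exact absurd (h (Finsupp.mem_support_iff.2 hne)) (Nat.not_lt.2 hl)

variable (D) in
/-- The span of the first pieces enlarged by the maximal ideal. -/
def mixed (i : ℕ) (y : X) : Submodule (X.presheaf.stalk y) (E.presheaf.stalk y) :=
  phi D i y ⊔ maximalIdeal (X.presheaf.stalk y) • ⊤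

theorem Frame.mem_mixed_iff {y : X} (F : Frame D y) (i : ℕ) (e : E.presheaf.stalk y) :
    e ∈ mixed D i y ↔ ∀ l : Fin r, i ≤ (l : ℕ) → (F.basis hE).repr e l ∈ maximalIdeal (X.presheaf.stalk y) := by
  classical
  refine ⟨fun h l hl => ?_, fun h => ?_⟩
  · obtain ⟨a, ha, b, hb, rfl⟩ := Submodule.mem_sup.1 h
    rw [map_add, Finsupp.add_apply, F.repr_eq_zero hE ha hl, zero_add]
    exact (mem_smul_top_iff (F.basis hE) _ b).1 hb l
  · rw [← (F.basis hE).sum_repr e]
    refine Submodule.sum_mem _ fun l _ => ?_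
    rcases Nat.lt_or_ge (l : ℕ) i with hl | hl
    · refine Submodule.mem_sup_left (Submodule.smul_mem _ _ ?_)
      rw [F.basis_apply, F.phi_eq]
      exact Submodule.subset_span ⟨l, hl, rfl⟩
    · exact Submodule.mem_sup_right (Submodule.smul_mem_smul (h l hl) Submodule.mem_top)

variable (s : E.presheaf.obj (op ⊤))

/-- The coordinates of a global section. -/
def Frame.coef {y : X} (F : Frame D y) (l : Fin r) : X.presheaf.stalk y :=
  (F.basis hE).repr (E.presheaf.germ ⊤ y trivial s) l

theorem Frame.coef_spec {y ξ : X} (F : Frame D y) (h : ξ ⤳ y) (l : Fin r) :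
    (F.spec h).coef hE s l = (X.presheaf.stalkSpecializes h).hom (F.coef hE s l) := by
  have e : E.presheaf.germ ⊤ ξ trivial s = ∑ k, (X.presheaf.stalkSpecializes h).hom (F.coef hE s k) •
      (F.spec h).basis hE k := by
    rw [← TopCat.Presheaf.germ_stalkSpecializes_apply (F := E.presheaf) (U := ⊤) trivial h s,
      ← (F.basis hE).sum_repr (E.presheaf.germ ⊤ y trivial s), map_sum]
    refine Finset.sum_congr rfl fun k _ => ?_
    rw [ZeroSec.stalkSpecializes_smul, F.basis_apply, Frame.basis_apply, F.vec_spec]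
    rfl
  rw [Frame.coef, e, Module.Basis.repr_sum_self]

variable (D) in
/-- Where the section lies in the first pieces modulo the maximal ideal. -/
def zeroSet (i : ℕ) : Set X := {y | E.presheaf.germ ⊤ y trivial s ∈ mixed D i y}

theorem Frame.mem_zeroSet_iff {y : X} (F : Frame D y) (i : ℕ) :
    y ∈ zeroSet D s i ↔ ∀ l : Fin r, i ≤ (l : ℕ) → F.coef hE s l ∈ maximalIdeal (X.presheaf.stalk y) :=
  F.mem_mixed_iff hE i _

theorem zeroSet_zero : zeroSet D s 0 = {y | E.presheaf.germ ⊤ y trivial s ∈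
    maximalIdeal (X.presheaf.stalk y) • (⊤ : Submodule (X.presheaf.stalk y) (E.presheaf.stalk y))} := by
  ext y
  have : phi D 0 y = ⊥ := eq_bot_iff.2 (iSup_le fun l => absurd l.2 (Nat.not_lt_zero _))
  show _ ∈ phi D 0 y ⊔ _ ↔ _
  rw [this, bot_sup_eq]
  rfl

include hE in
theorem zeroSet_top : zeroSet D s r = Set.univ := Set.eq_univ_of_forall fun y =>
  ((nonempty_frame D y).some.mem_zeroSet_iff hE s r).2 fun l hl => absurd l.2 (Nat.not_lt.2 hl)

include hE in
theorem zeroSet.mem_of_specializes {i : ℕ} {ξ y : X} (hξ : ξ ∈ zeroSet D s i) (h : ξ ⤳ y) :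
    y ∈ zeroSet D s i := by
  let F := (nonempty_frame D y).some
  refine (F.mem_zeroSet_iff hE s i).2 fun l hl => ?_
  have h1 := ((F.spec h).mem_zeroSet_iff hE s i).1 hξ l hl
  rw [F.coef_spec] at h1
  rw [IsLocalRing.mem_maximalIdeal, mem_nonunits_iff] at h1 ⊢
  exact fun hu => h1 (hu.map _)

variable (D) in
open Classical in
/-- The value of the section in a piece. -/
def pieceVal (i : Fin r) (ξ : X) : Cyc.secFibre (D.L i) ξ :=
  if h : ∃ m, E.presheaf.germ ⊤ ξ trivial s - Algz.stalkMapₗ (D.f i) ξ m ∈ mixed D i ξ then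
    cls (D.L i) ξ (Algz.stalkMapₗ (D.g i) ξ h.choose)
  else 0

theorem Frame.pieceVal_eq {ξ : X} (F : Frame D ξ) (i : Fin r)
    (hi : ∀ l : Fin r, (i : ℕ) < (l : ℕ) → F.coef hE s l ∈ maximalIdeal (X.presheaf.stalk ξ)) :
    pieceVal D s i ξ = F.coef hE s i • cls (D.L i) ξ (Algz.stalkMapₗ (D.g i) ξ (F.m i)) := by
  classical
  let b := F.basis hE
  have hexists : ∃ m, E.presheaf.germ ⊤ ξ trivial s - Algz.stalkMapₗ (D.f i) ξ m ∈ mixed D i ξ := by
    refine ⟨F.coef hE s i • F.m i, (F.mem_mixed_iff hE i _).2 fun l hl => ?_⟩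
    rw [map_smul, show Algz.stalkMapₗ (D.f i) ξ (F.m i) = F.basis hE i from (F.basis_apply hE i).symm, map_sub,
      map_smul, Module.Basis.repr_self, Finsupp.sub_apply, Finsupp.smul_apply, Finsupp.single_apply]
    rcases Nat.eq_or_lt_of_le hl with hl' | hl'
    · obtain rfl : i = l := Fin.ext hl'
      rw [if_pos rfl, smul_eq_mul, mul_one, Frame.coef, sub_self]
      exact zero_mem _
    · rw [if_neg fun e => (ne_of_lt hl') (congrArg Fin.val e), smul_zero, sub_zero]
      exact hi l hl'
  rw [pieceVal, dif_pos hexists]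
  have hm := (F.mem_mixed_iff hE i _).1 hexists.choose_spec i le_rfl
  obtain ⟨a, ha⟩ := Submodule.mem_span_singleton.1
    ((F.gen_self i).1.ge (Submodule.mem_top : Algz.stalkMapₗ (D.g i) ξ hexists.choose ∈ ⊤))
  have hk := D.ker i ξ (hexists.choose - a • F.m i) (by rw [map_sub, map_smul, ha, sub_self])
  have hk' := F.repr_eq_zero hE (i := (i : ℕ)) (l := i)
    ((iSup_le fun c => le_iSup_of_le (⟨c.1, c.2⟩ : {c : Fin r // (c : ℕ) < (i : ℕ)}) le_rfl :
      (⨆ c : {c : Fin r // c < i}, LinearMap.range (Algz.stalkMapₗ (D.f c.1) ξ)) ≤ phi D i ξ) hk) le_rfl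
  rw [map_sub, map_smul, show Algz.stalkMapₗ (D.f i) ξ (F.m i) = F.basis hE i from (F.basis_apply hE i).symm,
    map_sub, map_smul, Module.Basis.repr_self, Finsupp.sub_apply, Finsupp.smul_apply, Finsupp.single_eq_same,
    smul_eq_mul, mul_one, sub_eq_zero] at hk'
  rw [map_sub, Finsupp.sub_apply, hk'] at hm
  rw [← ha, cls_smul]
  exact ((cls_smul_eq_iff (F.gen_self i) _ _).2 (Ideal.Quotient.eq.2 hm)).symm

end Groth.Agent.H23.Chern

end
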