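import Groth.Agent.H23.Chern.TopFrame
import Groth.Agent.H23.CapFlat
import Groth.Agent.S0611
import Mathlib.RingTheory.Regular.Flat

/-! The coordinate ideals of a section near a point where they give a regular sequence. -/

set_option autoImplicit false
set_option backward.isDefEq.respectTransparency false
set_option backward.isDefEq.respectTransparency.types false

universe u

open CategoryTheory CategoryTheory.Limits AlgebraicGeometry TopologicalSpace Opposite IsLocalRing
open scoped Pointwise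

noncomputable section

namespace Groth.Agent.H23.Chern

open Groth.Agent RatSec CDiv6 StalkPrimes

variable {X : Scheme.{u}} {E : X.Modules} {r : ℕ} {D : Pieces E r} (hE : FlatMod.IsFinLocFreeOfRank r E)
  (s : E.presheaf.obj (op ⊤))

/-- The ideal of the last coordinates. -/
def Frame.ideal {y : X} (F : Frame D y) (i : ℕ) : Ideal (X.presheaf.stalk y) :=
  Ideal.span (F.coef hE s '' {l | i ≤ (l : ℕ)})

theorem Frame.ideal_spec {y ξ : X} (F : Frame D y) (h : ξ ⤳ y) (i : ℕ) :
    (F.spec h).ideal hE s i = (F.ideal hE s i).map (X.presheaf.stalkSpecializes h).hom := by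
  rw [Frame.ideal, Frame.ideal, Ideal.map_span, Set.image_image]
  exact congrArg Ideal.span (Set.image_congr fun l _ => F.coef_spec hE s h l)

theorem Frame.ideal_top {y : X} (F : Frame D y) : F.ideal hE s r = ⊥ := by
  rw [Frame.ideal, Ideal.span_eq_bot]
  rintro _ ⟨l, hl, rfl⟩
  exact absurd l.2 (Nat.not_lt.2 hl)

theorem Frame.ideal_succ {y : X} (F : Frame D y) (i : Fin r) :
    F.ideal hE s i = F.ideal hE s ((i : ℕ) + 1) ⊔ Ideal.span {F.coef hE s i} := by
  rw [Frame.ideal, Frame.ideal, ← Ideal.span_union]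
  refine congrArg Ideal.span ?_
  ext a
  refine ⟨?_, ?_⟩
  · rintro ⟨l, hl, rfl⟩
    rcases Nat.eq_or_lt_of_le hl with hl' | hl'
    · exact Or.inr (congrArg _ (Fin.ext hl').symm)
    · exact Or.inl ⟨l, hl', rfl⟩
  · rintro (⟨l, hl, rfl⟩ | rfl)
    · exact ⟨l, Nat.le_of_succ_le hl, rfl⟩
    · exact ⟨i, le_rfl (a := (i : ℕ)), rfl⟩

theorem Frame.ideal_le_iff {y : X} (F : Frame D y) (i : ℕ) :
    F.ideal hE s i ≤ maximalIdeal (X.presheaf.stalk y) ↔ y ∈ zeroSet D s i := by
  rw [F.mem_zeroSet_iff hE, Frame.ideal, Ideal.span_le, Set.image_subset_iff]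
  rfl

/-- The ideal of the zero scheme of a section at a point. -/
def secIdeal (y : X) : Ideal (X.presheaf.stalk y) :=
  Ideal.span (Set.range fun l => (CurveTensor.exists_basis_stalk hE y).some.repr (E.presheaf.germ ⊤ y trivial s) l)

theorem span_repr_eq {y : X} (b b' : Module.Basis (Fin r) (X.presheaf.stalk y) (E.presheaf.stalk y))
    (e : E.presheaf.stalk y) :
    Ideal.span (Set.range fun l => b.repr e l) = Ideal.span (Set.range fun l => b'.repr e l) :=
  le_antisymm
    (Ideal.span_le.2 (by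
      rintro _ ⟨l, rfl⟩
      exact (mem_smul_top_iff b _ e).1 ((mem_smul_top_iff b' _ e).2 fun m => Ideal.subset_span (Set.mem_range_self m)) l))
    (Ideal.span_le.2 (by
      rintro _ ⟨l, rfl⟩
      exact (mem_smul_top_iff b' _ e).1 ((mem_smul_top_iff b _ e).2 fun m => Ideal.subset_span (Set.mem_range_self m)) l))

theorem secIdeal_eq {y : X} (b : Module.Basis (Fin r) (X.presheaf.stalk y) (E.presheaf.stalk y)) :
    secIdeal hE s y = Ideal.span (Set.range fun l => b.repr (E.presheaf.germ ⊤ y trivial s) l) :=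
  span_repr_eq _ _ _

theorem Frame.ideal_zero {y : X} (F : Frame D y) : F.ideal hE s 0 = secIdeal hE s y := by
  rw [secIdeal_eq hE s (F.basis hE), Frame.ideal]
  refine congrArg Ideal.span ?_
  ext a
  exact ⟨fun ⟨l, _, e⟩ => ⟨l, e⟩, fun ⟨l, e⟩ => ⟨l, Nat.zero_le _, e⟩⟩

include hE in
theorem secIdeal_ne_top_iff (y : X) :
    secIdeal hE s y ≠ ⊤ ↔ E.presheaf.germ ⊤ y trivial s ∈
      maximalIdeal (X.presheaf.stalk y) • (⊤ : Submodule (X.presheaf.stalk y) (E.presheaf.stalk y)) := by
  refine ⟨fun h => (mem_smul_top_iff (CurveTensor.exists_basis_stalk hE y).some _ _).2 fun l =>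
    IsLocalRing.le_maximalIdeal h (Ideal.subset_span ⟨l, rfl⟩), fun h e => ?_⟩
  refine (IsLocalRing.maximalIdeal.isMaximal (X.presheaf.stalk y)).ne_top (top_le_iff.1 ?_)
  rw [← e]
  refine Ideal.span_le.2 ?_
  rintro _ ⟨l, rfl⟩
  exact (mem_smul_top_iff _ _ _).1 h l

variable {x₀ : X} (F : Frame D x₀)

/-- Each coordinate is regular modulo the later ones at every generization. -/
def IsReg : Prop :=
  ∀ (ξ : X) (h : ξ ⤳ x₀) (i : Fin r) (a : X.presheaf.stalk ξ),
    (F.spec h).coef hE s i * a ∈ (F.spec h).ideal hE s ((i : ℕ) + 1) → a ∈ (F.spec h).ideal hE s ((i : ℕ) + 1)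

theorem isReg_of_regular [IsLocallyNoetherian X] {f : Fin r → X.presheaf.stalk x₀}
    (hf : RingTheory.Sequence.IsRegular (X.presheaf.stalk x₀) (List.ofFn f))
    (he : secIdeal hE s x₀ = Ideal.span (Set.range f)) : IsReg hE s F := by
  intro ξ h i a ha
  let A := X.presheaf.stalk x₀
  let b : Fin r → A := fun j => F.coef hE s (Fin.rev j)
  have hb : RingTheory.Sequence.IsRegular A (List.ofFn b) := by
    refine S0611.result f b hf ?_
    rw [← he, ← F.ideal_zero hE s, Frame.ideal]
    refine congrArg Ideal.span ?_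
    ext c
    exact ⟨fun ⟨l, _, e⟩ => ⟨Fin.rev l, by simpa [b] using e⟩, fun ⟨j, e⟩ => ⟨Fin.rev j, Nat.zero_le _, e⟩⟩
  letI : Algebra A (X.presheaf.stalk ξ) := (X.presheaf.stalkSpecializes h).hom.toAlgebra
  haveI := isLocalization_primeOf h
  haveI : Module.Flat A (X.presheaf.stalk ξ) := IsLocalization.flat _ (primeOf h).asIdeal.primeCompl
  have hw : RingTheory.Sequence.IsWeaklyRegular (X.presheaf.stalk ξ)
      (List.ofFn fun j => (F.spec h).coef hE s (Fin.rev j)) := by
    have := hb.toIsWeaklyRegular.of_flat (S := X.presheaf.stalk ξ)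
    rw [List.map_ofFn] at this
    rwa [show (fun j => (F.spec h).coef hE s (Fin.rev j)) = algebraMap A (X.presheaf.stalk ξ) ∘ b from
      funext fun j => F.coef_spec hE s h _]
  have hi := (RingTheory.Sequence.isWeaklyRegular_iff _ _).1 hw ((Fin.rev i : Fin r) : ℕ)
    (by rw [List.length_ofFn]; exact (Fin.rev i).2)
  rw [List.getElem_ofFn, show Fin.rev (⟨((Fin.rev i : Fin r) : ℕ), _⟩ : Fin r) = i from Fin.rev_rev i] at hi
  have hI : (Ideal.ofList ((List.ofFn fun j => (F.spec h).coef hE s (Fin.rev j)).take (Fin.rev i : Fin r)) •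
      (⊤ : Submodule (X.presheaf.stalk ξ) (X.presheaf.stalk ξ))) = (F.spec h).ideal hE s ((i : ℕ) + 1) := by
    rw [Ideal.smul_eq_mul, Ideal.mul_top, Ideal.ofList, Frame.ideal]
    refine congrArg Ideal.span ?_
    ext c
    simp only [Set.mem_setOf_eq, List.mem_take_iff_getElem, List.getElem_ofFn, Set.mem_image]
    constructor
    · rintro ⟨j, hj, rfl⟩
      rw [List.length_ofFn] at hj
      exact ⟨Fin.rev ⟨j, by omega⟩, by simp [Fin.val_rev] at hj ⊢; omega, rfl⟩
    · rintro ⟨l, hl, rfl⟩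
      refine ⟨((Fin.rev l : Fin r) : ℕ), ?_, ?_⟩
      · rw [List.length_ofFn]; simp [Fin.val_rev]; omega
      · exact congrArg _ (Fin.rev_rev l)
  rw [← Ideal.Quotient.eq_zero_iff_mem]
  have key := hi.right_eq_zero_of_smul (x := Submodule.Quotient.mk a) ?_
  · rw [Submodule.Quotient.mk_eq_zero, hI] at key
    exact Ideal.Quotient.eq_zero_iff_mem.2 key
  · rw [← Submodule.Quotient.mk_smul, Submodule.Quotient.mk_eq_zero, hI, smul_eq_mul]
    exact ha

/-- The zero loci of the last coordinates have the expected dimension. -/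
theorem delta_le [IsLocallyNoetherian X] {δ : X → ℤ} (hd : Cyc.IsDimFun X δ) {n : ℤ} (hn : ∀ x, δ x ≤ n)
    (hR : IsReg hE s F) :
    ∀ j : ℕ, j ≤ r → ∀ (ξ : X) (h : ξ ⤳ x₀),
      (F.spec h).ideal hE s (r - j) ≤ maximalIdeal (X.presheaf.stalk ξ) → δ ξ ≤ n - j := by
  intro j
  induction j with
  | zero => intro _ ξ _ _; simpa using hn ξ
  | succ j ih =>
    intro hj ξ h hle
    let i : Fin r := ⟨r - (j + 1), by omega⟩
    have hi : (i : ℕ) + 1 = r - j := by show r - (j + 1) + 1 = r - j; omega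
    let G := F.spec h
    have hI : G.ideal hE s ((i : ℕ) + 1) ≤ maximalIdeal (X.presheaf.stalk ξ) :=
      (le_sup_left.trans (G.ideal_succ hE s i).ge).trans hle
    obtain ⟨p, hp, hpm⟩ := Ideal.exists_minimalPrimes_le hI
    haveI := hp.1.1
    obtain ⟨ξ', h', hξ'⟩ := exists_point p
    have hc : G.coef hE s i ∈ maximalIdeal (X.presheaf.stalk ξ) :=
      hle ((G.ideal_succ hE s i).ge (Submodule.mem_sup_right (Ideal.mem_span_singleton_self _)))
    have hcp : G.coef hE s i ∉ p := by
      intro hmem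
      obtain ⟨a, ha, ham⟩ := Ideal.exists_mul_mem_of_mem_minimalPrimes hp hmem
      exact ha (hR ξ h i a ham)
    have hne : ξ' ≠ ξ := by
      rintro rfl
      rw [ZeroSec.primeOf_refl'] at hξ'
      exact hcp (hξ' ▸ hc)
    have h1 := CycLib.delta_lt hd h' hne
    have h2 := ih (by omega) ξ' (h'.trans h) (by
      rw [← hi, Frame.ideal, Ideal.span_le]
      rintro _ ⟨l, hl, rfl⟩
      have hmem : G.coef hE s l ∈ (primeOf h').asIdeal := by
        rw [hξ']; exact hp.1.2 (Ideal.subset_span ⟨l, hl, rfl⟩)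
      rw [mem_primeOf] at hmem
      rw [SetLike.mem_coe, IsLocalRing.mem_maximalIdeal, mem_nonunits_iff, Frame.coef_spec]
      rw [Frame.coef_spec, ← CommRingCat.comp_apply, TopCat.Presheaf.stalkSpecializes_comp] at hmem
      exact hmem)
    push_cast
    omega

end Groth.Agent.H23.Chern

end
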