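import Groth.Agent.H23.Chern.TopLocal
import Groth.Agent.H23.Chern.Translate
import Groth.Agent.H23.FundCycle

/-! The top Chern class of a filtered module is the cycle of zeros of a regular section. -/

set_option autoImplicit false
set_option backward.isDefEq.respectTransparency false
set_option backward.isDefEq.respectTransparency.types false

universe u

open CategoryTheory CategoryTheory.Limits AlgebraicGeometry TopologicalSpace Opposite IsLocalRing
open scoped Pointwise

noncomputable section

namespace Groth.Agent.H23.Chern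

open Groth.Agent Groth.Agent.H23.ProjBd RatSec ChowDesc CDiv6 StalkPrimes

variable {X : Scheme.{u}} {δ : X → ℤ} (hX : Cyc.IsSetup X δ) {E : X.Modules} {r : ℕ} (D : Pieces E r)

/-- Sections of the pieces used to cap. -/
def secs (s : E.presheaf.obj (op ⊤)) (i : Fin r) (ξ : X) : Cyc.secFibre (D.L i) ξ :=
  open Classical in if pieceVal D s i ξ ≠ 0 then pieceVal D s i ξ else (exists_sections (D.inv i)).choose ξ

theorem secs_ne_zero (s : E.presheaf.obj (op ⊤)) (i : Fin r) (ξ : X) : secs D s i ξ ≠ 0 := by
  classical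
  rw [secs]
  split_ifs with h
  · exact h
  · exact (exists_sections (D.inv i)).choose_spec ξ

/-- The index of the `j`-th cap. -/
def idx {r j : ℕ} (h : j < r) : Fin r := ⟨r - (j + 1), by omega⟩

/-- The successive caps of the fundamental cycle. -/
def caps (s : E.presheaf.obj (op ⊤)) (n : ℤ) : ℕ → AlgebraicCycle X ℤ
  | 0 => @FundCycle.fund X hX.1 δ n
  | j + 1 =>
    if h : j < r then
      @c1CapCycle X _ hX.1 δ (D.inv (idx h)) hX.2.2 (caps s n j) (secs D s (idx h)) (secs_ne_zero D s (idx h))
    else 0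

variable (hE : FlatMod.IsFinLocFreeOfRank r E) (s : E.presheaf.obj (op ⊤)) (n : ℤ)

include hX in
theorem caps_mem (hn : ∀ x, δ x ≤ n) : ∀ j : ℕ, caps hX D s n j ∈ Cyc.Zk X δ (n - j)
  | 0 => fun x hx => by
    haveI := hX.1
    show FundCycle.fund δ n x = 0
    rw [FundCycle.coe_fund, FundCycle.subschemeFun_id, if_neg (by simpa using hx)]
  | j + 1 => by
    haveI := hX.1
    rw [caps]
    split_ifs with h
    · rw [show n - ((j + 1 : ℕ) : ℤ) = n - j - 1 by push_cast; ring]
      exact C1Class.capCycle_mem (D.inv (idx h)) hX.2.2 (caps_mem hn j) _ _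
    · exact (ChowOps.zk X δ _).zero_mem

include hX hE in
theorem caps_support : ∀ j : ℕ, j ≤ r → ∀ x, caps hX D s n j x ≠ 0 → x ∈ zeroSet D s (r - j)
  | 0, _, x, _ => by rw [Nat.sub_zero, zeroSet_top hE]; trivial
  | j + 1, hj, x, hx => by
    haveI := hX.1
    let i := idx (show j < r by omega)
    have hi : (i : ℕ) + 1 = r - j := by show r - (j + 1) + 1 = r - j; omega
    rw [caps, dif_pos (show j < r by omega), coe_c1CapCycle] at hx
    by_contra hxz
    refine hx (finsum_eq_zero_of_forall_eq_zero fun ξ => ?_)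
    by_cases hA : caps hX D s n j ξ = 0
    · rw [hA, zero_mul]
    by_cases hh : ξ ⤳ x ∧ δ x + 1 = δ ξ
    swap
    · rw [show Cyc.secDivFun δ (D.L i) ξ _ x = 0 from dif_neg hh, mul_zero]
    have hξ := caps_support j (by omega) ξ hA
    rw [← hi] at hξ
    have hxs := zeroSet.mem_of_specializes hE s hξ hh.1
    let G := (nonempty_frame D x).some
    have hu : IsUnit (G.coef hE s i) := by
      by_contra hu
      refine hxz ((G.mem_zeroSet_iff hE s _).2 fun l hl => ?_)
      rcases Nat.eq_or_lt_of_le (show (i : ℕ) ≤ l from hl) with hl' | hl'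
      · rwa [← Fin.ext hl', IsLocalRing.mem_maximalIdeal, mem_nonunits_iff]
      · exact (G.mem_zeroSet_iff hE s _).1 hxs l hl'
    have hres : X.residue ξ ((X.presheaf.stalkSpecializes hh.1).hom (G.coef hE s i)) ≠ 0 :=
      (IsLocalRing.residue_ne_zero_iff_isUnit _).2 (hu.map _)
    have hgen := G.gen i ξ hh.1
    have hpv : pieceVal D s i ξ = (X.presheaf.stalkSpecializes hh.1).hom (G.coef hE s i) •
        cls (D.L i) ξ ((D.L i).presheaf.stalkSpecializes hh.1 (Algz.stalkMapₗ (D.g i) x (G.m i))) := by
      rw [(G.spec hh.1).pieceVal_eq hE s i fun l hl => ((G.spec hh.1).mem_zeroSet_iff hE s _).1 hξ l hl,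
        G.coef_spec]
      exact congrArg (fun e => _ • cls (D.L i) ξ e) (stalkMapₗ_spec (D.g i) hh.1 (G.m i))
    have hv : secs D s i ξ = pieceVal D s i ξ := if_pos (by rw [hpv]; exact (residue_ne_zero hgen).1 hres)
    rw [secDivFun_eq (D.inv i) hX.2.2 hh.1 (G.gen_self i).1 (hv.trans hpv) hres,
      CycLib.divFun_eq δ _ hh.1 hh.2]
    exact mul_eq_zero_of_right _ (CycLib.ordAt_eq_zero_of_isUnit hX.2.2 hh.1 hh.2 hu)

variable {x₀ : X} (F : Frame D x₀)

include hX in
theorem caps_local (hn : ∀ x, δ x ≤ n) (hR : IsReg hE s F) : ∀ j : ℕ, j ≤ r → ∀ (y : X) (h : y ⤳ x₀),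
    δ y = n - j → caps hX D s n j y = ((Module.length (X.presheaf.stalk y)
      (X.presheaf.stalk y ⧸ (F.spec h).ideal hE s (r - j))).toNat : ℤ)
  | 0, _, y, h, hy => by
    haveI := hX.1
    show FundCycle.fund δ n y = _
    rw [FundCycle.coe_fund, FundCycle.subschemeFun_id, if_pos (by simpa using hy), Nat.sub_zero,
      Frame.ideal_top, (Submodule.quotEquivOfEqBot (⊥ : Ideal (X.presheaf.stalk y)) rfl).length_eq]
  | j + 1, hj, y, h, hy => by
    classical
    haveI := hX.1
    let i := idx (show j < r by omega)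
    have hi : (i : ℕ) + 1 = r - j := by show r - (j + 1) + 1 = r - j; omega
    let G := F.spec h
    let A := X.presheaf.stalk y
    let I := G.ideal hE s ((i : ℕ) + 1)
    let f := G.coef hE s i
    let t := Algz.stalkMapₗ (D.g i) y (G.m i)
    let v : (ξ : X) → Cyc.secFibre (D.L i) ξ := fun ξ =>
      if hh : ξ ⤳ y then
        if ξ ∈ zeroSet D s ((i : ℕ) + 1) then secs D s i ξ
        else (X.presheaf.stalkSpecializes hh).hom f • cls (D.L i) ξ ((D.L i).presheaf.stalkSpecializes hh t)
      else secs D s i ξ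
    have hk : n - ((j + 1 : ℕ) : ℤ) = n - j - 1 := by push_cast; ring
    have e : caps hX D s n (j + 1) y = Cyc.c1CapFun δ (D.L i) ⇑(caps hX D s n j) v y := by
      rw [caps, dif_pos (show j < r by omega), coe_c1CapCycle]
      refine finsum_congr fun ξ => ?_
      by_cases hA : caps hX D s n j ξ = 0
      · rw [hA, zero_mul, zero_mul]
      by_cases hh : ξ ⤳ y
      swap
      · simp only [v, dif_neg hh]
        rfl
      have hξ := caps_support hX D hE s n j (by omega) ξ hA
      rw [← hi] at hξ
      simp only [v, dif_pos hh, if_pos hξ]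
      rfl
    have key := CapLocal.c1CapFun_sec_eq (M := A ⧸ I) hX.2.2 (D.inv i) v (k := n - j - 1)
      (α := ⇑(caps hX D s n j)) (fun ξ hξ => caps_mem hX D s n hn j ξ (by omega)) (x := y) (hy.trans hk)
      (t := t) (G.gen_self i).1 (f := f) ?_ ?_ ?_ ?_
    · rw [e, key]
      refine congrArg (fun m : ℕ∞ => ((m.toNat : ℕ) : ℤ)) ?_
      have hJ : f • (⊤ : Submodule A (A ⧸ I)) = Submodule.map (Submodule.mkQ I) (Ideal.span {f}) := by
        rw [← Submodule.ideal_span_singleton_smul, ← Submodule.range_mkQ I, ← Submodule.map_top,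
          ← Submodule.map_smul'', Ideal.smul_eq_mul, Ideal.mul_top]
      rw [hJ, (Submodule.quotientQuotientEquivQuotientSup I (Ideal.span {f})).length_eq,
        show r - (j + 1) = (i : ℕ) from rfl, G.ideal_succ hE s i]
    · intro ξ hh hδ hres
      by_cases hξ : ξ ∈ zeroSet D s ((i : ℕ) + 1)
      · simp only [v, dif_pos hh, if_pos hξ]
        have hpv : pieceVal D s i ξ = (X.presheaf.stalkSpecializes hh).hom f •
            cls (D.L i) ξ ((D.L i).presheaf.stalkSpecializes hh t) := by
          rw [(G.spec hh).pieceVal_eq hE s i fun l hl => ((G.spec hh).mem_zeroSet_iff hE s _).1 hξ l hl,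
            G.coef_spec]
          exact congrArg (fun e => _ • cls (D.L i) ξ e) (stalkMapₗ_spec (D.g i) hh (G.m i))
        rw [secs, if_pos (by rw [hpv]; exact (residue_ne_zero (G.gen i ξ hh)).1 hres)]
        exact hpv
      · simp only [v, dif_pos hh, if_neg hξ]
    · intro a b hab
      obtain ⟨a, rfl⟩ := Ideal.Quotient.mk_surjective a
      obtain ⟨b, rfl⟩ := Ideal.Quotient.mk_surjective b
      refine Ideal.Quotient.eq.2 (hR y h i (a - b) ?_)
      rw [mul_sub]
      exact (Submodule.Quotient.eq I).1 hab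
    · intro ξ hh hsupp
      rw [Module.support_eq_zeroLocus, Ideal.annihilator_quotient, PrimeSpectrum.mem_zeroLocus] at hsupp
      have := delta_le hE s F hX.2.2 hn hR j (by omega) ξ (hh.trans h) (by
        rw [← hi, Frame.ideal, Ideal.span_le]
        rintro _ ⟨l, hl, rfl⟩
        have hmem : G.coef hE s l ∈ (primeOf hh).asIdeal := hsupp (Ideal.subset_span ⟨l, hl, rfl⟩)
        rw [mem_primeOf, Frame.coef_spec, ← CommRingCat.comp_apply,
          TopCat.Presheaf.stalkSpecializes_comp] at hmem
        rw [SetLike.mem_coe, IsLocalRing.mem_maximalIdeal, mem_nonunits_iff, Frame.coef_spec]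
        exact hmem)
      omega
    · intro ξ hh hδ
      rw [caps_local hn hR j (by omega) ξ (hh.trans h) (by omega)]
      refine congrArg (fun m : ℕ∞ => ((m.toNat : ℕ) : ℤ)) ?_
      letI : Algebra A (X.presheaf.stalk ξ) := (X.presheaf.stalkSpecializes hh).hom.toAlgebra
      haveI := isLocalization_primeOf hh
      rw [CapFlat.length_localized_cyclic (S := X.presheaf.stalk ξ) I (primeOf hh).asIdeal]
      have hI : (F.spec (hh.trans h)).ideal hE s (r - j) = I.map (algebraMap A (X.presheaf.stalk ξ)) := by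
        show _ = ((F.spec h).ideal hE s ((i : ℕ) + 1)).map (X.presheaf.stalkSpecializes hh).hom
        rw [hi, Frame.ideal_spec, Frame.ideal_spec, Ideal.map_map, ← CommRingCat.hom_comp,
          TopCat.Presheaf.stalkSpecializes_comp]
      rw [hI]

/-- The coefficients of the cycle of zeros of a section. -/
def zeroFun (δ : X → ℤ) (k : ℤ) (hE : FlatMod.IsFinLocFreeOfRank r E) (s : E.presheaf.obj (op ⊤)) (x : X) : ℤ :=
  if δ x = k then ((Module.length (X.presheaf.stalk x) (X.presheaf.stalk x ⧸ secIdeal hE s x)).toNat : ℤ) else 0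

include hX in
theorem caps_eq_zeroFun (hn : ∀ x, δ x ≤ n)
    (hgood : ∀ x, δ x = n - r → secIdeal hE s x ≠ ⊤ → ∃ f : Fin r → X.presheaf.stalk x,
      RingTheory.Sequence.IsRegular (X.presheaf.stalk x) (List.ofFn f) ∧ secIdeal hE s x = Ideal.span (Set.range f))
    : ⇑(caps hX D s n r) = zeroFun δ (n - r) hE s := by
  haveI := hX.1
  funext x
  by_cases hx : δ x = n - r
  swap
  · rw [zeroFun, if_neg hx]
    exact caps_mem hX D s n hn r x hx
  rw [zeroFun, if_pos hx]
  by_cases hz : secIdeal hE s x = ⊤
  · rw [hz, Module.length_eq_zero]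
    by_contra hne
    have h := caps_support hX D hE s n r le_rfl x (by simpa using hne)
    rw [Nat.sub_self, zeroSet_zero] at h
    exact (secIdeal_ne_top_iff hE s x).2 h hz
  obtain ⟨f, hf, he⟩ := hgood x hx hz
  let G := (nonempty_frame D x).some
  rw [caps_local hX D hE s n G hn (isReg_of_regular hE s G hf he) r le_rfl x (specializes_refl x) hx,
    Nat.sub_self, Frame.ideal_zero]

/-- The product of the first classes of the pieces, in reverse order. -/
def capOps : ℕ → CR hX
  | 0 => 1
  | j + 1 => if h : j < r then lR hX (D.inv (idx h)) * capOps j else 0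

theorem capOps_eq : capOps hX D r = ∏ l : Fin r, lR hX (D.inv l) := by
  have h : ∀ j, j ≤ r → capOps hX D j = ∏ l ∈ Finset.univ.filter (fun l : Fin r => r - j ≤ (l : ℕ)), lR hX (D.inv l) := by
    intro j
    induction j with
    | zero =>
      intro _
      rw [capOps, Finset.filter_false_of_mem fun l _ => by have := l.2; omega, Finset.prod_empty]
    | succ j ih =>
      intro hj
      rw [capOps, dif_pos (show j < r by omega), ih (by omega)]
      rw [show Finset.univ.filter (fun l : Fin r => r - (j + 1) ≤ (l : ℕ)) =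
        insert (idx (show j < r by omega)) (Finset.univ.filter (fun l : Fin r => r - j ≤ (l : ℕ))) by
          ext l; simp [idx, Fin.ext_iff]; omega, Finset.prod_insert (by simp [idx]; omega)]
  rw [h r le_rfl, Finset.filter_true_of_mem fun l _ => by simp]

include hX in
theorem emc_caps (hn : ∀ x, δ x ≤ n) : ∀ j : ℕ, j ≤ r →
    emc δ (n - j) (caps hX D s n j) = (capOps hX D j).1 (emc δ n (caps hX D s n 0))
  | 0, _ => by simp [capOps]
  | j + 1, hj => by
    haveI := hX.1
    rw [capOps, dif_pos (show j < r by omega), mul_apply, ← emc_caps hn j (by omega),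
      lR_emc hX _ (caps_mem hX D s n hn j), show n - ((j + 1 : ℕ) : ℤ) = n - j - 1 by push_cast; ring]
    have hm := caps_mem hX D s n hn (j + 1)
    rw [show n - ((j + 1 : ℕ) : ℤ) = n - j - 1 by push_cast; ring] at hm
    refine (emc_congr (c1v_mem hX _ (caps_mem hX D s n hn j)) hm ?_).symm
    refine c1v_eq hX _ (caps_mem hX D s n hn j) (ratEquiv_rfl _) (secs_ne_zero D s _) ?_
    rw [caps, dif_pos (show j < r by omega), coe_c1CapCycle]

include hX in
theorem emc_esym (hE : FlatMod.IsFinLocFreeOfRank r E) {k : ℤ} {a : AlgebraicCycle X ℤ} (ha : a ∈ Cyc.Zk X δ k) :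
    (cR hX hE r).1 (emc δ k a) = (∏ l : Fin r, lR hX (D.inv l)).1 (emc δ k a) := by
  haveI := hX.1
  let t := fun l => (exists_sections (D.inv l)).choose
  have ht : ∀ l ξ, t l ξ ≠ 0 := fun l => (exists_sections (D.inv l)).choose_spec
  have key : ∀ j, j ≤ r → emc δ (k - j) (esym hX.2.2 t ht a j j) =
      (∏ l ∈ Finset.univ.filter (fun l : Fin r => (l : ℕ) < j), lR hX (D.inv l)).1 (emc δ k a) := by
    intro j
    induction j with
    | zero => intro _; simp [esym]
    | succ j ih =>
      intro hj
      rw [show Finset.univ.filter (fun l : Fin r => (l : ℕ) < j + 1) =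
        insert (⟨j, by omega⟩ : Fin r) (Finset.univ.filter (fun l : Fin r => (l : ℕ) < j)) by
          ext l; simp [Fin.ext_iff]; omega, Finset.prod_insert (by simp), mul_apply, ← ih (by omega),
        lR_emc hX _ (esym_mem hX.2.2 t ht a ha j j), show k - ((j + 1 : ℕ) : ℤ) = k - j - 1 by push_cast; ring]
      refine (congrArg (emc δ (k - j - 1)) ?_).trans rfl
      simp only [esym, esym_gt hX.2.2 t ht a j (j + 1) (Nat.lt_succ_self j), zero_add, dif_pos (show j < r by omega)]
      rfl
  have h := cR_emc hX hE (isC_esym hX hE hX.2.2 D t ht ha) ha r rfl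
  rw [dif_pos le_rfl] at h
  rw [h]
  refine (key r le_rfl).trans ?_
  rw [Finset.filter_true_of_mem fun l _ => l.2]

include hX hE D in
/-- The top class of a module with pieces caps the fundamental cycle to the zeros of a section. -/
theorem cR_top_eq (hn : ∀ x, δ x ≤ n)
    (hgood : ∀ x, δ x = n - r → secIdeal hE s x ≠ ⊤ → ∃ f : Fin r → X.presheaf.stalk x,
      RingTheory.Sequence.IsRegular (X.presheaf.stalk x) (List.ofFn f) ∧ secIdeal hE s x = Ideal.span (Set.range f))
    {α ζ : AlgebraicCycle X ℤ} (hα : ⇑α = Cyc.subschemeFun δ n (𝟙 X)) (hζ : ⇑ζ = zeroFun δ (n - r) hE s) :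
    (cR hX hE r).1 (emc δ n α) = emc δ (n - r) ζ := by
  haveI := hX.1
  obtain rfl : α = caps hX D s n 0 := DFunLike.coe_injective hα
  obtain rfl : ζ = caps hX D s n r := DFunLike.coe_injective (hζ.trans (caps_eq_zeroFun hX D hE s n hn hgood).symm)
  rw [emc_esym hX D hE (by simpa using caps_mem hX D s n hn 0), ← capOps_eq, emc_caps hX D s n hn r le_rfl]

end Groth.Agent.H23.Chern

end
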