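import Groth.Agent.H23.Chern.Split
import Groth.Agent.H23.ProjBd.Eta
import Groth.Agent.AlgSpLib.DescendLocally
import Mathlib.AlgebraicGeometry.Morphisms.Smooth

/-! Towers of projective bundles are smooth, and integral over integral schemes. -/

set_option autoImplicit false
set_option backward.isDefEq.respectTransparency false
set_option backward.isDefEq.respectTransparency.types false

universe u

open CategoryTheory CategoryTheory.Limits AlgebraicGeometry TopologicalSpace Opposite

noncomputable section

namespace Groth.Agent.H23.Chern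

open Groth.Agent Groth.Agent.H23.ProjBd RatSec

variable {X P : Scheme.{u}} {p : P ⟶ X} {O1 : P.Modules} {n : ℕ}

theorem coords_smooth {U : X.Opens} (c : Coords p O1 n U) (j : Fin (n + 1)) : Smooth ((c.W j).ι ≫ p) := by
  have h : (p.appLE U (c.W j) (c.le j)).hom.Smooth := by
    have e : (p.appLE U (c.W j) (c.le j)).hom = (c.ψ j).comp MvPolynomial.C := RingHom.ext fun a => (c.ψ_C j a).symm
    rw [e]
    refine RingHom.Smooth.comp ?_ (RingHom.Smooth.of_bijective (c.bij j))
    exact RingHom.smooth_def.2 ⟨(RingHom.formallySmooth_algebraMap (R := Γ(X, U)) (S := MvPolynomial (Fin n) Γ(X, U))).2 inferInstance,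
      (RingHom.finitePresentation_algebraMap (A := Γ(X, U)) (B := MvPolynomial (Fin n) Γ(X, U))).2 inferInstance⟩
  have e2 : (c.W j).ι ≫ p = (c.affine j).isoSpec.hom ≫ Spec.map (p.appLE U (c.W j) (c.le j)) ≫ c.isAffine.fromSpec := by
    rw [IsAffineOpen.SpecMap_appLE_fromSpec p c.isAffine (c.affine j), IsAffineOpen.fromSpec, Category.assoc,
      Iso.hom_inv_id_assoc]
  rw [e2]
  haveI : Smooth (Spec.map (p.appLE U (c.W j) (c.le j))) := (HasRingHomProperty.Spec_iff (P := @Smooth)).2 h
  infer_instance

theorem hasCoords_smooth (hP : HasCoords p O1 n) : Smooth p := by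
  let ι := Σ _ : X, Fin (n + 1)
  refine IsZariskiLocalAtSource.of_iSup_eq_top (P := @Smooth) (fun i : ι => (hP.coords i.1).W i.2) ?_
    fun i => coords_smooth (hP.coords i.1) i.2
  ext z
  simp only [Opens.coe_iSup, Set.mem_iUnion, Opens.coe_top, Set.mem_univ, iff_true]
  obtain ⟨j, hj⟩ := (hP.coords (p z)).cover z (hP.mem_nhd (p z))
  exact ⟨⟨p z, j⟩, hj⟩

theorem hasCoords_irreducible (hP : HasCoords p O1 n) [IrreducibleSpace X] : IrreducibleSpace P := by
  set g := genericPoint X
  have hg : ∀ {U : X.Opens} {x : X}, x ∈ U → g ∈ U := fun {U x} hx =>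
    (genericPoint_specializes x).mem_open U.2 hx
  obtain ⟨η, hη⟩ := (hP.coords g).exists_isEta (hP.mem_nhd g) (Nat.zero_le n)
  haveI : Nonempty P := ⟨η⟩
  suffices h : ∀ z, η ⤳ z by
    haveI : PreirreducibleSpace P := ⟨fun U V hU hV ⟨a, _, ha⟩ ⟨b, _, hb⟩ =>
      ⟨η, trivial, (h a).mem_open hU ha, (h b).mem_open hV hb⟩⟩
    exact ⟨inferInstance⟩
  intro z
  obtain ⟨η', hη'⟩ := (hP.coords (p z)).exists_isEta (hg (hP.mem_nhd (p z))) (Nat.zero_le n)
  refine Specializes.trans ?_ (hη'.gen z (hP.mem_nhd (p z)) (genericPoint_specializes _) fun _ l hl =>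
    absurd hl (Nat.not_lt_zero _))
  exact hη.gen η' (by rw [hη'.apply_eq]; exact hP.mem_nhd g) (specializes_of_eq hη'.apply_eq.symm) fun _ l hl =>
    absurd hl (Nat.not_lt_zero _)

theorem Tower.smooth {π : P ⟶ X} {d : ℕ} (h : Tower π d) : Smooth π := by
  induction h with
  | of_iso π h => infer_instance
  | step π d h p E O1 q n hE hP ih =>
    haveI := hasCoords_smooth (hasCoords_of_projBundle hP hE)
    infer_instance

theorem Tower.irreducible {π : P ⟶ X} {d : ℕ} (h : Tower π d) : IrreducibleSpace X → IrreducibleSpace P := by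
  induction h with
  | @of_iso X π h =>
    intro hX
    let e := Scheme.Hom.homeomorph π
    haveI : Nonempty P := Nonempty.map e.symm hX.toNonempty
    haveI : PreirreducibleSpace P := ⟨by
      have := (PreirreducibleSpace.isPreirreducible_univ (X := X)).image e.symm e.symm.continuous.continuousOn
      rwa [Set.image_univ, e.symm.surjective.range_eq] at this⟩
    exact ⟨inferInstance⟩
  | step π d h p E O1 q n hE hP ih =>
    intro hX
    haveI := hX
    exact ih (hasCoords_irreducible (hasCoords_of_projBundle hP hE))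

theorem Tower.isIntegral {π : P ⟶ X} {d : ℕ} (h : Tower π d) [IsIntegral X] : IsIntegral P := by
  haveI := h.irreducible inferInstance
  haveI := h.smooth
  haveI := AlgSpLib.isReduced_of_smooth π
  exact isIntegral_of_irreducibleSpace_of_isReduced P

end Groth.Agent.H23.Chern

end
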