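import Groth.Agent.H23.Chern.Rank

/-! The Whitney sum formula. -/

set_option autoImplicit false
set_option backward.isDefEq.respectTransparency false
set_option backward.isDefEq.respectTransparency.types false

universe u

open CategoryTheory CategoryTheory.Limits AlgebraicGeometry TopologicalSpace Opposite

noncomputable section

namespace Groth.Agent.H23.Chern

open Groth.Agent Groth.Agent.H23.ProjBd RatSec ChowDesc

variable {X : Scheme.{u}} {δ : X → ℤ}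

theorem capCycle_congr [IsLocallyNoetherian X] (hd : Cyc.IsDimFun X δ) {L L' : X.Modules} (e : L = L')
    (hL : PicF.IsInvertible L) (hL' : PicF.IsInvertible L') {t : (ξ : X) → Cyc.secFibre L ξ}
    {t' : (ξ : X) → Cyc.secFibre L' ξ} (h : HEq t t') (ht : ∀ ξ, t ξ ≠ 0) (ht' : ∀ ξ, t' ξ ≠ 0)
    {a a' : AlgebraicCycle X ℤ} (ha : a = a') :
    c1CapCycle hL hd a t ht = c1CapCycle hL' hd a' t' ht' := by
  subst e ha
  obtain rfl := eq_of_heq h
  rfl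

variable {E₁ E E₂ : X.Modules} {r₁ r₂ : ℕ} {D : Pieces E (r₁ + r₂)} {D₁ : Pieces E₁ r₁} {D₂ : Pieces E₂ r₂}
  [IsLocallyNoetherian X] (hd : Cyc.IsDimFun X δ) (t : (i : Fin (r₁ + r₂)) → (ξ : X) → Cyc.secFibre (D.L i) ξ)
  (ht : ∀ i ξ, t i ξ ≠ 0) (t₁ : (i : Fin r₁) → (ξ : X) → Cyc.secFibre (D₁.L i) ξ) (ht₁ : ∀ i ξ, t₁ i ξ ≠ 0)
  (t₂ : (i : Fin r₂) → (ξ : X) → Cyc.secFibre (D₂.L i) ξ) (ht₂ : ∀ i ξ, t₂ i ξ ≠ 0) (α : AlgebraicCycle X ℤ)
  (h₁ : ∀ i, D.L (Fin.castAdd r₂ i) = D₁.L i) (h₂ : ∀ i, D.L (Fin.natAdd r₁ i) = D₂.L i)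
  (e₁ : ∀ i, HEq (t (Fin.castAdd r₂ i)) (t₁ i)) (e₂ : ∀ i, HEq (t (Fin.natAdd r₁ i)) (t₂ i))

include h₁ e₁ in
theorem esym_left : ∀ (j : ℕ), j ≤ r₁ → ∀ i, esym hd t ht α j i = esym hd t₁ ht₁ α j i
  | 0, _, 0 => by simp [esym]
  | 0, _, _ + 1 => by simp [esym]
  | j + 1, hj, 0 => by simp [esym_zero]
  | j + 1, hj, i + 1 => by
    simp only [esym, dif_pos (show j < r₁ + r₂ by omega), dif_pos (show j < r₁ by omega)]
    rw [esym_left j (by omega) (i + 1)]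
    congr 1
    exact capCycle_congr hd (h₁ ⟨j, by omega⟩) _ _ (e₁ ⟨j, by omega⟩) _ _ (esym_left j (by omega) i)

include h₁ e₁ h₂ e₂ in
theorem esym_right : ∀ (j : ℕ), j ≤ r₂ → ∀ i, esym hd t ht α (r₁ + j) i =
    ∑ a ∈ Finset.range (i + 1), esym hd t₂ ht₂ (esym hd t₁ ht₁ α r₁ a) j (i - a)
  | 0, _, i => by
    rw [Nat.add_zero, esym_left hd t ht t₁ ht₁ α h₁ e₁ r₁ le_rfl i, Finset.sum_range_succ, Nat.sub_self, esym_zero,
      Finset.sum_eq_zero fun a ha => esym_gt hd t₂ ht₂ _ 0 (i - a) (by have := Finset.mem_range.1 ha; omega), zero_add]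
  | j + 1, hj, 0 => by simp [esym_zero]
  | j + 1, hj, i + 1 => by
    rw [← Nat.add_assoc]
    simp only [esym, dif_pos (show r₁ + j < r₁ + r₂ by omega)]
    rw [Finset.sum_range_succ (fun a => esym hd t₂ ht₂ (esym hd t₁ ht₁ α r₁ a) (j + 1) (i + 1 - a)) (i + 1),
      Nat.sub_self, esym_zero,
      esym_right j (by omega) (i + 1), Finset.sum_range_succ _ (i + 1), Nat.sub_self, esym_zero]
    let F : AlgebraicCycle X ℤ →+ AlgebraicCycle X ℤ :=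
      AddMonoidHom.mk' (fun c => c1CapCycle (D₂.inv ⟨j, by omega⟩) hd c (t₂ ⟨j, by omega⟩) (ht₂ ⟨j, by omega⟩))
        fun c c' => DFunLike.coe_injective (by
          rw [Function.locallyFinsuppWithin.coe_add, coe_c1CapCycle, coe_c1CapCycle, coe_c1CapCycle,
            ← Bivar.c1CapFun_add]
          rfl)
    rw [show c1CapCycle (D.inv ⟨r₁ + j, by omega⟩) hd (esym hd t ht α (r₁ + j) i) (t ⟨r₁ + j, by omega⟩) (ht _) = F _
      from capCycle_congr hd (h₂ ⟨j, by omega⟩) _ (D₂.inv ⟨j, by omega⟩) (e₂ ⟨j, by omega⟩) _ (ht₂ ⟨j, by omega⟩)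
        (esym_right j (by omega) i)]
    rw [map_sum, add_right_comm, ← Finset.sum_add_distrib]
    congr 1
    refine Finset.sum_congr rfl fun a ha => ?_
    rw [show i + 1 - a = i - a + 1 by have := Finset.mem_range.1 ha; omega]
    simp only [esym, dif_pos (show j < r₂ by omega)]
    rfl

variable {a : E₁ ⟶ E} {b : E ⟶ E₂} {hab : a ≫ b = 0}

/-- Sections of the pieces of an extension. -/
def catSec (hex : (ShortComplex.mk a b hab).ShortExact) (D₁ : Pieces E₁ r₁) (D₂ : Pieces E₂ r₂)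
    (t₁ : (i : Fin r₁) → (ξ : X) → Cyc.secFibre (D₁.L i) ξ) (t₂ : (i : Fin r₂) → (ξ : X) → Cyc.secFibre (D₂.L i) ξ) :
    (i : Fin (r₁ + r₂)) → (ξ : X) → Cyc.secFibre ((Pieces.concat hex D₁ D₂).L i) ξ :=
  Fin.addCases (motive := fun i => (ξ : X) → Cyc.secFibre ((Pieces.concat hex D₁ D₂).L i) ξ)
    (fun i => (congrArg (fun L => (ξ : X) → Cyc.secFibre L ξ) (Pieces.concat_L_left hex D₁ D₂ i)).mpr (t₁ i))
    (fun i => (congrArg (fun L => (ξ : X) → Cyc.secFibre L ξ) (Pieces.concat_L_right hex D₁ D₂ i)).mpr (t₂ i))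

theorem ne_zero_heq {L L' : X.Modules} (e : L = L') {t : (ξ : X) → Cyc.secFibre L ξ}
    {t' : (ξ : X) → Cyc.secFibre L' ξ} (h : HEq t t') (h' : ∀ ξ, t' ξ ≠ 0) : ∀ ξ, t ξ ≠ 0 := by
  subst e
  obtain rfl := eq_of_heq h
  exact h'

theorem sum_conv {M : Type*} [AddCommMonoid M] (f : ℕ → ℕ → M) (m n j : ℕ) (hm : ∀ a b, m < a → f a b = 0)
    (hn : ∀ a b, n < b → f a b = 0) :
    (∑ a ∈ Finset.range (j + 1), f a (j - a)) =
      ∑ a : Fin (m + 1), ∑ b : Fin (n + 1), if (a : ℕ) + (b : ℕ) = j then f a b else 0 := by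
  rw [Fin.sum_univ_eq_sum_range fun a => ∑ b : Fin (n + 1), if a + (b : ℕ) = j then f a b else 0]
  have hin : ∀ a, (∑ b : Fin (n + 1), if a + (b : ℕ) = j then f a b else 0) = if a ≤ j then f a (j - a) else 0 := by
    intro a
    rw [Fin.sum_univ_eq_sum_range fun b => if a + b = j then f a b else 0]
    by_cases ha : a ≤ j
    · rw [if_pos ha]
      by_cases hb : j - a < n + 1
      · rw [Finset.sum_eq_single_of_mem (j - a) (Finset.mem_range.2 hb) fun b _ hne => if_neg (by omega),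
          if_pos (by omega)]
      · rw [hn a (j - a) (by omega), Finset.sum_eq_zero fun b hb' => if_neg (by have := Finset.mem_range.1 hb'; omega)]
    · rw [if_neg ha, Finset.sum_eq_zero fun b _ => if_neg (by omega)]
  simp only [hin, ← Finset.sum_filter]
  refine (Finset.sum_subset ?_ fun a ha hna => ?_).symm
  · intro a ha
    simp only [Finset.mem_filter, Finset.mem_range] at ha ⊢
    omega
  · simp only [Finset.mem_filter, Finset.mem_range] at ha hna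
    exact hm a _ (by omega)

theorem ratEquiv_sum {k : ℤ} {ι : Type*} {s : Finset ι} {f g : ι → AlgebraicCycle X ℤ}
    (h : ∀ i ∈ s, Cyc.RatEquiv δ k (f i) (g i)) (hd : Cyc.IsDimFun X δ) :
    Cyc.RatEquiv δ k (∑ i ∈ s, f i) (∑ i ∈ s, g i) := by
  show _ ∈ ratZero hd k
  rw [← Finset.sum_sub_distrib]
  exact (ratZero hd k).sum_mem h

end Groth.Agent.H23.Chern

namespace Groth.Agent.H23.Chern

open Groth.Agent Groth.Agent.H23.ProjBd RatSec ChowDesc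

variable {X : Scheme.{u}} {δ : X → ℤ} {E₁ E E₂ : X.Modules} {a : E₁ ⟶ E} {b : E ⟶ E₂} {hab : a ≫ b = 0}
  {r₁ r₂ : ℕ}

/-- The Whitney formula for filtered modules. -/
theorem whitney_filt (hX : Cyc.IsSetup X δ) (hex : (ShortComplex.mk a b hab).ShortExact)
    (h₁E : FlatMod.IsFinLocFreeOfRank r₁ E₁) (h₂E : FlatMod.IsFinLocFreeOfRank r₂ E₂)
    (hE : FlatMod.IsFinLocFreeOfRank (r₁ + r₂) E) (F₁ : Filt E₁ r₁) (F₂ : Filt E₂ r₂) {k : ℤ}
    {α : AlgebraicCycle X ℤ} (hα : α ∈ Cyc.Zk X δ k) {γ₂ : Fin (r₂ + 1) → AlgebraicCycle X ℤ}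
    (hγ₂ : IsC δ E₂ r₂ k α γ₂) {ε : Fin (r₂ + 1) → Fin (r₁ + 1) → AlgebraicCycle X ℤ}
    (hε : ∀ b : Fin (r₂ + 1), IsC δ E₁ r₁ (k - ((b : ℕ) : ℤ)) (γ₂ b) (ε b))
    {γ : Fin (r₁ + r₂ + 1) → AlgebraicCycle X ℤ} (hγ : IsC δ E (r₁ + r₂) k α γ) (j : Fin (r₁ + r₂ + 1)) :
    Cyc.RatEquiv δ (k - ((j : ℕ) : ℤ)) (γ j)
      (∑ a : Fin (r₁ + 1), ∑ b : Fin (r₂ + 1), if (a : ℕ) + (b : ℕ) = (j : ℕ) then ε b a else 0) := by
  classical
  haveI := hX.1
  have hd := hX.2.2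
  obtain ⟨D₁⟩ := F₁.nonempty_pieces
  obtain ⟨D₂⟩ := F₂.nonempty_pieces
  choose t₁ ht₁ using fun i => RatSec.exists_sections (D₁.inv i)
  choose t₂ ht₂ using fun i => RatSec.exists_sections (D₂.inv i)
  let t := catSec hex D₁ D₂ t₁ t₂
  have e₁ : ∀ i, HEq (t (Fin.castAdd r₂ i)) (t₁ i) := fun i => by
    show HEq (catSec hex D₁ D₂ t₁ t₂ _) _
    rw [catSec, Fin.addCases_left]
    exact cast_heq _ _
  have e₂ : ∀ i, HEq (t (Fin.natAdd r₁ i)) (t₂ i) := fun i => by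
    show HEq (catSec hex D₁ D₂ t₁ t₂ _) _
    rw [catSec, Fin.addCases_right]
    exact cast_heq _ _
  have ht : ∀ i ξ, t i ξ ≠ 0 := Fin.addCases
    (fun i => ne_zero_heq (Pieces.concat_L_left hex D₁ D₂ i) (e₁ i) (ht₁ i))
    (fun i => ne_zero_heq (Pieces.concat_L_right hex D₁ D₂ i) (e₂ i) (ht₂ i))
  let A := fun a : ℕ => esym hd t₁ ht₁ α r₁ a
  let B := fun a b : ℕ => esym hd t₂ ht₂ (A a) r₂ b
  have hA := isC_esym hX h₁E hd D₁ t₁ ht₁ hα
  have key : Cyc.RatEquiv δ (k - ((j : ℕ) : ℤ)) (γ j)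
      (∑ a ∈ Finset.range ((j : ℕ) + 1), B a (j - a)) := by
    have h := hγ.ratEquiv hX hE (isC_esym hX hE hd (Pieces.concat hex D₁ D₂) t ht hα) (ratEquiv_rfl α) j
    rwa [esym_right hd t ht t₁ ht₁ t₂ ht₂ α (Pieces.concat_L_left hex D₁ D₂) (Pieces.concat_L_right hex D₁ D₂) e₁ e₂
      r₂ le_rfl] at h
  rw [sum_conv B r₁ r₂ j (fun a b ha => ?_) (fun a b hb => esym_gt hd t₂ ht₂ _ r₂ b hb)] at key
  swap
  · show esym hd t₂ ht₂ (esym hd t₁ ht₁ α r₁ a) r₂ b = 0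
    rw [esym_gt hd t₁ ht₁ α r₁ a ha]
    refine Function.locallyFinsuppWithin.ext fun x => ?_
    exact esym_mem hd t₂ ht₂ 0 (k := δ x + b + 1) (fun _ _ => rfl) r₂ b x (by omega)
  refine show γ j - _ ∈ ratZero hd _ from ?_
  have h2 := ratEquiv_sum (δ := δ) (k := k - ((j : ℕ) : ℤ)) (s := Finset.univ (α := Fin (r₁ + 1)))
    (f := fun a => ∑ b : Fin (r₂ + 1), if (a : ℕ) + (b : ℕ) = (j : ℕ) then B a b else 0)
    (g := fun a => ∑ b : Fin (r₂ + 1), if (a : ℕ) + (b : ℕ) = (j : ℕ) then ε b a else 0) (fun a _ =>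
      ratEquiv_sum (fun b _ => by
        by_cases hab' : (a : ℕ) + (b : ℕ) = (j : ℕ)
        · rw [if_pos hab', if_pos hab']
          have hψ := hε b
          have hφ := isC_esym hX h₂E hd D₂ t₂ ht₂ (hA.mem hX h₁E a)
          have h := IsC.comm hX h₁E h₂E (i := a) (j := b) hα hA hφ hγ₂ hψ
          rwa [show k - ((a : ℕ) : ℤ) - ((b : ℕ) : ℤ) = k - ((j : ℕ) : ℤ) by omega] at h
        · rw [if_neg hab', if_neg hab']
          exact ratEquiv_rfl 0) hd) hd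
  have h3 := (ratZero hd _).add_mem (show _ ∈ ratZero hd _ from key) (show _ ∈ ratZero hd _ from h2)
  rwa [sub_add_sub_cancel] at h3

/-- The Whitney formula. -/
theorem whitney (hX : Cyc.IsSetup X δ) (hex : (ShortComplex.mk a b hab).ShortExact)
    (h₁E : FlatMod.IsFinLocFreeOfRank r₁ E₁) (h₂E : FlatMod.IsFinLocFreeOfRank r₂ E₂)
    (hE : FlatMod.IsFinLocFreeOfRank (r₁ + r₂) E) {k : ℤ}
    {α : AlgebraicCycle X ℤ} (hα : α ∈ Cyc.Zk X δ k) {γ₂ : Fin (r₂ + 1) → AlgebraicCycle X ℤ}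
    (hγ₂ : IsC δ E₂ r₂ k α γ₂) {ε : Fin (r₂ + 1) → Fin (r₁ + 1) → AlgebraicCycle X ℤ}
    (hε : ∀ b : Fin (r₂ + 1), IsC δ E₁ r₁ (k - ((b : ℕ) : ℤ)) (γ₂ b) (ε b))
    {γ : Fin (r₁ + r₂ + 1) → AlgebraicCycle X ℤ} (hγ : IsC δ E (r₁ + r₂) k α γ) (j : Fin (r₁ + r₂ + 1)) :
    Cyc.RatEquiv δ (k - ((j : ℕ) : ℤ)) (γ j)
      (∑ a : Fin (r₁ + 1), ∑ b : Fin (r₂ + 1), if (a : ℕ) + (b : ℕ) = (j : ℕ) then ε b a else 0) := by
  haveI := hX.1
  obtain ⟨P, π, d, hT, hF⟩ := exists_split_fin 2 ![E₁, E₂] ![r₁, r₂]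
    (fun i => by fin_cases i; exacts [h₁E, h₂E])
  haveI := hT.proper
  haveI := hT.flat
  have hP := isSetup_rd π hX
  refine ratEquiv_of_pullT hX hT (hγ.mem hX hE j)
    ((ChowOps.zk X δ _).sum_mem fun a _ => (ChowOps.zk X δ _).sum_mem fun b _ => ?_) ?_
  · split_ifs with h
    · have := (hε b).mem hX h₁E a
      rwa [show k - ((b : ℕ) : ℤ) - ((a : ℕ) : ℤ) = k - ((j : ℕ) : ℤ) by omega] at this
    · exact (ChowOps.zk X δ _).zero_mem
  have hsum : pullT hT hX (∑ a : Fin (r₁ + 1), ∑ b : Fin (r₂ + 1), if (a : ℕ) + (b : ℕ) = (j : ℕ) then ε b a else 0) =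
      ∑ a : Fin (r₁ + 1), ∑ b : Fin (r₂ + 1),
        if (a : ℕ) + (b : ℕ) = (j : ℕ) then pullT hT hX (ε b a) else 0 := by
    simp only [map_sum]
    refine Finset.sum_congr rfl fun a _ => Finset.sum_congr rfl fun b _ => ?_
    split_ifs
    · rfl
    · exact map_zero _
  rw [hsum]
  have hex' := H28.PullVB.shortExact_pullback π hex (KFlatLib.isFlat_of_isFinLocFree (isFinLocFree_of_rank h₂E))
  have h := whitney_filt hP (a := (Scheme.Modules.pullback π).map a) (b := (Scheme.Modules.pullback π).map b) hex'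
    (GrassFlag.rank_pullback π h₁E) (GrassFlag.rank_pullback π h₂E) (GrassFlag.rank_pullback π hE)
    (hF 0) (hF 1) (pullT_mem hX hT hα) (hγ₂.pullT hX h₂E hT)
    (ε := fun b a => pullT hT hX (ε b a)) (fun b => by
      have h := (hε b).pullT hX h₁E hT
      rwa [sub_add_eq_add_sub] at h) (hγ.pullT hX hE hT) j
  rwa [← sub_add_eq_add_sub] at h

end Groth.Agent.H23.Chern

end
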