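import Groth.Agent.H23.Chern.Whitney

/-! Extensions with an invertible sub-module. -/

set_option autoImplicit false
set_option backward.isDefEq.respectTransparency false
set_option backward.isDefEq.respectTransparency.types false

universe u

open CategoryTheory CategoryTheory.Limits AlgebraicGeometry TopologicalSpace Opposite

noncomputable section

namespace Groth.Agent.H23.Chern

open Groth.Agent Groth.Agent.H23.ProjBd RatSec ChowDesc

variable {X : Scheme.{u}} {δ : X → ℤ}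

/-- The caps with the classes of an invertible module. -/
theorem isC_line (hX : Cyc.IsSetup X δ) {L : X.Modules} (hL : PicF.IsInvertible L) {k : ℤ} {α β : AlgebraicCycle X ℤ}
    (hα : α ∈ Cyc.Zk X δ k) {t : (ξ : X) → Cyc.secFibre L ξ} (ht : ∀ ξ, t ξ ≠ 0)
    (hβ : ⇑β = Cyc.c1CapFun δ L ⇑α t) :
    IsC δ L 1 k α ![α, β] := by
  haveI := hX.1
  have h := isC_esym hX (InvEnd.isFinLocFreeOfRank_one hL) hX.2.2 (Pieces.single L hL) (fun _ => t) (fun _ => ht) hα
  convert h using 1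
  funext i
  fin_cases i
  · simp [esym_zero]
  · refine DFunLike.coe_injective ?_
    show ⇑β = ⇑(esym hX.2.2 (D := Pieces.single L hL) (fun _ => t) (fun _ => ht) α 1 1)
    simp only [esym, zero_add]
    rw [dif_pos Nat.one_pos, hβ]
    exact (coe_c1CapCycle hL hX.2.2 α t ht).symm

theorem whitney_line (hX : Cyc.IsSetup X δ) {L E F : X.Modules} (hL : PicF.IsInvertible L) {a : L ⟶ E} {b : E ⟶ F}
    {hab : a ≫ b = 0} (hex : (ShortComplex.mk a b hab).ShortExact) {m r : ℕ} (hr : r = 1 + m)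
    (hE : FlatMod.IsFinLocFreeOfRank r E) (hF : FlatMod.IsFinLocFreeOfRank m F) {k : ℤ}
    {α : AlgebraicCycle X ℤ} (hα : α ∈ Cyc.Zk X δ k) {γ : Fin (r + 1) → AlgebraicCycle X ℤ}
    (hγ : IsC δ E r k α γ) {γ' : Fin (m + 1) → AlgebraicCycle X ℤ} (hγ' : IsC δ F m k α γ')
    {t : (ξ : X) → Cyc.secFibre L ξ} (ht : ∀ ξ, t ξ ≠ 0) {ζ : Fin (m + 1) → AlgebraicCycle X ℤ}
    (hζ : ∀ j, ⇑(ζ j) = Cyc.c1CapFun δ L ⇑(γ' j) t) (j : Fin (r + 1)) :
    Cyc.RatEquiv δ (k - ((j : ℕ) : ℤ)) (γ j)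
      ((if h : (j : ℕ) < m + 1 then γ' ⟨j, h⟩ else 0) +
        ∑ b : Fin (m + 1), if (b : ℕ) + 1 = (j : ℕ) then ζ b else 0) := by
  subst hr
  have h := whitney hX hex (InvEnd.isFinLocFreeOfRank_one hL) hF hE hα hγ'
    (fun b => isC_line hX hL (hγ'.mem hX hF b) ht (hζ b)) hγ j
  refine Eq.mp ?_ h
  congr 1
  rw [Fin.sum_univ_two]
  congr 1
  · simp only [Fin.val_zero, Nat.zero_add, Matrix.cons_val_zero]
    split_ifs with hj
    · rw [Finset.sum_eq_single (⟨j, hj⟩ : Fin (m + 1)) (fun c _ hc => if_neg fun e => hc (Fin.ext e))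
        (fun hc => absurd (Finset.mem_univ _) hc), if_pos rfl]
    · exact Finset.sum_eq_zero fun c _ => if_neg fun e => hj (by have := c.2; omega)
  · simp only [Fin.val_one, Matrix.cons_val_one, Matrix.cons_val_fin_one, Nat.add_comm 1]

end Groth.Agent.H23.Chern

end
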